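import Cfsg.Prelude.Def_TwoFusion
import Cfsg.Prelude.Def_Transfer
import Cfsg.Prelude.Def_Solvable
import Cfsg.Agent.Lib.Thompson.Cores
import Cfsg.Agent.Lib.Involution.Dihedral
import Cfsg.Agent.Lib.Transfer.Focal
import Cfsg.Agent.S0205
import Cfsg.Agent.S0217

/-!
# A criterion for a strongly closed elementary abelian 2-subgroup to be normal modulo the core

If `A` is strongly closed, self-centralizing in a Sylow 2-subgroup, of rank at least three, has
no element fused to all the others, and every centralizer `C(a)` is the product of its core and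
of the normalizer of `A` in it, then `A O(G)` is normal.
-/

set_option autoImplicit false

namespace Cfsg.Agent.StrClosed41

open Subgroup

variable {G : Type*} [Group G]

/-- The core of a subgroup, as a subgroup of the ambient group. -/
def oddOf (C : Subgroup G) : Subgroup G := (Cfsg.pPrimeCore 2 ↥C).map C.subtype

theorem oddOf_le (C : Subgroup G) : oddOf C ≤ C := map_subtype_le _

theorem card_oddOf [Finite G] (C : Subgroup G) :
    Nat.card (oddOf C) = Nat.card (Cfsg.pPrimeCore 2 ↥C) :=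
  card_map_of_injective C.subtype_injective

theorem oddOf_odd [Finite G] (C : Subgroup G) : Odd (Nat.card (oddOf C)) := by
  rw [card_oddOf]
  exact Nat.coprime_two_right.mp Thompson.card_pPrimeCore_coprime

theorem le_normalizer_oddOf (C : Subgroup G) : C ≤ normalizer (oddOf C : Set G) := by
  have hn : (Cfsg.pPrimeCore 2 ↥C).Normal := Thompson.sSup_normal fun N hN => hN.1
  intro c hc
  rw [mem_normalizer_iff]
  intro x
  constructor
  · rintro ⟨y, hy, rfl⟩
    exact ⟨_, hn.conj_mem y hy ⟨c, hc⟩, by simp⟩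
  · rintro ⟨y, hy, hxy⟩
    refine ⟨_, hn.conj_mem y hy ⟨c⁻¹, C.inv_mem hc⟩, ?_⟩
    simp only [map_mul, map_inv, Subgroup.coe_subtype] at hxy ⊢
    rw [hxy]
    group

theorem le_oddOf [Finite G] {C U : Subgroup G} (hUC : U ≤ C) (hU : Odd (Nat.card U))
    (hn : C ≤ normalizer (U : Set G)) : U ≤ oddOf C := by
  intro u hu
  have hN : (U.subgroupOf C).Normal :=
    ⟨fun x hx c => (mem_normalizer_iff.mp (hn c.2) _).mp hx⟩
  have hc : (Nat.card (U.subgroupOf C)).Coprime 2 := by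
    rw [Nat.card_congr (subgroupOfEquivOfLe hUC).toEquiv]
    exact Nat.coprime_two_right.mpr hU
  exact ⟨⟨u, hUC hu⟩, Thompson.le_pPrimeCore hN hc (mem_subgroupOf.mpr hu), rfl⟩

theorem oddOf_top [Finite G] : oddOf (⊤ : Subgroup G) = Cfsg.pPrimeCore 2 G := by
  have hn : (Cfsg.pPrimeCore 2 G).Normal := Thompson.sSup_normal fun N hN => hN.1
  refine le_antisymm (Thompson.le_pPrimeCore ?_ ?_) (le_oddOf le_top ?_ ?_)
  · exact ⟨fun x hx g => (mem_normalizer_iff.mp (le_normalizer_oddOf _ (mem_top g)) x).mp hx⟩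
  · exact Nat.coprime_two_right.mpr (oddOf_odd _)
  · exact Nat.coprime_two_right.mp Thompson.card_pPrimeCore_coprime
  · intro g _
    rw [normalizer_eq_top (H := Cfsg.pPrimeCore 2 G)]
    exact mem_top g

/-- A 2-group contains no nontrivial element of odd order. -/
theorem eq_one_of_mem_two_odd [Finite G] {P O : Subgroup G} (hP : IsPGroup 2 P)
    (hO : Odd (Nat.card O)) {x : G} (hxP : x ∈ P) (hxO : x ∈ O) : x = 1 := by
  obtain ⟨k, hk⟩ := hP ⟨x, hxP⟩
  have h1 : orderOf x ∣ 2 ^ k := orderOf_dvd_of_pow_eq_one (congrArg Subtype.val hk)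
  have h2 : orderOf x ∣ Nat.card O := O.orderOf_dvd_natCard hxO
  exact orderOf_eq_one_iff.mp (Nat.Coprime.eq_one_of_dvd
    ((Nat.coprime_two_right.mpr hO).pow_right k |>.coprime_dvd_left h2 |>.symm.coprime_dvd_left h1
      |>.coprime_dvd_left dvd_rfl) dvd_rfl)

/-- In a finite group it is enough to map a subgroup into itself to normalize it. -/
theorem mem_normalizer_of_maps [Finite G] {A : Subgroup G} {g : G}
    (h : ∀ y ∈ A, g * y * g⁻¹ ∈ A) : g ∈ normalizer (A : Set G) :=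
  mem_normalizer_fintype h

theorem odd_card_sup [Finite G] {O Y : Subgroup G} (hO : Odd (Nat.card O))
    (hY : Odd (Nat.card Y)) (h : Y ≤ normalizer (O : Set G)) : Odd (Nat.card ↥(O ⊔ Y)) := by
  set N := normalizer (O : Set G) with hN
  haveI : (O.subgroupOf N).Normal := normal_in_normalizer
  have h1 : ((Y.subgroupOf N) ⊔ (O.subgroupOf N)).map N.subtype = O ⊔ Y := by
    rw [Subgroup.map_sup, map_subgroupOf_eq_of_le h, map_subgroupOf_eq_of_le le_normalizer, sup_comm]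
  rw [← h1, card_map_of_injective N.subtype_injective]
  refine Odd.of_dvd_nat ?_ (Thompson.card_sup_dvd_mul _ _)
  rw [Nat.card_congr (subgroupOfEquivOfLe h).toEquiv,
    Nat.card_congr (subgroupOfEquivOfLe (le_normalizer : O ≤ N)).toEquiv]
  exact hY.mul hO

section Closed

variable [Finite G] {A : Subgroup G} {S : Sylow 2 G}

/-- Strong closure does not depend on the Sylow subgroup. -/
theorem mem_of_conj (hA : Cfsg.IsStronglyClosed A (S : Subgroup G)) (T : Sylow 2 G)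
    (hAT : A ≤ (T : Subgroup G)) {x g : G} (hx : x ∈ A) (h : g * x * g⁻¹ ∈ (T : Subgroup G)) :
    g * x * g⁻¹ ∈ A := by
  haveI : Fact (Nat.Prime 2) := ⟨Nat.prime_two⟩
  obtain ⟨c, hc⟩ := MulAction.exists_smul_eq G T S
  have hmem : ∀ {y : G}, y ∈ (T : Subgroup G) → c * y * c⁻¹ ∈ (S : Subgroup G) := by
    intro y hy
    rw [← hc]
    exact ⟨y, hy, rfl⟩
  have hcA : ∀ {y : G}, y ∈ A → c * y * c⁻¹ ∈ A := fun hy => hA.2 _ hy c (hmem (hAT hy))
  have hc2 : c ∈ normalizer (A : Set G) := mem_normalizer_of_maps fun y hy => hcA hy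
  refine (mem_normalizer_iff.mp hc2 _).mpr ?_
  have h2 := hmem h
  rw [show c * (g * x * g⁻¹) * c⁻¹ = c * g * x * (c * g)⁻¹ by group] at h2 ⊢
  exact hA.2 _ hx (c * g) h2

/-- A 2-subgroup containing `A` normalizes it. -/
theorem le_normalizer_of_two (hA : Cfsg.IsStronglyClosed A (S : Subgroup G)) {P : Subgroup G}
    (hP : IsPGroup 2 P) (hAP : A ≤ P) : P ≤ normalizer (A : Set G) := by
  obtain ⟨T, hT⟩ := hP.exists_le_sylow
  intro p hp
  refine mem_normalizer_of_maps fun y hy => ?_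
  exact mem_of_conj hA T (hAP.trans hT) hy
    (mul_mem (mul_mem (hT hp) (hT (hAP hy))) (inv_mem (hT hp)))

/-- A conjugate of `A` inside a 2-group containing `A` equals `A`. -/
theorem mem_normalizer_of_conj_le (hA : Cfsg.IsStronglyClosed A (S : Subgroup G)) {P : Subgroup G}
    (hP : IsPGroup 2 P) (hAP : A ≤ P) {g : G} (hg : ∀ y ∈ A, g * y * g⁻¹ ∈ P) :
    g ∈ normalizer (A : Set G) := by
  obtain ⟨T, hT⟩ := hP.exists_le_sylow
  exact mem_normalizer_of_maps fun y hy => mem_of_conj hA T (hAP.trans hT) hy (hT (hg y hy))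

/-- Two 2-subgroups of `C` are conjugate into a common 2-subgroup of `C`. -/
theorem exists_conj_mem_two (C P Q : Subgroup G) (hP : IsPGroup 2 P) (hQ : IsPGroup 2 Q)
    (hPC : P ≤ C) (hQC : Q ≤ C) :
    ∃ R : Subgroup G, IsPGroup 2 R ∧ R ≤ C ∧ P ≤ R ∧ ∃ c ∈ C, ∀ y ∈ Q, c * y * c⁻¹ ∈ R := by
  haveI : Fact (Nat.Prime 2) := ⟨Nat.prime_two⟩
  obtain ⟨T1, hT1⟩ := (hP.comap_subtype : IsPGroup 2 (P.subgroupOf C)).exists_le_sylow
  obtain ⟨T2, hT2⟩ := (hQ.comap_subtype : IsPGroup 2 (Q.subgroupOf C)).exists_le_sylow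
  obtain ⟨c, hc⟩ := MulAction.exists_smul_eq C T2 T1
  refine ⟨(T1 : Subgroup C).map C.subtype, T1.isPGroup'.map _, map_subtype_le _, ?_, c, c.2, ?_⟩
  · intro y hy
    exact ⟨⟨y, hPC hy⟩, hT1 (mem_subgroupOf.mpr hy), rfl⟩
  · intro y hy
    refine ⟨c * ⟨y, hQC hy⟩ * c⁻¹, ?_, rfl⟩
    rw [← hc]
    exact ⟨⟨y, hQC hy⟩, hT2 (mem_subgroupOf.mpr hy), rfl⟩

theorem map_conj_mem {g y : G} (hy : y ∈ A.map (MulAut.conj g).toMonoidHom) :
    ∃ x ∈ A, g * x * g⁻¹ = y := by
  obtain ⟨x, hx, rfl⟩ := hy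
  exact ⟨x, hx, rfl⟩

/-- Two conjugates of `A` inside a subgroup `C` are conjugate in `C`. -/
theorem exists_mem_normalizer_of_le (hA : Cfsg.IsStronglyClosed A (S : Subgroup G))
    {C : Subgroup G} (hAC : A ≤ C) {g : G} (hgC : ∀ y ∈ A, g * y * g⁻¹ ∈ C) :
    ∃ c ∈ C, c * g ∈ normalizer (A : Set G) := by
  have h2 : IsPGroup 2 A := S.isPGroup'.to_le hA.1
  obtain ⟨R, hR, -, hAR, c, hc, hcR⟩ := exists_conj_mem_two C A
    (A.map (MulAut.conj g).toMonoidHom) h2 (h2.map _) hAC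
    (by intro y hy; obtain ⟨x, hx, rfl⟩ := map_conj_mem hy; exact hgC x hx)
  refine ⟨c, hc, mem_normalizer_of_conj_le hA hR hAR fun y hy => ?_⟩
  have := hcR (g * y * g⁻¹) ⟨y, hy, rfl⟩
  rwa [show c * g * y * (c * g)⁻¹ = c * (g * y * g⁻¹) * c⁻¹ by group]

/-- Burnside: the normalizer controls fusion in `A`, relatively to an overgroup `D`. -/
theorem exists_normalizer_conj (hA : Cfsg.IsStronglyClosed A (S : Subgroup G))
    (hAc : IsMulCommutative A) {D : Subgroup G} (hAD : A ≤ D) {x g : G} (hx : x ∈ A) (hg : g ∈ D)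
    (h : g * x * g⁻¹ ∈ A) :
    ∃ n ∈ D ⊓ normalizer (A : Set G), n * x * n⁻¹ = g * x * g⁻¹ := by
  set y := g * x * g⁻¹ with hy
  have hcomm : ∀ {u v : G}, u ∈ A → v ∈ A → u * v = v * u := fun hu hv =>
    congrArg Subtype.val (hAc.is_comm.comm ⟨_, hu⟩ ⟨_, hv⟩)
  obtain ⟨c, hcm, hcg⟩ := exists_mem_normalizer_of_le hA
    (C := centralizer ({y} : Set G) ⊓ D) (g := g)
    (le_inf (fun u hu => mem_centralizer_singleton_iff.mpr (hcomm hu h)) hAD)
    (fun u hu => Subgroup.mem_inf.mpr ⟨mem_centralizer_singleton_iff.mpr (by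
      rw [hy, show g * u * g⁻¹ * (g * x * g⁻¹) = g * (u * x) * g⁻¹ by group, hcomm hu hx]; group),
      mul_mem (mul_mem hg (hAD hu)) (inv_mem hg)⟩)
  obtain ⟨hc, hcD⟩ := Subgroup.mem_inf.mp hcm
  refine ⟨c * g, Subgroup.mem_inf.mpr ⟨mul_mem hcD hg, hcg⟩, ?_⟩
  rw [show c * g * x * (c * g)⁻¹ = c * y * c⁻¹ by rw [hy]; group,
    mem_centralizer_singleton_iff.mp hc]
  group

/-- The involution in the dihedral group of two non-conjugate involutions fused into `A`, and
one of them, lie in a common conjugate of `A`. -/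
theorem exists_common_conj (hA : Cfsg.IsStronglyClosed A (S : Subgroup G)) {a b : G}
    (haA : a ∈ A) (ha : orderOf a = 2) (hb : orderOf b = 2) (hbA : ∃ g : G, g * b * g⁻¹ ∈ A)
    (hnc : ¬ IsConj a b) :
    ∃ w h : G, orderOf w = 2 ∧ Commute w a ∧ Commute w b ∧ w ∈ zpowers (a * b) ∧
      h * w * h⁻¹ ∈ A ∧ h * a * h⁻¹ ∈ A := by
  haveI : Fact (Nat.Prime 2) := ⟨Nat.prime_two⟩
  obtain ⟨w, hw, hwa, hwb, hwd⟩ := Involution.exists_commuting_involution ha hb hnc
  have ha' := Involution.mul_self_of_orderOf ha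
  have hb' := Involution.mul_self_of_orderOf hb
  obtain ⟨k, hk⟩ := hwd
  simp only at hk
  -- `a * w` is conjugate to `a` or to `b`
  obtain ⟨g, hgA⟩ : ∃ g : G, g * (a * w) * g⁻¹ ∈ A := by
    rcases Int.even_or_odd k with ⟨j, rfl⟩ | ⟨j, rfl⟩
    · have h1 := Involution.conj_zpow_left ha' hb' (-j)
      rw [show -(2 * -j) = j + j by ring, hk] at h1
      refine ⟨((a * b) ^ (-j))⁻¹, ?_⟩
      rw [← h1, show ((a * b) ^ (-j))⁻¹ * ((a * b) ^ (-j) * a * ((a * b) ^ (-j))⁻¹) *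
        ((a * b) ^ (-j))⁻¹⁻¹ = a by group]
      exact haA
    · obtain ⟨g, hg⟩ := hbA
      refine ⟨g * (a * b) ^ j, ?_⟩
      have h1 : a * w = (a * b) ^ (-j) * b * ((a * b) ^ (-j))⁻¹ := by
        have h2 := Involution.zpow_mul_left ha' hb' (-j)
        rw [neg_neg] at h2
        calc a * w = a * (a * b) ^ j * (a * (a * (a * b) ^ (j + 1))) := by
              rw [← mul_assoc a a, ha', one_mul, ← hk, mul_assoc, ← zpow_add]; ring_nf
          _ = (a * b) ^ (-j) * a * ((a * b) * (a * b) ^ j) := by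
              rw [← mul_assoc a a, ha', one_mul, ← h2, add_comm j 1, zpow_one_add]
          _ = (a * b) ^ (-j) * b * ((a * b) ^ (-j))⁻¹ := by
              rw [mul_assoc a b, ← mul_assoc, mul_assoc ((a * b) ^ (-j)) a a] at *
              simp [mul_assoc, ← mul_assoc a a, ha', zpow_neg]
      rw [h1, show g * (a * b) ^ j * ((a * b) ^ (-j) * b * ((a * b) ^ (-j))⁻¹) *
        (g * (a * b) ^ j)⁻¹ = g * b * g⁻¹ by group]
      exact hg
  -- a Sylow subgroup containing both, conjugated onto `S`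
  set F : Subgroup G := closure ({a, w} : Set G) with hF
  have hF2 : IsPGroup 2 F := by
    intro z
    refine ⟨1, Subtype.ext ?_⟩
    have hmem := (Involution.mem_closure_pair_involutions ha' (Involution.mul_self_of_orderOf hw)).mp z.2
    have haw : (a * w) * (a * w) = 1 := by
      rw [mul_assoc, ← mul_assoc w a w, hwa.eq, mul_assoc a w w, Involution.mul_self_of_orderOf hw,
        mul_one, ha']
    obtain ⟨i, hi | hi⟩ := hmem <;>
      simp only [pow_one, pow_two, Subgroup.coe_mul, Subgroup.coe_one, hi]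
    · rw [← zpow_add, ← two_mul, zpow_mul, zpow_two, haw, one_zpow]
    · exact Involution.left_mul_zpow_sq ha' (Involution.mul_self_of_orderOf hw) i
  obtain ⟨T, hT⟩ := hF2.exists_le_sylow
  obtain ⟨h, hh⟩ := MulAction.exists_smul_eq G T S
  have hmem : ∀ {y : G}, y ∈ (T : Subgroup G) → h * y * h⁻¹ ∈ (S : Subgroup G) := by
    intro y hy; rw [← hh]; exact ⟨y, hy, rfl⟩
  have haS := hA.2 a haA h (hmem (hT (subset_closure (by simp))))
  have hawS : h * (a * w) * h⁻¹ ∈ A := by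
    have h2 := hmem (hT (mul_mem (subset_closure (by simp)) (subset_closure (by simp) : w ∈ F) :
      a * w ∈ F))
    have h3 := hA.2 _ hgA (h * g⁻¹) (by
      rwa [show h * g⁻¹ * (g * (a * w) * g⁻¹) * (h * g⁻¹)⁻¹ = h * (a * w) * h⁻¹ by group])
    rwa [show h * g⁻¹ * (g * (a * w) * g⁻¹) * (h * g⁻¹)⁻¹ = h * (a * w) * h⁻¹ by group] at h3
  refine ⟨w, h, hw, hwa, hwb, ⟨k, hk⟩, ?_, haS⟩
  have := mul_mem (inv_mem haS) hawS
  rwa [show (h * a * h⁻¹)⁻¹ * (h * (a * w) * h⁻¹) = h * w * h⁻¹ by group] at this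

/-- A subgroup containing all `C(a)` and `N(A)` is everything when no class covers `A`. -/
theorem eq_top_of_centralizers_le (hA : Cfsg.IsStronglyClosed A (S : Subgroup G))
    (hAe : Cfsg.IsElementaryAbelian 2 A)
    (hnc : ∀ b ∈ A, b ≠ 1 → ∃ a ∈ A, a ≠ 1 ∧ ¬ IsConj a b) (hA1 : A ≠ ⊥) (M : Subgroup G)
    (hC : ∀ a ∈ A, a ≠ 1 → centralizer ({a} : Set G) ≤ M)
    (hN : normalizer (A : Set G) ≤ M) : M = ⊤ := by
  haveI : Fact (Nat.Prime 2) := ⟨Nat.prime_two⟩
  have hord : ∀ {a : G}, a ∈ A → a ≠ 1 → orderOf a = 2 := fun ha ha1 =>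
    orderOf_eq_prime (hAe.2 _ ha) ha1
  have hcomm : ∀ {u v : G}, u ∈ A → v ∈ A → u * v = v * u := fun hu hv =>
    congrArg Subtype.val (hAe.1.is_comm.comm ⟨_, hu⟩ ⟨_, hv⟩)
  have key : ∀ b ∈ A, b ≠ 1 → ∀ g : G, g * b * g⁻¹ ∈ M := by
    intro b hb hb1 g
    obtain ⟨a, ha, ha1, hab⟩ := hnc b hb hb1
    have hb' : orderOf (g * b * g⁻¹) = 2 := by
      rw [← MulAut.conj_apply, MulEquiv.orderOf_eq]; exact hord hb hb1
    obtain ⟨w, h, hw, hwa, hwb, -, hhw, hha⟩ := exists_common_conj hA ha (hord ha ha1) hb'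
      ⟨g⁻¹, by rwa [show g⁻¹ * (g * b * g⁻¹) * g⁻¹⁻¹ = b by group]⟩
      (fun hc => hab (hc.trans (isConj_iff.mpr ⟨g⁻¹, by group⟩)))
    obtain ⟨c, hc, hcn⟩ := exists_mem_normalizer_of_le hA (C := centralizer ({a} : Set G))
      (g := h⁻¹) (fun u hu => mem_centralizer_singleton_iff.mpr (hcomm hu ha)) (fun u hu => by
        refine mem_centralizer_singleton_iff.mpr ?_
        calc h⁻¹ * u * h⁻¹⁻¹ * a = h⁻¹ * (u * (h * a * h⁻¹)) * h := by group
          _ = h⁻¹ * ((h * a * h⁻¹) * u) * h := by rw [hcomm hu hha]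
          _ = a * (h⁻¹ * u * h⁻¹⁻¹) := by group)
    have hhM : h ∈ M := by
      have := inv_mem (mul_mem (inv_mem (hC a ha ha1 hc)) (hN hcn))
      rwa [← mul_assoc, inv_mul_cancel, one_mul, inv_inv] at this
    set y := h * (g * b * g⁻¹) * h⁻¹ with hy
    have hw1 : h * w * h⁻¹ ≠ 1 := fun e => Involution.ne_one_of_orderOf hw (conj_eq_one_iff.mp e)
    have hyM : y ∈ M := hC _ hhw hw1 (mem_centralizer_singleton_iff.mpr (by
      rw [hy, show h * (g * b * g⁻¹) * h⁻¹ * (h * w * h⁻¹) = h * (g * b * g⁻¹ * w) * h⁻¹ by group,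
        ← hwb.eq]; group))
    have := mul_mem (mul_mem (inv_mem hhM) hyM) hhM
    rwa [hy, show h⁻¹ * (h * (g * b * g⁻¹) * h⁻¹) * h = g * b * g⁻¹ by group] at this
  obtain ⟨a, ha, ha1⟩ : ∃ a ∈ A, a ≠ 1 := A.bot_or_exists_ne_one.resolve_left hA1
  have hAM : A ≤ M := fun u hu => hC a ha ha1 (mem_centralizer_singleton_iff.mpr (hcomm hu ha))
  rw [eq_top_iff]
  intro g _
  obtain ⟨c, hc, hcn⟩ := exists_mem_normalizer_of_le hA hAM (g := g) (fun u hu => by
    by_cases hu1 : u = 1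
    · subst hu1; simp
    · exact key u hu hu1 g)
  simpa using mul_mem (inv_mem hc) (hN hcn)

end Closed

/-- `C` is the product of its core and of its normalizer of `A`. -/
def Good (A C : Subgroup G) : Prop :=
  ∀ g ∈ C, ∃ o ∈ oddOf C, ∃ n ∈ normalizer (A : Set G), g = o * n

theorem Good.commutator_mem [Finite G] {A C : Subgroup G} (hg : Good A C) (hAC : A ≤ C)
    {x a : G} (hx : x ∈ C) (ha : a ∈ A) : ∃ o ∈ oddOf C, ∃ a' ∈ A, x * a * x⁻¹ = o * a' := by
  obtain ⟨o, ho, n, hn, rfl⟩ := hg x hx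
  have hn' : n * a * n⁻¹ ∈ A := (mem_normalizer_iff.mp hn a).mp ha
  refine ⟨o * ((n * a * n⁻¹) * o⁻¹ * (n * a * n⁻¹)⁻¹), mul_mem ho ?_, n * a * n⁻¹, hn', by group⟩
  exact (mem_normalizer_iff.mp (le_normalizer_oddOf C (hAC hn')) _).mp (inv_mem ho)

/-- `C(A)` has a normal 2-complement when `A` contains all its 2-elements. -/
theorem hasNormalPComplement_centralizer [Finite G] {A : Subgroup G}
    (hAe : Cfsg.IsElementaryAbelian 2 A)
    (hCA : ∀ x : G, x ∈ centralizer (A : Set G) → IsPGroup 2 (zpowers x) → x ∈ A) :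
    Cfsg.HasNormalPComplement 2 ↥(centralizer (A : Set G)) := by
  haveI : Fact (Nat.Prime 2) := ⟨Nat.prime_two⟩
  set Z := centralizer (A : Set G) with hZ
  have hcentral : ∀ x ∈ A, ∀ g ∈ Z, g * x * g⁻¹ = x := fun x hx g hg => by
    rw [← mem_centralizer_iff.mp hg x hx, mul_inv_cancel_right]
  obtain ⟨T⟩ : Nonempty (Sylow 2 Z) := inferInstance
  have hTA : ∀ x ∈ (T : Subgroup Z), (x : G) ∈ A := fun x hx => hCA _ x.2 (by
    refine (T.isPGroup'.map Z.subtype).to_le ?_
    rw [zpowers_le]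
    exact ⟨x, hx, rfl⟩)
  exact Transfer.hasNormalPComplement_of_control (P := T)
    fun x hx y _ ⟨g, hg⟩ => ⟨1, one_mem _, Subtype.ext (by
      have := hcentral _ (hTA x hx) _ g.2
      rw [← hg]; simp [this])⟩

/-- Balance from goodness. -/
theorem core_inf_centralizer_le_of_complement [Finite G] {A : Subgroup G} {S : Sylow 2 G}
    (hAS : A ≤ (S : Subgroup G)) (hAe : Cfsg.IsElementaryAbelian 2 A)
    (hcomp : Cfsg.HasNormalPComplement 2 ↥(centralizer (A : Set G)))
    {a b : G} (ha : a ∈ A) (hb : b ∈ A)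
    (hgood : Good A (centralizer ({b} : Set G))) :
    oddOf (centralizer ({a} : Set G)) ⊓ centralizer ({b} : Set G) ≤
      oddOf (centralizer ({b} : Set G)) := by
  haveI : Fact (Nat.Prime 2) := ⟨Nat.prime_two⟩
  set C := centralizer ({b} : Set G) with hC
  set D := centralizer ({a} : Set G) with hD
  have hcomm : ∀ {u v : G}, u ∈ A → v ∈ A → u * v = v * u := fun hu hv =>
    congrArg Subtype.val (hAe.1.is_comm.comm ⟨_, hu⟩ ⟨_, hv⟩)
  have hAC : A ≤ C := fun u hu => mem_centralizer_singleton_iff.mpr (hcomm hu hb)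
  have hAD : A ≤ D := fun u hu => mem_centralizer_singleton_iff.mpr (hcomm hu ha)
  set O := oddOf C with hO
  -- `C(A)` is `A` times a normal subgroup of odd order
  set Z := centralizer (A : Set G) with hZ
  have hAZ : A ≤ Z := fun u hu => mem_centralizer_iff.mpr fun v hv => hcomm hv hu
  have hZC : Z ≤ C := centralizer_le (Set.singleton_subset_iff.mpr hb)
  have hA2 : IsPGroup 2 A := S.isPGroup'.to_le hAS
  intro u hu
  obtain ⟨huD, huC⟩ := Subgroup.mem_inf.mp hu
  obtain ⟨o, ho, n, hn, rfl⟩ := hgood u huC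
  -- `n` centralizes `A`
  have hnC : n ∈ C := by simpa using mul_mem (inv_mem (oddOf_le C ho)) huC
  have hnZ : n ∈ Z := by
    refine mem_centralizer_iff.mpr fun v hv => ?_
    have hv' : n * v * n⁻¹ * v⁻¹ ∈ A := mul_mem ((mem_normalizer_iff.mp hn v).mp hv) (inv_mem hv)
    -- the commutator lies in an odd subgroup
    set Y := oddOf D ⊓ C with hY
    have hsupodd : Odd (Nat.card ↥(O ⊔ Y)) := odd_card_sup (oddOf_odd C)
      ((oddOf_odd D).of_dvd_nat (card_dvd_of_le inf_le_left))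
      (inf_le_right.trans (le_normalizer_oddOf C))
    have hu' : o * n ∈ O ⊔ Y := mem_sup_right (Subgroup.mem_inf.mpr ⟨huD, huC⟩)
    have hn' : n ∈ O ⊔ Y := by simpa using mul_mem (inv_mem (mem_sup_left ho)) hu'
    have hvn : ∀ w ∈ O ⊔ Y, v * w * v⁻¹ ∈ O ⊔ Y := by
      have : O ⊔ Y ≤ (O ⊔ Y).comap (MulAut.conj v).toMonoidHom := by
        refine sup_le (fun w hw => mem_sup_left ?_) (fun w hw => mem_sup_right (Subgroup.mem_inf.mpr ⟨?_, ?_⟩))
        · exact (mem_normalizer_iff.mp (le_normalizer_oddOf C (hAC hv)) _).mp hw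
        · exact (mem_normalizer_iff.mp (le_normalizer_oddOf D (hAD hv)) _).mp (Subgroup.mem_inf.mp hw).1
        · exact mul_mem (mul_mem (hAC hv) (Subgroup.mem_inf.mp hw).2) (inv_mem (hAC hv))
      exact fun w hw => this hw
    have hmem : n * v * n⁻¹ * v⁻¹ ∈ O ⊔ Y := by
      rw [show n * v * n⁻¹ * v⁻¹ = n * (v * n⁻¹ * v⁻¹) by group]
      exact mul_mem hn' (hvn _ (inv_mem hn'))
    have := eq_one_of_mem_two_odd hA2 hsupodd hv' hmem
    exact (mul_inv_eq_iff_eq_mul.mp (mul_inv_eq_one.mp this)).symm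
  -- `Z` has a normal complement
  obtain ⟨T⟩ : Nonempty (Sylow 2 Z) := inferInstance
  set R : Subgroup G := (Cfsg.pResidual 2 Z).map Z.subtype with hR
  have hRmem : ∀ {x : G}, x ∈ R ↔ x ∈ Z ∧ (orderOf x).Coprime 2 := by
    intro x
    constructor
    · rintro ⟨y, hy, rfl⟩
      refine ⟨y.2, ?_⟩
      rw [Subgroup.coe_subtype, orderOf_coe]
      exact (Transfer.mem_pResidual_iff_coprime hcomp).mp hy
    · rintro ⟨hx, hc⟩
      exact ⟨⟨x, hx⟩, (Transfer.mem_pResidual_iff_coprime hcomp).mpr (by rwa [Subgroup.orderOf_mk]),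
        rfl⟩
  have hRodd : Odd (Nat.card R) := by
    rw [hR, card_map_of_injective Z.subtype_injective, ← Nat.not_even_iff_odd, even_iff_two_dvd]
    exact Transfer.hasNormalPComplement_iff_not_dvd.mp hcomp
  have hRC : R ≤ C := fun x hx => hZC (hRmem.mp hx).1
  have hRn : ∀ m ∈ C, m ∈ normalizer (A : Set G) → ∀ x ∈ R, m * x * m⁻¹ ∈ R := by
    intro m _ hm x hx
    obtain ⟨hxZ, hxc⟩ := hRmem.mp hx
    refine hRmem.mpr ⟨mem_centralizer_iff.mpr fun v hv => ?_, ?_⟩
    · have h1 := mem_centralizer_iff.mp hxZ (m⁻¹ * v * m)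
        ((mem_normalizer_iff''.mp hm v).mp hv)
      calc v * (m * x * m⁻¹) = m * (m⁻¹ * v * m * x) * m⁻¹ := by group
        _ = m * (x * (m⁻¹ * v * m)) * m⁻¹ := by rw [h1]
        _ = m * x * m⁻¹ * v := by group
    · rwa [← MulAut.conj_apply, MulEquiv.orderOf_eq]
  have hOR : O ⊔ R ≤ O := le_oddOf (sup_le (oddOf_le C) hRC)
    (odd_card_sup (oddOf_odd C) hRodd (hRC.trans (le_normalizer_oddOf C))) (by
      intro g hg
      obtain ⟨o', ho', m, hm, rfl⟩ := hgood g hg
      refine mul_mem (le_normalizer (mem_sup_left ho')) ?_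
      have hmC : m ∈ C := by simpa using mul_mem (inv_mem (oddOf_le C ho')) hg
      have hmap : O ⊔ R ≤ (O ⊔ R).comap (MulAut.conj m).toMonoidHom :=
        sup_le (fun x hx => mem_sup_left
            ((mem_normalizer_iff.mp (le_normalizer_oddOf C hmC) x).mp hx))
          (fun x hx => mem_sup_right (hRn m hmC hm x hx))
      exact mem_normalizer_of_maps fun x hx => hmap hx)
  obtain ⟨⟨⟨r, hr⟩, ⟨t, ht⟩⟩, hrt⟩ :=
    (Transfer.isComplement'_pResidual hcomp T).2 ⟨n, hnZ⟩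
  simp only at hrt
  have hrt' : (r : G) * t = n := congrArg Subtype.val hrt
  have hrO : (r : G) ∈ O := hOR (mem_sup_right ⟨r, hr, rfl⟩)
  -- the part of `n` in `A` lies in a subgroup of odd order
  have hodd : Odd (Nat.card ↥(O ⊔ (oddOf D ⊓ C))) := odd_card_sup (oddOf_odd C)
    ((oddOf_odd D).of_dvd_nat (card_dvd_of_le inf_le_left))
    (inf_le_right.trans (le_normalizer_oddOf C))
  have ht1 : (t : G) = 1 := by
    refine eq_one_of_mem_two_odd (T.isPGroup'.map Z.subtype) hodd ⟨t, ht, rfl⟩ ?_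
    rw [show (t : G) = (r : G)⁻¹ * (o⁻¹ * (o * n)) by rw [← hrt']; group]
    exact mul_mem (mem_sup_left (inv_mem hrO)) (mul_mem (mem_sup_left (inv_mem ho))
      (mem_sup_right (Subgroup.mem_inf.mpr ⟨huD, huC⟩)))
  rw [ht1, mul_one] at hrt'
  exact mul_mem ho (hrt' ▸ hrO)

/-- Balance from goodness, when `A` contains every 2-element centralizing it. -/
theorem core_inf_centralizer_le [Finite G] {A : Subgroup G} {S : Sylow 2 G}
    (hAS : A ≤ (S : Subgroup G)) (hAe : Cfsg.IsElementaryAbelian 2 A)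
    (hCA : ∀ x : G, x ∈ centralizer (A : Set G) → IsPGroup 2 (zpowers x) → x ∈ A)
    {a b : G} (ha : a ∈ A) (hb : b ∈ A)
    (hgood : Good A (centralizer ({b} : Set G))) :
    oddOf (centralizer ({a} : Set G)) ⊓ centralizer ({b} : Set G) ≤
      oddOf (centralizer ({b} : Set G)) :=
  core_inf_centralizer_le_of_complement hAS hAe
    (hasNormalPComplement_centralizer hAe hCA) ha hb hgood

/-- `A O(G)` is normal when every centralizer is good and no class covers `A`. -/
theorem normal_sup_pPrimeCore_of_good_of_complement {G : Type*} [Group G] [Finite G] {A : Subgroup G}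
    {S : Sylow 2 G} (hA : Cfsg.IsStronglyClosed A (S : Subgroup G))
    (hAe : Cfsg.IsElementaryAbelian 2 A) (hA8 : 8 ≤ Nat.card A)
    (hcomp : Cfsg.HasNormalPComplement 2 ↥(centralizer (A : Set G)))
    (hnc : ∀ b ∈ A, b ≠ 1 → ∃ a ∈ A, a ≠ 1 ∧ ¬ IsConj a b)
    (hgood : ∀ a ∈ A, a ≠ 1 → Good A (centralizer ({a} : Set G))) :
    (A ⊔ Cfsg.pPrimeCore 2 G).Normal := by
  haveI : Fact (Nat.Prime 2) := ⟨Nat.prime_two⟩
  have hcomm : ∀ {u v : G}, u ∈ A → v ∈ A → u * v = v * u := fun hu hv =>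
    congrArg Subtype.val (hAe.1.is_comm.comm ⟨_, hu⟩ ⟨_, hv⟩)
  have hA1 : A ≠ ⊥ := by
    rintro rfl
    simp at hA8
  set θ : G → Subgroup G := fun a => oddOf (centralizer ({a} : Set G)) with hθ
  have hsf := S0217.result (p := 2) A (fun a ha b hb => hcomm ha hb) hAe.2 hA8 θ
    (fun a _ _ => oddOf_le _)
    (fun a _ _ => fun hd => Nat.not_even_iff_odd.mpr (oddOf_odd (centralizer ({a} : Set G)))
      (even_iff_two_dvd.mpr hd))
    (fun a ha _ b hb x hx => (mem_normalizer_iff.mp (le_normalizer_oddOf _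
      (mem_centralizer_singleton_iff.mpr (hcomm hb ha))) x).mp hx)
    (fun a _ _ => S0205.result (oddOf_odd _))
    (fun a ha _ b hb hb1 => core_inf_centralizer_le_of_complement hA.1 hAe hcomp ha hb (hgood b hb hb1))
  set W : Subgroup G := ⨆ a : {a : G // a ∈ A ∧ a ≠ 1}, θ a with hW
  have hWodd : Odd (Nat.card W) := by
    rw [← Nat.not_even_iff_odd, even_iff_two_dvd]
    exact hsf.1
  have hle : ∀ a ∈ A, a ≠ 1 → θ a ≤ W := fun a ha ha1 =>
    le_iSup (fun b : {a : G // a ∈ A ∧ a ≠ 1} => θ b) ⟨a, ha, ha1⟩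
  have hNW : normalizer (A : Set G) ≤ normalizer (W : Set G) := by
    intro n hn
    refine mem_normalizer_of_maps fun y hy => ?_
    suffices W ≤ W.comap (MulAut.conj n).toMonoidHom from this hy
    refine iSup_le fun a => ?_
    have hna : n * a * n⁻¹ ∈ A := (mem_normalizer_iff.mp hn _).mp a.2.1
    have hna1 : n * a * n⁻¹ ≠ 1 := fun e => a.2.2 (conj_eq_one_iff.mp e)
    have hmap : (θ a).map (MulAut.conj n).toMonoidHom ≤ θ (n * a * n⁻¹) := by
      refine le_oddOf ?_ ?_ ?_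
      · rintro _ ⟨x, hx, rfl⟩
        refine mem_centralizer_singleton_iff.mpr ?_
        have h1 := mem_centralizer_singleton_iff.mp (oddOf_le _ hx)
        simp only [MulEquiv.coe_toMonoidHom, MulAut.conj_apply]
        calc n * x * n⁻¹ * (n * a * n⁻¹) = n * (x * a) * n⁻¹ := by group
          _ = n * (a * x) * n⁻¹ := by rw [h1]
          _ = n * a * n⁻¹ * (n * x * n⁻¹) := by group
      · rw [card_map_of_injective (MulAut.conj n).injective]
        exact oddOf_odd _
      · intro c hc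
        refine mem_normalizer_of_maps ?_
        rintro _ ⟨x, hx, rfl⟩
        have hc' : n⁻¹ * c * n ∈ centralizer ({(a : G)} : Set G) := by
          refine mem_centralizer_singleton_iff.mpr ?_
          have h1 := mem_centralizer_singleton_iff.mp hc
          calc n⁻¹ * c * n * a = n⁻¹ * (c * (n * a * n⁻¹)) * n := by group
            _ = n⁻¹ * (n * a * n⁻¹ * c) * n := by rw [h1]
            _ = a * (n⁻¹ * c * n) := by group
        refine ⟨_, (mem_normalizer_iff.mp (le_normalizer_oddOf _ hc') x).mp hx, ?_⟩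
        simp only [MulEquiv.coe_toMonoidHom, MulAut.conj_apply]
        group
    exact map_le_iff_le_comap.mp (hmap.trans (hle _ hna hna1))
  have hWtop : normalizer (W : Set G) = ⊤ := by
    refine eq_top_of_centralizers_le hA hAe hnc hA1 _ (fun a ha ha1 g hg => ?_) hNW
    obtain ⟨o, ho, n, hn, rfl⟩ := hgood a ha ha1 g hg
    exact mul_mem (le_normalizer (hle a ha ha1 ho)) (hNW hn)
  haveI hWn : W.Normal := normalizer_eq_top_iff.mp hWtop
  have hWO : W ≤ Cfsg.pPrimeCore 2 G :=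
    Thompson.le_pPrimeCore hWn (Nat.coprime_two_right.mpr hWodd)
  set O := Cfsg.pPrimeCore 2 G with hO
  have hMtop : O ⊔ normalizer (A : Set G) = ⊤ := by
    refine eq_top_of_centralizers_le hA hAe hnc hA1 _ (fun a ha ha1 g hg => ?_) le_sup_right
    obtain ⟨o, ho, n, hn, rfl⟩ := hgood a ha ha1 g hg
    exact mul_mem (mem_sup_left (hWO (hle a ha ha1 ho))) (mem_sup_right hn)
  rw [← normalizer_eq_top_iff, eq_top_iff, ← hMtop]
  refine sup_le (fun x hx => le_normalizer (mem_sup_right hx)) fun n hn => ?_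
  refine mem_normalizer_of_maps fun y hy => ?_
  suffices A ⊔ O ≤ (A ⊔ O).comap (MulAut.conj n).toMonoidHom from this hy
  exact sup_le (fun x hx => mem_sup_left ((mem_normalizer_iff.mp hn x).mp hx))
    (fun x hx => mem_sup_right ((inferInstance : O.Normal).conj_mem x hx n))

/-- `A O(G)` is normal, when moreover `A` contains every 2-element centralizing it. -/
theorem normal_sup_pPrimeCore_of_good {G : Type*} [Group G] [Finite G] {A : Subgroup G}
    {S : Sylow 2 G} (hA : Cfsg.IsStronglyClosed A (S : Subgroup G))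
    (hAe : Cfsg.IsElementaryAbelian 2 A) (hA8 : 8 ≤ Nat.card A)
    (hCA : ∀ x : G, x ∈ centralizer (A : Set G) → IsPGroup 2 (zpowers x) → x ∈ A)
    (hnc : ∀ b ∈ A, b ≠ 1 → ∃ a ∈ A, a ≠ 1 ∧ ¬ IsConj a b)
    (hgood : ∀ a ∈ A, a ≠ 1 → Good A (centralizer ({a} : Set G))) :
    (A ⊔ Cfsg.pPrimeCore 2 G).Normal :=
  normal_sup_pPrimeCore_of_good_of_complement hA hAe hA8
    (hasNormalPComplement_centralizer hAe hCA) hnc hgood

end Cfsg.Agent.StrClosed41
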