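import Cfsg.Agent.StrClosed41.Nil

/-!
# Subgroups above a strongly closed abelian subgroup of small index in their Sylow subgroups
-/

set_option autoImplicit false

namespace Cfsg.Agent.StrClosed41

open Subgroup

variable {G : Type*} [Group G] [Finite G] {A : Subgroup G} {S : Sylow 2 G}

/-- An element splits into its 2-part and its odd part. -/
theorem exists_two_odd (g : G) :
    ∃ a b : G, a ∈ zpowers g ∧ b ∈ zpowers g ∧ g = a * b ∧ IsPGroup 2 (zpowers a) ∧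
      Odd (orderOf b) := by
  obtain ⟨k, m, hm, hord⟩ := Nat.exists_eq_two_pow_mul_odd (orderOf_pos g).ne'
  have hcop : (2 ^ k).Coprime m := (Nat.coprime_two_left.mpr hm).pow_left k
  obtain ⟨x, y, hxy⟩ : ∃ x y : ℤ, x * m + y * (2 ^ k : ℕ) = 1 := by
    have h : IsCoprime (m : ℤ) ((2 ^ k : ℕ) : ℤ) := Nat.Coprime.isCoprime hcop.symm
    exact h
  refine ⟨g ^ (x * m), g ^ (y * (2 ^ k : ℕ)), zpow_mem (mem_zpowers g) _,
    zpow_mem (mem_zpowers g) _, by rw [← zpow_add, hxy, zpow_one], ?_, ?_⟩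
  · have h1 : (g ^ (x * m)) ^ (2 ^ k) = 1 := by
      rw [← zpow_natCast, ← zpow_mul, show x * m * ((2 ^ k : ℕ) : ℤ) =
        (orderOf g : ℤ) * x by rw [hord]; push_cast; ring, zpow_mul, zpow_natCast,
        pow_orderOf_eq_one, one_zpow]
    obtain ⟨j, -, hj⟩ := (Nat.dvd_prime_pow Nat.prime_two).mp (orderOf_dvd_of_pow_eq_one h1)
    exact IsPGroup.of_card (n := j) (by rw [Nat.card_zpowers, hj])
  · refine hm.of_dvd_nat (orderOf_dvd_of_pow_eq_one ?_)
    rw [← zpow_natCast, ← zpow_mul, show y * ((2 ^ k : ℕ) : ℤ) * m = (orderOf g : ℤ) * y by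
      rw [hord]; push_cast; ring, zpow_mul, zpow_natCast, pow_orderOf_eq_one, one_zpow]

/-- If `A` is the only 2-subgroup of `C` above it and odd elements of `N_C(A)` centralize `A`,
then `C` has a normal 2-complement. -/
theorem hasNormalPComplement_of_sylow (hA : Cfsg.IsStronglyClosed A (S : Subgroup G))
    (hAe : IsMulCommutative A) {C : Subgroup G} (hAC : A ≤ C)
    (hmax : ∀ R : Subgroup G, IsPGroup 2 R → R ≤ C → A ≤ R → R ≤ A)
    (hodd : ∀ g ∈ C, g ∈ normalizer (A : Set G) → Odd (orderOf g) →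
      g ∈ centralizer (A : Set G)) : Cfsg.HasNormalPComplement 2 C := by
  haveI : Fact (Nat.Prime 2) := ⟨Nat.prime_two⟩
  have hA2 : IsPGroup 2 A := S.isPGroup'.to_le hA.1
  obtain ⟨P, hP⟩ := (hA2.comap_subtype : IsPGroup 2 (A.subgroupOf C)).exists_le_sylow
  have hPA : ∀ x ∈ (P : Subgroup C), (x : G) ∈ A := fun x hx =>
    hmax _ (P.isPGroup'.map C.subtype) (map_subtype_le _)
      (fun a ha => ⟨⟨a, hAC ha⟩, hP (mem_subgroupOf.mpr ha), rfl⟩) ⟨x, hx, rfl⟩
  refine Transfer.hasNormalPComplement_of_control (P := P) ?_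
  rintro x hx y hy ⟨g, rfl⟩
  refine ⟨1, one_mem _, Subtype.ext ?_⟩
  obtain ⟨n, hn, hne⟩ := exists_normalizer_conj hA hAe hAC (g := (g : G)) (hPA x hx) g.2
    (hPA _ hy)
  obtain ⟨hnC, hnN⟩ := Subgroup.mem_inf.mp hn
  obtain ⟨a, b, han, hbn, rfl, ha2, hb⟩ := exists_two_odd n
  have haA : a ∈ A := hmax (zpowers a ⊔ A)
    (ha2.to_sup_of_normal_right' hA2 (zpowers_le.mpr (zpowers_le.mpr hnN han)))
    (sup_le (zpowers_le.mpr (zpowers_le.mpr hnC han)) hAC) le_sup_right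
    (mem_sup_left (mem_zpowers a))
  have hbZ := mem_centralizer_iff.mp
    (hodd b (zpowers_le.mpr hnC hbn) (zpowers_le.mpr hnN hbn) hb) x (hPA x hx)
  simp only [Subgroup.coe_mul, Subgroup.coe_one, one_mul, inv_one, mul_one, Subgroup.coe_inv]
  rw [← hne]
  have hax : a * (x : G) = x * a :=
    congrArg Subtype.val (hAe.is_comm.comm ⟨a, haA⟩ ⟨_, hPA x hx⟩)
  calc (x : G) = a * x * a⁻¹ := by rw [hax]; group
    _ = a * (b * x * b⁻¹) * a⁻¹ := by rw [← hbZ]; group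
    _ = a * b * x * (a * b)⁻¹ := by group

/-- An index-two normal subgroup of `C` cutting out `A` from a Sylow 2-subgroup. -/
theorem exists_index_two_subgroup (hA : Cfsg.IsStronglyClosed A (S : Subgroup G))
    (hAe : Cfsg.IsElementaryAbelian 2 A) {C R : Subgroup G} (hR : IsPGroup 2 R) (hRC : R ≤ C)
    (hAR : A ≤ R) (hmax : ∀ T : Subgroup G, IsPGroup 2 T → T ≤ C → R ≤ T → T ≤ R)
    (hcard : Nat.card R = 2 * Nat.card A) {u : G} (huR : u ∈ R) (huA : u ∉ A) (hu : u * u = 1) :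
    ∃ M : Subgroup G, M ≤ C ∧ A ≤ M ∧ C ≤ normalizer (M : Set G) ∧ u ∉ M ∧
      (∀ g ∈ C, g ∈ M ∨ g * u ∈ M) ∧ (∀ g ∈ C, Odd (orderOf g) → g ∈ M) ∧
      ∀ T : Subgroup G, IsPGroup 2 T → T ≤ M → A ≤ T → T ≤ A := by
  haveI : Fact (Nat.Prime 2) := ⟨Nat.prime_two⟩
  obtain ⟨P, hP⟩ := (hR.comap_subtype : IsPGroup 2 (R.subgroupOf C)).exists_le_sylow
  have hAC := hAR.trans hRC
  have hPR : (P : Subgroup C) = R.subgroupOf C := le_antisymm (fun x hx => mem_subgroupOf.mpr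
    (hmax _ (P.isPGroup'.map C.subtype) (map_subtype_le _)
      (fun t ht => ⟨⟨t, hRC ht⟩, hP (mem_subgroupOf.mpr ht), rfl⟩) ⟨x, hx, rfl⟩)) hP
  obtain ⟨T0, hT0⟩ := hR.exists_le_sylow
  have hQ : Cfsg.IsStronglyClosed (A.subgroupOf C) (P : Subgroup C) := by
    refine ⟨hPR ▸ fun x hx => hAR hx, fun x hx g hg => ?_⟩
    rw [hPR, mem_subgroupOf] at hg
    exact mem_of_conj hA T0 (hAR.trans hT0) hx (hT0 hg)
  have hQi : (A.subgroupOf C).relIndex (P : Subgroup C) = 2 := by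
    rw [hPR, relIndex_subgroupOf hRC]
    have h := relIndex_mul_relIndex (⊥ : Subgroup G) A R bot_le hAR
    rw [relIndex_bot_left, relIndex_bot_left, hcard, mul_comm 2] at h
    exact Nat.eq_of_mul_eq_mul_left Nat.card_pos h
  obtain ⟨M, hMn, hMi, hQM, huM⟩ := exists_index_two P (A.subgroupOf C) hQ
    (fun q hq => Subtype.ext (by
      simpa [sq] using hAe.2 (q : G) hq))
    hQi (u := ⟨u, hRC huR⟩) (Subtype.ext hu) (hPR ▸ huR) huA
  have huM' : u ∉ M.map C.subtype := by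
    rintro ⟨y, hy, he⟩
    exact huM (by rwa [show (⟨u, hRC huR⟩ : C) = y from Subtype.ext he.symm])
  refine ⟨M.map C.subtype, map_subtype_le _, fun a ha => ⟨⟨a, hAC ha⟩, hQM ha, rfl⟩, ?_, huM', ?_,
    ?_, ?_⟩
  · intro g hg
    refine mem_normalizer_of_maps ?_
    rintro _ ⟨y, hy, rfl⟩
    exact ⟨_, hMn.conj_mem y hy ⟨g, hg⟩, rfl⟩
  · intro g hg
    by_cases h : (⟨g, hg⟩ : C) ∈ M
    · exact Or.inl ⟨_, h, rfl⟩
    · exact Or.inr ⟨⟨g, hg⟩ * ⟨u, hRC huR⟩,
        (mul_mem_iff_of_index_two hMi).mpr ⟨fun h' => absurd h' h, fun h' => absurd h' huM⟩, rfl⟩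
  · intro g hg ho
    refine ⟨⟨g, hg⟩, ?_, rfl⟩
    exact Transfer.pResidual_le_of_index (n := 1) (p := 2) (by rw [hMi, pow_one])
      (Transfer.mem_pResidual_of_coprime (by
        rw [Subgroup.orderOf_mk]; exact Nat.coprime_two_right.mpr ho))
  · intro T hT hTM hAT
    obtain ⟨T', hT', hTT'⟩ : ∃ T' : Subgroup G, IsPGroup 2 T' ∧ T ≤ T' := ⟨T, hT, le_rfl⟩
    -- conjugate `T` into `R`
    have hT2 : IsPGroup 2 (T.subgroupOf C) := hT.comap_subtype
    obtain ⟨P', hP'⟩ := hT2.exists_le_sylow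
    obtain ⟨c, hc⟩ := MulAction.exists_smul_eq C P' P
    by_contra hne
    obtain ⟨t, htT, htA⟩ := SetLike.not_le_iff_exists.mp hne
    have htC : t ∈ C := map_subtype_le _ (hTM htT)
    have hcR : ∀ y ∈ T, (c : G) * y * (c : G)⁻¹ ∈ R := by
      intro y hy
      have hyC : y ∈ C := map_subtype_le _ (hTM hy)
      have : c * ⟨y, hyC⟩ * c⁻¹ ∈ (P : Subgroup C) := by
        rw [← hc]; exact ⟨⟨y, hyC⟩, hP' (mem_subgroupOf.mpr hy), rfl⟩
      rw [hPR, mem_subgroupOf] at this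
      exact this
    have hcN : (c : G) ∈ normalizer (A : Set G) :=
      mem_normalizer_of_maps fun a ha => mem_of_conj hA T0 (hAR.trans hT0) ha (hT0 (hcR a (hAT ha)))
    have htR : (c : G) * t * (c : G)⁻¹ ∉ A := fun h =>
      htA ((mem_normalizer_iff.mp hcN t).mpr h)
    -- `R = A ∪ u A` meets the image of `M` in `A`
    have htM : (c : G) * t * (c : G)⁻¹ ∈ M.map C.subtype := by
      obtain ⟨y, hy, rfl⟩ := hTM htT
      exact ⟨_, hMn.conj_mem y hy c, rfl⟩
    have hmul : (c : G) * t * (c : G)⁻¹ * u ∈ A := by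
      have hi : (A.subgroupOf R).index = 2 := by
        have := hQi
        rw [hPR, relIndex_subgroupOf hRC] at this
        exact this
      have := (mul_mem_iff_of_index_two hi (a := (⟨_, hcR t htT⟩ : R)) (b := ⟨u, huR⟩)).mpr
        ⟨fun h => absurd h htR, fun h => absurd h huA⟩
      exact this
    refine huM' ?_
    have := mul_mem (inv_mem htM) (show (c : G) * t * (c : G)⁻¹ * u ∈ M.map C.subtype from
      ⟨⟨_, hAC hmul⟩, hQM hmul, rfl⟩)
    rwa [inv_mul_cancel_left] at this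

/-- Normal 2-complement when `A` has index at most two in the Sylow subgroups of `C`. -/
theorem hasNormalPComplement_of_two (hA : Cfsg.IsStronglyClosed A (S : Subgroup G))
    (hAe : Cfsg.IsElementaryAbelian 2 A) {C R : Subgroup G} (hR : IsPGroup 2 R) (hRC : R ≤ C)
    (hAR : A ≤ R) (hmax : ∀ T : Subgroup G, IsPGroup 2 T → T ≤ C → R ≤ T → T ≤ R)
    (hcard : Nat.card R = 2 * Nat.card A) {u : G} (huR : u ∈ R) (huA : u ∉ A) (hu : u * u = 1)
    (hodd : ∀ g ∈ C, g ∈ normalizer (A : Set G) → Odd (orderOf g) →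
      g ∈ centralizer (A : Set G)) : Cfsg.HasNormalPComplement 2 C := by
  haveI : Fact (Nat.Prime 2) := ⟨Nat.prime_two⟩
  obtain ⟨M, hMC, hAM, -, -, -, hoddM, hmaxM⟩ :=
    exists_index_two_subgroup hA hAe hR hRC hAR hmax hcard huR huA hu
  have hM := hasNormalPComplement_of_sylow hA hAe.1 hAM hmaxM
    (fun g hg => hodd g (hMC hg))
  refine Transfer.hasNormalPComplement_iff_not_dvd.mpr fun hd => ?_
  have hle : (Cfsg.pResidual 2 ↥C).map C.subtype ≤ oddPart M := by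
    rw [Cfsg.pResidual, MonoidHom.map_closure, closure_le]
    rintro _ ⟨y, hy, rfl⟩
    have ho : Odd (orderOf (y : G)) := by
      rw [orderOf_coe]; exact Nat.coprime_two_right.mp hy
    exact (mem_oddPart hM).mpr ⟨hoddM _ y.2 ho, ho⟩
  have h2 := card_dvd_of_le hle
  rw [card_map_of_injective C.subtype_injective] at h2
  exact Nat.not_even_iff_odd.mpr (odd_oddPart hM) (even_iff_two_dvd.mpr (hd.trans h2))

/-- `Good` from a normal product. -/
theorem Good.of_normal (hA : Cfsg.IsStronglyClosed A (S : Subgroup G)) {C : Subgroup G}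
    (hAC : A ≤ C) (h : (A.subgroupOf C ⊔ Cfsg.pPrimeCore 2 C).Normal) : Good A C := by
  intro g hg
  have hmap : (A.subgroupOf C ⊔ Cfsg.pPrimeCore 2 C).map C.subtype = A ⊔ oddOf C := by
    rw [Subgroup.map_sup, map_subgroupOf_eq_of_le hAC]; rfl
  obtain ⟨c, hc, hcn⟩ := exists_mem_normalizer_of_le hA (C := A ⊔ oddOf C) le_sup_left (g := g)
    (fun a ha => by
      rw [← hmap]
      exact ⟨_, h.conj_mem ⟨a, hAC ha⟩ (mem_sup_left ha) ⟨g, hg⟩, rfl⟩)
  have hcC : C ⊓ normalizer (oddOf C : Set G) = C := inf_eq_left.mpr (le_normalizer_oddOf C)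
  have hc' : c⁻¹ ∈ ((oddOf C ⊔ A : Subgroup G) : Set G) := by rw [sup_comm]; exact inv_mem hc
  rw [coe_mul_of_right_le_normalizer_left _ _ (hAC.trans (le_normalizer_oddOf C))] at hc'
  obtain ⟨o, ho, a, ha, he⟩ := hc'
  refine ⟨o, ho, a * (c * g), mul_mem (le_normalizer ha) hcn, ?_⟩
  rw [← mul_assoc, show o * a = c⁻¹ from he, inv_mul_cancel_left]

/-- `Good` passes to centralizers inside. -/
theorem Good.inf (hA2 : IsPGroup 2 A) {C : Subgroup G} (hAC : A ≤ C) (hg : Good A C) {b : G}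
    (hb : b ∈ A) : Good A (C ⊓ centralizer ({b} : Set G)) := by
  intro g hg'
  obtain ⟨hgC, hgb⟩ := Subgroup.mem_inf.mp hg'
  obtain ⟨o, ho, n, hn, rfl⟩ := hg g hgC
  have hnb : n * b * n⁻¹ ∈ A := (mem_normalizer_iff.mp hn b).mp hb
  have h1 : n * b * n⁻¹ = o⁻¹ * b * o := by
    have := mem_centralizer_singleton_iff.mp hgb
    calc n * b * n⁻¹ = o⁻¹ * (o * n * b) * n⁻¹ := by group
      _ = o⁻¹ * (b * (o * n)) * n⁻¹ := by rw [this]
      _ = o⁻¹ * b * o := by group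
  have h2 : b⁻¹ * (n * b * n⁻¹) = 1 := by
    refine eq_one_of_mem_two_odd hA2 (oddOf_odd C) (mul_mem (inv_mem hb) hnb) ?_
    rw [h1, show b⁻¹ * (o⁻¹ * b * o) = b⁻¹ * o⁻¹ * b⁻¹⁻¹ * o by group]
    exact mul_mem ((mem_normalizer_iff.mp (le_normalizer_oddOf C (inv_mem (hAC hb))) _).mp
      (inv_mem ho)) ho
  have hnb' : n * b * n⁻¹ = b := (inv_mul_eq_one.mp h2).symm
  have hoC : o ∈ centralizer ({b} : Set G) := by
    rw [mem_centralizer_singleton_iff]
    have h3 : o⁻¹ * b * o = b := h1 ▸ hnb'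
    calc o * b = o * (o⁻¹ * b * o) := by rw [h3]
      _ = b * o := by group
  refine ⟨o, ?_, n, hn, rfl⟩
  refine le_oddOf (U := oddOf C ⊓ centralizer ({b} : Set G)) (inf_le_inf_right _ (oddOf_le C))
    ((oddOf_odd C).of_dvd_nat (card_dvd_of_le inf_le_left)) ?_ (Subgroup.mem_inf.mpr ⟨ho, hoC⟩)
  intro c hc
  obtain ⟨hcC, hcb⟩ := Subgroup.mem_inf.mp hc
  refine mem_normalizer_of_maps fun y hy => ?_
  obtain ⟨hy1, hy2⟩ := Subgroup.mem_inf.mp hy
  exact Subgroup.mem_inf.mpr ⟨(mem_normalizer_iff.mp (le_normalizer_oddOf C hcC) y).mp hy1,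
    mul_mem (mul_mem hcb hy2) (inv_mem hcb)⟩

/-- `Good` is invariant under the normalizer of `A`. -/
theorem Good.conj {a k : G} (hk : k ∈ normalizer (A : Set G))
    (hg : Good A (centralizer ({a} : Set G))) :
    Good A (centralizer ({k * a * k⁻¹} : Set G)) := by
  intro g hgc
  set C := centralizer ({a} : Set G) with hC
  have himg : ({k * a * k⁻¹} : Set G) = (fun y => k * y * k⁻¹) '' {a} := by simp
  have hg1 : k⁻¹ * g * k ∈ C := by
    rw [hC, ← mem_centralizer_conj (s := {a}) k, ← himg]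
    rwa [show k * (k⁻¹ * g * k) * k⁻¹ = g by group]
  obtain ⟨o, ho, n, hn, he⟩ := hg _ hg1
  refine ⟨k * o * k⁻¹, ?_, k * n * k⁻¹, mul_mem (mul_mem hk hn) (inv_mem hk), ?_⟩
  · refine le_oddOf (U := (oddOf C).map (MulAut.conj k).toMonoidHom) ?_ ?_ ?_ ⟨o, ho, rfl⟩
    · rintro _ ⟨x, hx, rfl⟩
      rw [himg]
      exact (mem_centralizer_conj (s := {a}) k x).mpr (oddOf_le C hx)
    · rw [card_map_of_injective (MulAut.conj k).injective]; exact oddOf_odd C
    · intro c hc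
      refine mem_normalizer_of_maps ?_
      rintro _ ⟨x, hx, rfl⟩
      have hc1 : k⁻¹ * c * k ∈ C := by
        rw [hC, ← mem_centralizer_conj (s := {a}) k, ← himg]
        rwa [show k * (k⁻¹ * c * k) * k⁻¹ = c by group]
      refine ⟨_, (mem_normalizer_iff.mp (le_normalizer_oddOf C hc1) x).mp hx, ?_⟩
      simp only [MulEquiv.coe_toMonoidHom, MulAut.conj_apply]
      group
  · rw [show k * o * k⁻¹ * (k * n * k⁻¹) = k * (o * n) * k⁻¹ by group, ← he]
    group

/-- `Good` from a normal 2-complement. -/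
theorem Good.of_complement (hA : Cfsg.IsStronglyClosed A (S : Subgroup G)) {C R : Subgroup G}
    (hC : Cfsg.HasNormalPComplement 2 C) (hR : IsPGroup 2 R) (hRC : R ≤ C) (hAR : A ≤ R)
    (hmax : ∀ T : Subgroup G, IsPGroup 2 T → T ≤ C → R ≤ T → T ≤ R) : Good A C := by
  intro g hg
  obtain ⟨u, hu, r, hr, rfl⟩ := exists_mul_oddPart hC hR hRC hmax hg
  refine ⟨u, ?_, r, le_normalizer_of_two hA hR hAR hr, rfl⟩
  exact le_oddOf (oddPart_le C) (odd_oddPart hC)
    (fun c hc => mem_normalizer_of_maps fun y hy => conj_mem_oddPart hC (le_normalizer hc) hy) hu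

/-- Lift of `A O(Y)` normal from a central quotient. -/
theorem normal_sup_of_quotient {Y : Type*} [Group Y] [Finite Y] (Z : Subgroup Y) [Z.Normal]
    (hZc : Z ≤ center Y) (hZ : IsPGroup 2 Z) (A : Subgroup Y) (hZA : Z ≤ A)
    (h : (A.map (QuotientGroup.mk' Z) ⊔ Cfsg.pPrimeCore 2 (Y ⧸ Z)).Normal) :
    (A ⊔ Cfsg.pPrimeCore 2 Y).Normal := by
  haveI : Fact (Nat.Prime 2) := ⟨Nat.prime_two⟩
  set π := QuotientGroup.mk' Z with hπ
  have hπs : Function.Surjective π := QuotientGroup.mk'_surjective Z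
  set O' := Cfsg.pPrimeCore 2 (Y ⧸ Z) with hO'
  set L := O'.comap π with hL
  have hZL : Z ≤ L := fun x hx => by
    rw [hL, mem_comap, show π x = 1 from (QuotientGroup.eq_one_iff x).mpr hx]; exact one_mem _
  -- `L` has a normal 2-complement
  have hOodd : Odd (Nat.card O') := Nat.coprime_two_right.mp Thompson.card_pPrimeCore_coprime
  obtain ⟨T⟩ : Nonempty (Sylow 2 L) := inferInstance
  have hTZ : ∀ x ∈ (T : Subgroup L), (x : Y) ∈ Z := fun x hx =>
    (QuotientGroup.eq_one_iff _).mp (eq_one_of_mem_two_odd ((T.isPGroup'.map L.subtype).map π) hOodd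
      ⟨x, ⟨x, hx, rfl⟩, rfl⟩ x.2)
  have hcomp : Cfsg.HasNormalPComplement 2 L := Transfer.hasNormalPComplement_of_control (P := T)
    fun x hx y _ ⟨g, hg⟩ => ⟨1, one_mem _, Subtype.ext (by
      have := mem_center_iff.mp (hZc (hTZ x hx)) g
      rw [← hg]
      simp [this])⟩
  have hTL : (T : Subgroup L).map L.subtype ≤ Z := by
    rintro _ ⟨x, hx, rfl⟩; exact hTZ x hx
  have hRO : oddPart L ≤ Cfsg.pPrimeCore 2 Y := by
    refine Thompson.le_pPrimeCore ⟨fun x hx g => ?_⟩ (Nat.coprime_two_right.mpr (odd_oddPart hcomp))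
    refine conj_mem_oddPart hcomp ?_ hx
    rw [normalizer_eq_top (H := L)]
    exact mem_top g
  have hLle : L ≤ A ⊔ Cfsg.pPrimeCore 2 Y := by
    intro g hg
    obtain ⟨⟨⟨u, hu⟩, ⟨t, ht⟩⟩, he⟩ := (Transfer.isComplement'_pResidual hcomp T).2 ⟨g, hg⟩
    rw [← show (u : Y) * t = g from congrArg Subtype.val he]
    exact mul_mem (mem_sup_right (hRO ⟨u, hu, rfl⟩)) (mem_sup_left (hZA (hTZ t ht)))
  have hOL : Cfsg.pPrimeCore 2 Y ≤ L := map_le_iff_le_comap.mp
    (Thompson.map_pPrimeCore_le_of_surjective π hπs)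
  have heq : A ⊔ Cfsg.pPrimeCore 2 Y = (A.map π ⊔ O').comap π := by
    rw [← map_comap_eq_self_of_surjective hπs O', ← Subgroup.map_sup, comap_map_eq,
      QuotientGroup.ker_mk']
    exact le_antisymm (le_sup_of_le_left (sup_le_sup_left hOL _))
      (sup_le (sup_le le_sup_left hLle) (hZA.trans le_sup_left))
  rw [heq]
  exact h.comap π

end Cfsg.Agent.StrClosed41
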