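import Cfsg.Agent.StrClosed41.CentralQuot
import Cfsg.Agent.S0215

/-!
# The centralizer of the second representative, and the main result
-/

set_option autoImplicit false

namespace Cfsg.Agent.StrClosed41

open Subgroup

local notation "A5" => (alternatingGroup (Fin 5))

variable {G : Type*} [Group G] [Finite G] {A : Subgroup G}
  {q : ↥(normalizer (A : Set G)) →* A5} {R : Sylow 2 G} {z b x : G}

namespace Pointed

variable (hp : Pointed A q R z)

include hp

theorem good_b (hb : b ∈ A) (hb1 : b ≠ 1) (hbz : b ∉ orbN A z)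
    (hx : x ∈ normalizer (A : Set G)) (hx3 : q ⟨x, hx⟩ ^ 3 = 1) (hx1 : q ⟨x, hx⟩ ≠ 1)
    (hxz : x * z = z * x) (hxb : x * b = b * x)
    (hgz : Good A (centralizer ({z} : Set G))) : Good A (centralizer ({b} : Set G)) := by
  haveI : Fact (Nat.Prime 2) := ⟨Nat.prime_two⟩
  have hs := hp.sixteen
  obtain ⟨-, ⟨s, hsR, hsA, hs2⟩, hclosed⟩ := hp.classes3 hb hb1 hbz
  have h6 := (hp.long_orbit hb hb1 hbz).2
  set C := centralizer ({b} : Set G) with hC
  have hAC : A ≤ C := fun a ha => mem_centralizer_singleton_iff.mpr (hs.commA ha hb)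
  have hxK : q ⟨x, hx⟩ ∈ stabOf q b :=
    (hs.mem_stab hb).mpr (mul_inv_eq_iff_eq_mul.mpr hxb)
  have hstab : ∀ {g : G} (hg : g ∈ normalizer (A : Set G)), g ∈ C → q ⟨g, hg⟩ ∈ stabOf q b :=
    fun hg hgC => (hs.mem_stab hb).mpr
      (mul_inv_eq_iff_eq_mul.mpr (mem_centralizer_singleton_iff.mp hgC))
  -- a 2-element of `C ∩ N(A)` outside `A`
  obtain ⟨⟨e, he⟩, heo⟩ := exists_prime_orderOf_dvd_card' 2
    (show 2 ∣ Nat.card (stabOf q b) by rw [h6]; norm_num)
  rw [Subgroup.orderOf_mk] at heo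
  obtain ⟨n0, hn0, rfl⟩ := he
  obtain ⟨n2', n1', hn2, hn1, hn, hn22, hn1o⟩ := exists_two_odd (n0 : G)
  have hn0N : zpowers (n0 : G) ≤ normalizer (A : Set G) := zpowers_le.mpr n0.2
  have hn0C : zpowers (n0 : G) ≤ C := zpowers_le.mpr (mem_subgroupOf.mp hn0)
  set n2 : ↥(normalizer (A : Set G)) := ⟨n2', hn0N hn2⟩ with hn2d
  set n1 : ↥(normalizer (A : Set G)) := ⟨n1', hn0N hn1⟩ with hn1d
  have hn2A : (n2 : G) ∉ A := by
    intro h
    have h1 : q n0 = q n1 := by
      rw [show n0 = n2 * n1 from Subtype.ext hn, map_mul, hs.q_of_A h, one_mul]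
    have h2 : orderOf (q n1) ∣ orderOf n1' := by
      exact (orderOf_map_dvd q n1).trans (dvd_of_eq (Subgroup.orderOf_coe n1).symm)
    rw [← h1, heo] at h2
    exact Nat.not_even_iff_odd.mpr hn1o (even_iff_two_dvd.mpr h2)
  have hR1 : IsPGroup 2 ↥(zpowers (n2 : G) ⊔ A) :=
    hn22.to_sup_of_normal_right' hs.two_A (zpowers_le.mpr n2.2)
  obtain ⟨T, hT⟩ := hR1.exists_le_sylow
  obtain ⟨g, hg⟩ := MulAction.exists_smul_eq G T R
  have hmem : ∀ y ∈ zpowers (n2 : G) ⊔ A, g * y * g⁻¹ ∈ (R : Subgroup G) := fun y hy => by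
    rw [← hg]; exact ⟨_, hT hy, rfl⟩
  have hgN : g ∈ normalizer (A : Set G) :=
    mem_normalizer_of_maps fun y hy => hclosed.2 y hy g (hmem y (mem_sup_right hy))
  set t := g * (n2 : G) * g⁻¹ with ht
  have htR : t ∈ (R : Subgroup G) := hmem _ (mem_sup_left (mem_zpowers _))
  have htA : t ∉ A := fun h => hn2A ((mem_normalizer_iff.mp hgN _).mpr h)
  obtain ⟨a, ha, hta2, htaA⟩ := hs.exists_invol_coset hsR hsA hs2 htR htA
  set u := g⁻¹ * (t * a) * g with hu
  have huA : u ∉ A := fun h => htaA (by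
    have := (mem_normalizer_iff.mp hgN u).mp h
    rwa [show g * u * g⁻¹ = t * a by rw [hu]; group] at this)
  have hu2 : orderOf u = 2 := by
    have h := MulEquiv.orderOf_eq (MulAut.conj g⁻¹) (t * a)
    rw [MulAut.conj_apply, inv_inv, hta2] at h
    exact h
  have huu := Involution.mul_self_of_orderOf hu2
  have huC : u ∈ C := by
    have h1 : g⁻¹ * a * g ∈ A := by
      simpa using (mem_normalizer_iff''.mp hgN a).mp ha
    rw [show u = (n2 : G) * (g⁻¹ * a * g) by rw [hu, ht]; group]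
    exact mul_mem (hn0C hn2) (hAC h1)
  have huN : u ∈ normalizer (A : Set G) :=
    mul_mem (mul_mem (inv_mem hgN) (mul_mem (hs.RN htR) (le_normalizer ha))) hgN
  set R2 := zpowers u ⊔ A with hR2
  have hu22 : IsPGroup 2 (zpowers u) :=
    IsPGroup.of_card (n := 1) (by rw [Nat.card_zpowers, hu2]; rfl)
  have hR22 : IsPGroup 2 R2 := hu22.to_sup_of_normal_right' hs.two_A (zpowers_le.mpr huN)
  have huR2 : u ∈ R2 := mem_sup_left (mem_zpowers u)
  have hcard : Nat.card R2 = 2 * Nat.card A := by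
    have hinf : ∀ w ∈ zpowers u, w ∈ A → w = 1 := by
      rintro _ ⟨k, rfl⟩ hw
      simp only at hw ⊢
      rcases Int.even_or_odd k with ⟨m, rfl⟩ | ⟨m, rfl⟩
      · rw [← two_mul, zpow_mul, zpow_two, huu, one_zpow]
      · rw [zpow_add, zpow_mul, zpow_two, huu, one_zpow, one_mul, zpow_one] at hw
        exact absurd hw huA
    rw [← hu2, ← Nat.card_zpowers, ← Nat.card_prod]
    refine (Nat.card_eq_of_bijective (fun p : zpowers u × A => (⟨(p.1 : G) * p.2,
      mul_mem (mem_sup_left p.1.2) (mem_sup_right p.2.2)⟩ : R2)) ⟨?_, ?_⟩).symm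
    · rintro ⟨⟨w, hw⟩, ⟨v, hv⟩⟩ ⟨⟨w', hw'⟩, ⟨v', hv'⟩⟩ e
      have e' : w * v = w' * v' := congrArg Subtype.val e
      have h1 : w'⁻¹ * w = v' * v⁻¹ := by
        rw [eq_mul_inv_iff_mul_eq, mul_assoc, e', inv_mul_cancel_left]
      have h2 := hinf _ (mul_mem (inv_mem hw') hw) (h1 ▸ mul_mem hv' (inv_mem hv))
      obtain rfl : w' = w := inv_mul_eq_one.mp h2
      obtain rfl : v = v' := mul_left_cancel e'
      rfl
    · rintro ⟨y, hy⟩
      have hy' : y ∈ ((zpowers u ⊔ A : Subgroup G) : Set G) := hy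
      rw [coe_mul_of_left_le_normalizer_right _ _ (zpowers_le.mpr huN)] at hy'
      obtain ⟨w, hw, v, hv, rfl⟩ := hy'
      exact ⟨(⟨w, hw⟩, ⟨v, hv⟩), rfl⟩
  have hmax : ∀ T : Subgroup G, IsPGroup 2 T → T ≤ C → R2 ≤ T → T ≤ R2 := by
    intro T hT hTC hRT y hy
    have hTN : T ≤ normalizer (A : Set G) :=
      le_normalizer_of_two hclosed hT (le_sup_right.trans hRT)
    classical
    set P := (T.subgroupOf (normalizer (A : Set G))).map q with hP
    haveI := Fintype.ofFinite P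
    have hP2 : IsPGroup 2 P := (hT.comap_subtype : IsPGroup 2 (T.subgroupOf _)).map q
    have hPK : P ≤ stabOf q b := by
      rintro _ ⟨m, hm, rfl⟩
      exact hstab m.2 (hTC hm)
    have hPc : Nat.card P ≤ 2 := by
      obtain ⟨j, hj⟩ := IsPGroup.iff_card.mp hP2
      have hd := card_dvd_of_le hPK
      rw [hj, h6] at hd
      rw [hj]
      have : j < 2 := by
        by_contra hc
        exact absurd ((Nat.pow_dvd_pow 2 (not_lt.mp hc)).trans hd) (by norm_num)
      interval_cases j <;> norm_num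
    have h1 : q ⟨y, hTN hy⟩ ∈ P := ⟨_, hy, rfl⟩
    have h2 : q ⟨u, huN⟩ ∈ P := ⟨_, hRT huR2, rfl⟩
    have hune : q ⟨u, huN⟩ ≠ 1 := fun e =>
      huA (hs.mem_A_of_q (n := ⟨u, huN⟩) e hu22)
    have hor : q ⟨y, hTN hy⟩ = 1 ∨ q ⟨y, hTN hy⟩ = q ⟨u, huN⟩ := by
      by_contra hcon
      push Not at hcon
      have hsub : ({1, q ⟨y, hTN hy⟩, q ⟨u, huN⟩} : Finset A5) ⊆
          (Finset.univ : Finset P).map ⟨Subtype.val, Subtype.val_injective⟩ := by
        intro w hw
        simp only [Finset.mem_insert, Finset.mem_singleton] at hw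
        rcases hw with h' | h' | h' <;> rw [h'] <;> simp [h1, h2, one_mem]
      have h3 := Finset.card_le_card hsub
      rw [Finset.card_map, Finset.card_univ, ← Nat.card_eq_fintype_card,
        Finset.card_insert_of_notMem (by simp [hcon.1.symm, hune.symm]),
        Finset.card_pair hcon.2] at h3
      omega
    rcases hor with e | e
    · exact mem_sup_right (hs.mem_A_of_q (n := ⟨y, hTN hy⟩) e (hT.to_le (zpowers_le.mpr hy)))
    · have hm : u⁻¹ * y ∈ T := mul_mem (inv_mem (hRT huR2)) hy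
      have h4 := hs.mem_A_of_q (n := ⟨u, huN⟩⁻¹ * ⟨y, hTN hy⟩)
        (by rw [map_mul, map_inv, e, inv_mul_cancel]) (hT.to_le (zpowers_le.mpr hm))
      have h5 := mul_mem huR2 (mem_sup_right (S := zpowers u) h4)
      simpa using h5
  obtain ⟨M, hMC, hAM, hCM, -, hcos, hoddM, hmaxM⟩ :=
    exists_index_two_subgroup hclosed hs.elem hR22 (sup_le (zpowers_le.mpr huC) hAC) le_sup_right
      hmax hcard huR2 huA huu
  -- `z` is isolated in `M`
  obtain ⟨P, hP⟩ := (hs.two_A.comap_subtype : IsPGroup 2 (A.subgroupOf M)).exists_le_sylow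
  have hPA : ∀ y ∈ (P : Subgroup M), (y : G) ∈ A := fun y hy =>
    hmaxM _ (P.isPGroup'.map M.subtype) (map_subtype_le _)
      (fun a ha => ⟨⟨a, hAM ha⟩, hP (mem_subgroupOf.mpr ha), rfl⟩) ⟨y, hy, rfl⟩
  set zM : M := ⟨z, hAM hp.zA⟩ with hzM
  have hzo : orderOf zM = 2 := by rw [Subgroup.orderOf_mk]; exact hs.ordA hp.zA hp.z1
  obtain ⟨N1, hN1n, hN1o, hN1c⟩ := S0215.result P zM hzo
    (hP (mem_subgroupOf.mpr hp.zA)) (by
      intro g hg
      obtain ⟨n, hn, hne⟩ := exists_normalizer_conj hclosed hs.elem.1 hAM (g := (g : G))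
        hp.zA g.2 (hPA _ hg)
      obtain ⟨hnM, hnN⟩ := Subgroup.mem_inf.mp hn
      obtain ⟨n2'', n1'', hn2', hn1', rfl, hn22', hn1o'⟩ := exists_two_odd n
      have h2A : n2'' ∈ A := hmaxM (zpowers n2'' ⊔ A)
        (hn22'.to_sup_of_normal_right' hs.two_A (zpowers_le.mpr (zpowers_le.mpr hnN hn2')))
        (sup_le (zpowers_le.mpr (zpowers_le.mpr hnM hn2')) hAM) le_sup_right
        (mem_sup_left (mem_zpowers n2''))
      have h1N : n1'' ∈ normalizer (A : Set G) := zpowers_le.mpr hnN hn1'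
      have h1K := hstab h1N (hMC (zpowers_le.mpr hnM hn1'))
      set h' := q ⟨n1'', h1N⟩ with hh'
      have hfix : n1'' * z * n1''⁻¹ = z := by
        -- the subgroup of order three of the stabilizer of `b`
        set X := (zpowers (q ⟨x, hx⟩)).subgroupOf (stabOf q b) with hX
        have hXc : Nat.card X = 3 := by
          rw [Nat.card_congr (subgroupOfEquivOfLe (zpowers_le.mpr hxK)).toEquiv, Nat.card_zpowers]
          haveI : Fact (Nat.Prime 3) := ⟨by norm_num⟩
          exact orderOf_eq_prime hx3 hx1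
        have hXi : X.index = 2 := by
          have := X.card_mul_index
          rw [hXc, h6] at this
          omega
        have hodd : Odd (orderOf h') := by
          refine hn1o'.of_dvd_nat ?_
          exact (orderOf_map_dvd q (⟨n1'', h1N⟩ : ↥(normalizer (A : Set G)))).trans
            (dvd_of_eq (Subgroup.orderOf_mk n1'' h1N))
        obtain ⟨k, hk⟩ := hodd
        have hmem : (⟨h', h1K⟩ : stabOf q b) ∈ X := by
          have hsq := pow_mem (mul_self_mem_of_index_two hXi ⟨h', h1K⟩) (k + 1)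
          have hp' : ((⟨h', h1K⟩ : stabOf q b) * ⟨h', h1K⟩) ^ (k + 1) = ⟨h', h1K⟩ := by
            refine Subtype.ext ?_
            simp only [SubgroupClass.coe_pow, Subgroup.coe_mul]
            rw [← sq, ← pow_mul, show 2 * (k + 1) = orderOf h' + 1 by rw [hk]; ring, pow_succ,
              pow_orderOf_eq_one, one_mul]
          rwa [hp'] at hsq
        obtain ⟨j, hj⟩ := mem_subgroupOf.mp hmem
        have hj' : q ((⟨x, hx⟩ : ↥(normalizer (A : Set G))) ^ j) = h' := by
          rw [map_zpow]; exact hj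
        rw [hs.act_eq hj'.symm hp.zA]
        simp only [SubgroupClass.coe_zpow]
        rw [((show Commute x z from hxz).zpow_left j).eq, mul_inv_cancel_right]
      refine Subtype.ext ?_
      show (g : G) * z * (g : G)⁻¹ = z
      rw [← hne]
      calc n2'' * n1'' * z * (n2'' * n1'')⁻¹ = n2'' * (n1'' * z * n1''⁻¹) * n2''⁻¹ := by group
        _ = z := by rw [hfix, hs.commA h2A hp.zA, mul_inv_cancel_right])
  have hMn : (M.subgroupOf C).Normal :=
    ⟨fun m hm c => (mem_normalizer_iff.mp (hCM c.2) (m : G)).mp hm⟩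
  -- the core of `M` lies in the core of `C`
  have hOM : oddOf M ≤ oddOf C := by
    refine le_oddOf ((oddOf_le M).trans hMC) (oddOf_odd M) fun c hc => mem_normalizer_of_maps ?_
    intro y hy
    refine le_oddOf (U := (oddOf M).map (MulAut.conj c).toMonoidHom) ?_ ?_ ?_ ⟨y, hy, rfl⟩
    · rintro _ ⟨w, hw, rfl⟩
      exact (mem_normalizer_iff.mp (hCM hc) w).mp (oddOf_le M hw)
    · rw [card_map_of_injective (MulAut.conj c).injective]; exact oddOf_odd M
    · intro m hm
      refine mem_normalizer_of_maps ?_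
      rintro _ ⟨w, hw, rfl⟩
      have hm' : c⁻¹ * m * c ∈ M := (mem_normalizer_iff''.mp (hCM hc) m).mp hm
      refine ⟨_, (mem_normalizer_iff.mp (le_normalizer_oddOf M hm') w).mp hw, ?_⟩
      simp only [MulEquiv.coe_toMonoidHom, MulAut.conj_apply]
      group
  set D := centralizer ({z} : Set G) ⊓ C with hD
  have hgD : Good A D := Good.inf hs.two_A
    (fun a ha => mem_centralizer_singleton_iff.mpr (hs.commA ha hp.zA)) hgz hb
  set O' := N1.map M.subtype with hO'
  have hO'M : O' ≤ M := map_subtype_le _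
  have hO'odd : Odd (Nat.card O') := by
    rw [hO', card_map_of_injective M.subtype_injective]; exact hN1o
  have hMO' : M ≤ normalizer (O' : Set G) := fun m hm => mem_normalizer_of_maps (by
    rintro _ ⟨w, hw, rfl⟩
    exact ⟨_, hN1n.conj_mem w hw ⟨m, hm⟩, rfl⟩)
  have hfac : ∀ m ∈ M, ∃ k ∈ O', k⁻¹ * m ∈ D ⊓ M := by
    intro m hm
    have hgz2 : orderOf ((⟨m, hm⟩ : M) * zM * (⟨m, hm⟩ : M)⁻¹) = 2 := by
      rw [← MulAut.conj_apply, MulEquiv.orderOf_eq, hzo]
    have hmem' : zM * ((⟨m, hm⟩ : M) * zM * (⟨m, hm⟩ : M)⁻¹) ∈ N1 := by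
      have := hN1c ⟨m, hm⟩
      rwa [Involution.inv_of_orderOf hzo, show zM * ⟨m, hm⟩ * zM * (⟨m, hm⟩ : M)⁻¹ =
        zM * ((⟨m, hm⟩ : M) * zM * (⟨m, hm⟩ : M)⁻¹) by group] at this
    obtain ⟨k, hk, hke⟩ := exists_conj_of_mul_mem hN1o hzo hgz2 hmem'
    have hke' : (k : G) * z * (k : G)⁻¹ = m * z * m⁻¹ := congrArg Subtype.val hke
    refine ⟨k, ⟨k, hk, rfl⟩, Subgroup.mem_inf.mpr ⟨Subgroup.mem_inf.mpr ⟨?_,
      hMC (mul_mem (inv_mem k.2) hm)⟩, mul_mem (inv_mem k.2) hm⟩⟩
    refine mem_centralizer_singleton_iff.mpr ?_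
    calc (k : G)⁻¹ * m * z = (k : G)⁻¹ * (m * z * m⁻¹) * m := by group
      _ = z * ((k : G)⁻¹ * m) := by rw [← hke']; group
  set OD := oddOf (D ⊓ M) with hOD
  have hW : O' ⊔ OD ≤ oddOf M := by
    refine le_oddOf (sup_le hO'M ((oddOf_le _).trans inf_le_right))
      (odd_card_sup hO'odd (oddOf_odd _) (((oddOf_le _).trans inf_le_right).trans hMO')) ?_
    intro m hm
    obtain ⟨k, hk, hkm⟩ := hfac m hm
    have hk' : k ∈ normalizer ((O' ⊔ OD : Subgroup G) : Set G) :=
      le_normalizer (mem_sup_left hk)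
    have hkm' : k⁻¹ * m ∈ normalizer ((O' ⊔ OD : Subgroup G) : Set G) := by
      refine mem_normalizer_of_maps fun y hy => ?_
      suffices O' ⊔ OD ≤ (O' ⊔ OD).comap (MulAut.conj (k⁻¹ * m)).toMonoidHom from this hy
      exact sup_le
        (fun w hw => mem_sup_left
          ((mem_normalizer_iff.mp (hMO' (Subgroup.mem_inf.mp hkm).2) w).mp hw))
        (fun w hw => mem_sup_right ((mem_normalizer_iff.mp (le_normalizer_oddOf _ hkm) w).mp hw))
    simpa using mul_mem hk' hkm'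
  have hgM : ∀ m ∈ M, ∃ o ∈ oddOf C, ∃ n ∈ normalizer (A : Set G), m = o * n := by
    intro m hm
    obtain ⟨k, hk, hkm⟩ := hfac m hm
    obtain ⟨o, ho, n, hn, he⟩ := hgD _ (Subgroup.mem_inf.mp hkm).1
    have hoC : o ∈ C := (Subgroup.mem_inf.mp (oddOf_le _ ho)).2
    have hoO : oddOf D ≤ OD := by
      refine le_oddOf (le_inf (oddOf_le D) ?_) (oddOf_odd D)
        (inf_le_left.trans (le_normalizer_oddOf D))
      intro w hw
      exact hoddM w (Subgroup.mem_inf.mp (oddOf_le D hw)).2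
        ((oddOf_odd D).of_dvd_nat ((oddOf D).orderOf_dvd_natCard hw))
    refine ⟨k * o, hOM (hW (mul_mem (mem_sup_left hk) (mem_sup_right (hoO ho)))), n, hn, ?_⟩
    rw [mul_assoc, ← he, mul_inv_cancel_left]
  intro y hy
  rcases hcos y hy with h | h
  · exact hgM y h
  · obtain ⟨o, ho, n, hn, he⟩ := hgM _ h
    refine ⟨o, ho, n * u, mul_mem hn huN, ?_⟩
    rw [← mul_assoc, ← he, mul_assoc, huu, mul_one]

/-- `A O(G)` is normal in the three-class case. -/
theorem normal_sup : (A ⊔ Cfsg.pPrimeCore 2 G).Normal := by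
  have hs := hp.sixteen
  obtain ⟨b, x, hb, hb1, hbz, -, hbV, hx, hx3, hx1, hxz, hxb⟩ := hp.exists_b_x
  obtain ⟨hzb, -, hclosed⟩ := hp.classes3 hb hb1 hbz
  have hgz := hp.good_z hb hb1 hbz hbV hx hx3 hx1 hxz hxb
  have hgb := hp.good_b hb hb1 hbz hx hx3 hx1 hxz hxb hgz
  refine normal_sup_pPrimeCore_of_good hclosed hs.elem (by rw [hs.card_A]; norm_num)
    (fun y hy h2 => hp.centralizer_two hy h2) ?_ ?_
  · intro a ha ha1
    rcases hp.two_orbits hb hb1 hbz ha ha1 with h | h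
    · exact ⟨b, hb, hb1, fun e => hzb ((isConj_of_orbN h).trans e.symm)⟩
    · exact ⟨z, hp.zA, hp.z1, fun e => hzb (e.trans (isConj_of_orbN h).symm)⟩
  · intro a ha ha1
    rcases hp.two_orbits hb hb1 hbz ha ha1 with h | h
    · obtain ⟨n, hn, rfl⟩ := h; exact hgz.conj hn
    · obtain ⟨n, hn, rfl⟩ := h; exact hgb.conj hn

end Pointed

end Cfsg.Agent.StrClosed41
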