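import Cfsg.Agent.SylTwoSix.Sp
import Mathlib.GroupTheory.SpecificGroups.Alternating

/-!
# Finite checks in `A₅`, and the centre of a Sylow 2-subgroup of `A₈`
-/

set_option autoImplicit false

namespace Cfsg.Agent.StrClosed41

open Subgroup

local notation "A5" => (alternatingGroup (Fin 5))

set_option maxRecDepth 100000 in
theorem a5_card_commute : ∀ w : A5, w * w = 1 → w ≠ 1 →
    (Finset.univ.filter fun x : A5 => x * w = w * x).card = 4 := by decide +kernel

set_option maxRecDepth 100000 in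
theorem a5_sq_of_commute : ∀ w : A5, w * w = 1 → w ≠ 1 →
    ∀ x : A5, x * w = w * x → x * x = 1 := by decide +kernel

set_option maxRecDepth 100000 in
theorem a5_sq_of_four : ∀ x : A5, x * x * (x * x) = 1 → x * x = 1 := by decide +kernel

set_option maxRecDepth 100000 in
theorem a5_five : ∀ w : A5, w * w = 1 → w ≠ 1 →
    ∃ g : A5, w * (g * w * g⁻¹) ≠ 1 ∧ (w * (g * w * g⁻¹)) ^ 5 = 1 := by decide +kernel

set_option maxRecDepth 100000 in
theorem a5_conj_invol : ∀ w : A5, w * w = 1 → w ≠ 1 → ∀ w' : A5, w' * w' = 1 → w' ≠ 1 →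
    ∃ g : A5, g * w * g⁻¹ = w' := by decide +kernel

set_option maxRecDepth 100000 in
theorem a5_inverted : ∀ x : A5, x ^ 3 = 1 → x ≠ 1 →
    ∃ w : A5, w * w = 1 ∧ w ≠ 1 ∧ w * x * w = x⁻¹ := by decide +kernel

theorem a5_card : Nat.card A5 = 60 := by
  rw [nat_card_alternatingGroup, Nat.card_fin]
  rfl

set_option maxRecDepth 100000 in
theorem evA_noncomm :
    (∃ j, SylTwoSix.evA 1 (SylTwoSix.evA 2 j) ≠ SylTwoSix.evA 2 (SylTwoSix.evA 1 j)) ∧
    (∃ j, SylTwoSix.evA 1 (SylTwoSix.evA 4 j) ≠ SylTwoSix.evA 4 (SylTwoSix.evA 1 j)) ∧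
    (∃ j, SylTwoSix.evA 1 (SylTwoSix.evA 5 j) ≠ SylTwoSix.evA 5 (SylTwoSix.evA 1 j)) ∧
    (∃ j, SylTwoSix.evA 2 (SylTwoSix.evA 4 j) ≠ SylTwoSix.evA 4 (SylTwoSix.evA 2 j)) ∧
    (∃ j, SylTwoSix.evA 2 (SylTwoSix.evA 5 j) ≠ SylTwoSix.evA 5 (SylTwoSix.evA 2 j)) ∧
    (∃ j, SylTwoSix.evA 4 (SylTwoSix.evA 5 j) ≠ SylTwoSix.evA 5 (SylTwoSix.evA 4 j)) := by
  decide +kernel

/-- The centre of a Sylow 2-subgroup of `A₈` has order less than 16. -/
theorem card_center_sylow_A8 (P : Sylow 2 ↥(alternatingGroup (Fin 8))) :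
    Nat.card (center ↥(P : Subgroup ↥(alternatingGroup (Fin 8)))) < 16 := by
  open SylTwoSix in
  haveI : Fact (Nat.Prime 2) := ⟨Nat.prime_two⟩
  have hinj : Function.Injective evA := permOf_injective permA_inv permA_idx
  set Q := evA_table.toSubgroup reaches_A with hQ
  have hle : Q ≤ alternatingGroup (Fin 8) :=
    evA_table.toSubgroup_le reaches_A fun i => Equiv.Perm.mem_alternatingGroup.2 (evA_sign i)
  have hcQ : Nat.card Q = 64 := evA_table.card_toSubgroup reaches_A hinj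
  have hcA : Nat.card ↥(alternatingGroup (Fin 8)) = 20160 := by
    rw [nat_card_alternatingGroup, Nat.card_fin]
    rfl
  have hc0 : Nat.card (Q.subgroupOf (alternatingGroup (Fin 8))) =
      2 ^ (Nat.card ↥(alternatingGroup (Fin 8))).factorization 2 := by
    rw [Nat.card_congr (subgroupOfEquivOfLe hle).toEquiv, hcQ, hcA,
      show (20160 : ℕ) = 2 ^ 6 * 315 by norm_num, factorization_two 6 315 (by norm_num)]
    rfl
  let P0 : Sylow 2 ↥(alternatingGroup (Fin 8)) := Sylow.ofCard _ hc0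
  have e : ↥(P : Subgroup ↥(alternatingGroup (Fin 8))) ≃* Q :=
    (P.equiv P0).trans (subgroupOfEquivOfLe hle)
  rw [Nat.card_congr (Subgroup.centerCongr e).toEquiv]
  by_contra hge
  have h1 := (center Q).card_mul_index
  rw [hcQ] at h1
  have hidx : (center Q).index ≤ 4 := by nlinarith
  -- four pairwise non-commuting elements give five cosets
  let el : Fin 64 → Q := fun x => ⟨evA x, ⟨x, rfl⟩⟩
  obtain ⟨h12, h14, h15, h24, h25, h45⟩ := evA_noncomm
  have key : ∀ x y : Fin 64, (∃ j, evA x (evA y j) ≠ evA y (evA x j)) →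
      (QuotientGroup.mk (el x) : Q ⧸ center Q) ≠ QuotientGroup.mk (el y) ∧
      (QuotientGroup.mk (el x) : Q ⧸ center Q) ≠ 1 ∧
      (QuotientGroup.mk (el y) : Q ⧸ center Q) ≠ 1 := by
    rintro x y ⟨j, hj⟩
    have hne : el x * el y ≠ el y * el x := fun e =>
      hj (congrArg (fun p : Equiv.Perm (Fin 8) => p j) (congrArg Subtype.val e :
        evA x * evA y = evA y * evA x))
    refine ⟨fun e => hne ?_, fun e => hne ?_, fun e => hne ?_⟩
    · have hm := mem_center_iff.mp (QuotientGroup.eq.mp e) (el x)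
      calc el x * el y = el x * ((el x) * ((el x)⁻¹ * el y)) := by group
        _ = el x * (((el x)⁻¹ * el y) * el x) := by rw [hm]
        _ = el y * el x := by group
    · exact (mem_center_iff.mp ((QuotientGroup.eq_one_iff _).mp e) (el y)).symm
    · exact mem_center_iff.mp ((QuotientGroup.eq_one_iff _).mp e) (el x)
  classical
  haveI := Fintype.ofFinite (Q ⧸ center Q)
  have h5 : ({1, QuotientGroup.mk (el 1), QuotientGroup.mk (el 2), QuotientGroup.mk (el 4),
      QuotientGroup.mk (el 5)} : Finset (Q ⧸ center Q)).card = 5 := by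
    obtain ⟨a12, a1, a2⟩ := key 1 2 h12
    obtain ⟨a14, -, a4⟩ := key 1 4 h14
    obtain ⟨a15, -, a5⟩ := key 1 5 h15
    obtain ⟨a24, -, -⟩ := key 2 4 h24
    obtain ⟨a25, -, -⟩ := key 2 5 h25
    obtain ⟨a45, -, -⟩ := key 4 5 h45
    simp [a12, a14, a15, a24, a25, a45, a1.symm, a2.symm, a4.symm, a5.symm]
  have h6 := Finset.card_le_univ ({1, QuotientGroup.mk (el 1), QuotientGroup.mk (el 2),
    QuotientGroup.mk (el 4), QuotientGroup.mk (el 5)} : Finset (Q ⧸ center Q))
  rw [h5, ← Nat.card_eq_fintype_card, ← index_eq_card] at h6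
  omega

end Cfsg.Agent.StrClosed41
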