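import Cfsg.Agent.StrClosed41.Local
import Cfsg.Agent.StrClosed41.A5Facts
import Cfsg.Prelude.Def_CaseTheorems

/-!
# `A ≅ 2⁴` with `N(A) / C(A) ≅ A₅`: first consequences

Fixed points of elements, conjugacy of the involutions outside `A`, orbit sizes.
-/

set_option autoImplicit false

namespace Cfsg.Agent.StrClosed41

open Subgroup

local notation "A5" => (alternatingGroup (Fin 5))

variable {G : Type*} [Group G]

/-- `A` of order 16 with `N(A)` acting as `A₅` and a Sylow 2-subgroup of order 64 in `N(A)`. -/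
structure Sixteen (A : Subgroup G) (q : ↥(normalizer (A : Set G)) →* A5) (R : Sylow 2 G) :
    Prop where
  elem : Cfsg.IsElementaryAbelian 2 A
  card_A : Nat.card A = 16
  surj : Function.Surjective q
  ker : ∀ n : ↥(normalizer (A : Set G)), q n = 1 ↔ (n : G) ∈ centralizer (A : Set G)
  dec : ∀ n : ↥(normalizer (A : Set G)), q n = 1 →
    ∃ a ∈ A, ∃ o ∈ oddOf (normalizer (A : Set G)), (n : G) = a * o ∧ a * o = o * a
  card_R : Nat.card (R : Subgroup G) = 64
  AR : A ≤ (R : Subgroup G)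
  RN : (R : Subgroup G) ≤ normalizer (A : Set G)

/-- The two-element subgroup `{1, z}` as a predicate. -/
theorem four_elems {K : Subgroup G} [Finite G] (hK : Nat.card K = 4) {x y : G} (hx : x ∈ K)
    (hy : y ∈ K) (hx1 : x ≠ 1) (hy1 : y ≠ 1) (hxy : x ≠ y) (hx2 : x * x = 1) {v : G} (hv : v ∈ K) :
    v = 1 ∨ v = x ∨ v = y ∨ v = x * y := by
  classical
  haveI := Fintype.ofFinite K
  by_contra hc
  push Not at hc
  obtain ⟨n1, n2, n3, n4⟩ := hc
  have hxy1 : x * y ≠ 1 := fun e => hxy (by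
    rw [← mul_one x, ← e, ← mul_assoc, hx2, one_mul])
  have hsub : ({1, x, y, x * y, v} : Finset G) ⊆ (Finset.univ : Finset K).map
      ⟨Subtype.val, Subtype.val_injective⟩ := by
    intro t ht
    simp only [Finset.mem_insert, Finset.mem_singleton] at ht
    rcases ht with rfl | rfl | rfl | rfl | rfl <;> simp [hx, hy, hv, mul_mem hx hy]
  have := Finset.card_le_card hsub
  rw [Finset.card_map, Finset.card_univ, ← Nat.card_eq_fintype_card, hK] at this
  rw [Finset.card_insert_of_notMem, Finset.card_insert_of_notMem, Finset.card_insert_of_notMem,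
    Finset.card_pair n4.symm] at this
  · omega
  · simp only [Finset.mem_insert, Finset.mem_singleton]
    push Not
    exact ⟨fun e => hx1 (mul_eq_right.mp e.symm), n3.symm⟩
  · simp only [Finset.mem_insert, Finset.mem_singleton]
    push Not
    exact ⟨hxy, fun e => hy1 (mul_eq_left.mp e.symm), n2.symm⟩
  · simp only [Finset.mem_insert, Finset.mem_singleton]
    push Not
    exact ⟨hx1.symm, hy1.symm, hxy1.symm, n1.symm⟩

/-- Fixed points of an automorphism of `p`-power order, modulo `p`. -/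
theorem card_fixed_modEq {α : Type*} [Finite α] (f : α ≃ α) (p : ℕ) [Fact p.Prime]
    (h : ∀ x, (f : α → α)^[p] x = x) :
    Nat.card α ≡ Nat.card {x : α // f x = x} [MOD p] := by
  classical
  haveI := Fintype.ofFinite α
  rw [Nat.card_eq_fintype_card, Nat.card_eq_fintype_card]
  let F : Function.End α := (f : α → α)
  have := Equiv.Perm.card_fixedPoints_modEq (p := p) (n := 1) (f := F) (by
    rw [pow_one]
    funext x
    have e : ∀ n : ℕ, F ^ n = (f : α → α)^[n] := by
      intro n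
      induction n with
      | zero => rfl
      | succ n ih => rw [pow_succ, ih, Function.iterate_succ]; rfl
    rw [e]
    exact h x)
  exact this

namespace Sixteen

variable {A : Subgroup G} {q : ↥(normalizer (A : Set G)) →* A5} {R : Sylow 2 G}
variable (hs : Sixteen A q R) [Finite G]

include hs

theorem commA {x y : G} (hx : x ∈ A) (hy : y ∈ A) : x * y = y * x :=
  congrArg Subtype.val (hs.elem.1.is_comm.comm ⟨x, hx⟩ ⟨y, hy⟩)

theorem sqA {x : G} (hx : x ∈ A) : x * x = 1 := by simpa [sq] using hs.elem.2 x hx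

theorem invA {x : G} (hx : x ∈ A) : x⁻¹ = x := inv_eq_of_mul_eq_one_right (hs.sqA hx)

theorem ordA {x : G} (hx : x ∈ A) (hx1 : x ≠ 1) : orderOf x = 2 := by
  haveI : Fact (Nat.Prime 2) := ⟨Nat.prime_two⟩
  exact orderOf_eq_prime (hs.elem.2 x hx) hx1

theorem two_A : IsPGroup 2 A := R.isPGroup'.to_le hs.AR

theorem conjA (n : ↥(normalizer (A : Set G))) {a : G} (ha : a ∈ A) :
    (n : G) * a * (n : G)⁻¹ ∈ A :=
  (mem_normalizer_iff.mp n.2 a).mp ha

/-- Elements with the same image act alike. -/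
theorem act_eq {m n : ↥(normalizer (A : Set G))} (h : q m = q n) {a : G} (ha : a ∈ A) :
    (m : G) * a * (m : G)⁻¹ = (n : G) * a * (n : G)⁻¹ := by
  have h1 : ((n⁻¹ * m : ↥(normalizer (A : Set G))) : G) ∈ centralizer (A : Set G) :=
    (hs.ker _).mp (by rw [map_mul, map_inv, h, inv_mul_cancel])
  have h2 := mem_centralizer_iff.mp h1 a ha
  simp only [Subgroup.coe_mul, Subgroup.coe_inv] at h2
  calc (m : G) * a * (m : G)⁻¹ = (n : G) * ((n : G)⁻¹ * m * a) * (m : G)⁻¹ := by group
    _ = (n : G) * (a * ((n : G)⁻¹ * m)) * (m : G)⁻¹ := by rw [h2]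
    _ = (n : G) * a * (n : G)⁻¹ := by group

theorem q_of_A {n : ↥(normalizer (A : Set G))} (h : (n : G) ∈ A) : q n = 1 :=
  (hs.ker n).mpr (mem_centralizer_iff.mpr fun _ hv => hs.commA hv h)

/-- A 2-element acting trivially lies in `A`. -/
theorem mem_A_of_q {n : ↥(normalizer (A : Set G))} (h : q n = 1)
    (h2 : IsPGroup 2 (zpowers (n : G))) : (n : G) ∈ A := by
  obtain ⟨a, ha, o, ho, he, hc⟩ := hs.dec n h
  obtain ⟨k, hk⟩ := h2 ⟨(n : G), mem_zpowers _⟩
  have hk' : (n : G) ^ 2 ^ (k + 1) = 1 := by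
    rw [pow_succ, pow_mul, show (n : G) ^ 2 ^ k = 1 from congrArg Subtype.val hk, one_pow]
  rw [he, (show Commute a o from hc).mul_pow, pow_succ', pow_mul, sq, hs.sqA ha, one_pow,
    one_mul] at hk'
  have ho1 : o = 1 := by
    have hodd : Odd (orderOf o) :=
      (oddOf_odd _).of_dvd_nat ((oddOf (normalizer (A : Set G))).orderOf_dvd_natCard ho)
    refine orderOf_eq_one_iff.mp (Nat.eq_one_of_dvd_coprimes
      ((Nat.coprime_two_left.mpr hodd).pow_left (k + 1)) ?_ dvd_rfl)
    rw [pow_succ']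
    exact orderOf_dvd_of_pow_eq_one hk' 
  rw [he, ho1, mul_one]
  exact ha

theorem qR_one {t : G} (ht : t ∈ (R : Subgroup G)) (h : q ⟨t, hs.RN ht⟩ = 1) : t ∈ A :=
  hs.mem_A_of_q (n := ⟨t, hs.RN ht⟩) h (R.isPGroup'.to_le (zpowers_le.mpr ht))

theorem card_range :
    Nat.card (q.comp (inclusion hs.RN)).range = 4 := by
  have hker : (q.comp (inclusion hs.RN)).ker = A.subgroupOf (R : Subgroup G) := by
    ext t
    exact ⟨fun e => hs.qR_one t.2 e, fun e => hs.q_of_A e⟩
  have h1 := (A.subgroupOf (R : Subgroup G)).card_mul_index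
  rw [Nat.card_congr (subgroupOfEquivOfLe hs.AR).toEquiv, hs.card_A, hs.card_R, ← hker,
    index_ker] at h1
  omega

theorem mem_range {e : A5} : e ∈ (q.comp (inclusion hs.RN)).range ↔
    ∃ t, ∃ ht : t ∈ (R : Subgroup G), q ⟨t, hs.RN ht⟩ = e :=
  ⟨fun ⟨t, ht⟩ => ⟨t.1, t.2, ht⟩, fun ⟨t, ht, e⟩ => ⟨⟨t, ht⟩, e⟩⟩

theorem range_sq {e : A5} (he : e ∈ (q.comp (inclusion hs.RN)).range) : e * e = 1 := by
  refine a5_sq_of_four e ?_
  have h := pow_card_eq_one' (G := (q.comp (inclusion hs.RN)).range) (x := ⟨e, he⟩)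
  rw [hs.card_range] at h
  have h' : e ^ 4 = 1 := congrArg Subtype.val h
  rwa [show (4 : ℕ) = 2 + 2 from rfl, pow_add, sq] at h'

theorem q_sq {t : G} (ht : t ∈ (R : Subgroup G)) :
    q ⟨t, hs.RN ht⟩ * q ⟨t, hs.RN ht⟩ = 1 :=
  hs.range_sq (hs.mem_range.mpr ⟨t, ht, rfl⟩)

theorem range_comm {e e' : A5} (he : e ∈ (q.comp (inclusion hs.RN)).range)
    (he' : e' ∈ (q.comp (inclusion hs.RN)).range) : e * e' = e' * e := by
  have h1 := hs.range_sq (mul_mem he he')
  calc e * e' = e * (e * e' * (e * e')) * e' := by rw [h1, mul_one]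
    _ = (e * e) * (e' * e) * (e' * e') := by group
    _ = e' * e := by rw [hs.range_sq he, hs.range_sq he', one_mul, mul_one]

/-- The image of `R` is the centralizer of each of its involutions. -/
theorem range_eq {t : G} (ht : t ∈ (R : Subgroup G)) (htA : t ∉ A) {e : A5}
    (he : e * q ⟨t, hs.RN ht⟩ = q ⟨t, hs.RN ht⟩ * e) :
    e ∈ (q.comp (inclusion hs.RN)).range := by
  classical
  haveI := Fintype.ofFinite (q.comp (inclusion hs.RN)).range
  set w := q ⟨t, hs.RN ht⟩ with hw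
  have hsub : (Finset.univ : Finset (q.comp (inclusion hs.RN)).range).map
      ⟨Subtype.val, Subtype.val_injective⟩ ⊆ Finset.univ.filter fun x : A5 => x * w = w * x := by
    intro x hx
    obtain ⟨y, -, rfl⟩ := Finset.mem_map.mp hx
    exact Finset.mem_filter.mpr ⟨Finset.mem_univ _,
      hs.range_comm y.2 (hs.mem_range.mpr ⟨t, ht, rfl⟩)⟩
  have h4 := a5_card_commute w (hs.q_sq ht) fun e1 => htA (hs.qR_one ht e1)
  have heq := Finset.eq_of_subset_of_card_le hsub
    (by rw [Finset.card_map, Finset.card_univ, ← Nat.card_eq_fintype_card, hs.card_range, h4])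
  have : e ∈ Finset.univ.filter fun x : A5 => x * w = w * x :=
    Finset.mem_filter.mpr ⟨Finset.mem_univ _, he⟩
  rw [← heq] at this
  obtain ⟨y, -, rfl⟩ := Finset.mem_map.mp this
  exact y.2

/-- Fixed points modulo a prime. -/
theorem fix_modEq (n : ↥(normalizer (A : Set G))) (p : ℕ) [Fact p.Prime] (hn : q n ^ p = 1) :
    16 ≡ Nat.card ↥(A ⊓ centralizer ({(n : G)} : Set G)) [MOD p] := by
  let f : A ≃ A :=
    { toFun := fun a => ⟨(n : G) * a * (n : G)⁻¹, hs.conjA n a.2⟩
      invFun := fun a => ⟨(n : G)⁻¹ * a * n, by simpa using hs.conjA n⁻¹ a.2⟩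
      left_inv := fun a => Subtype.ext (by group)
      right_inv := fun a => Subtype.ext (by group) }
  have hit : ∀ (k : ℕ) (a : A), (((f : A → A)^[k] a : A) : G) = (n : G) ^ k * a * ((n : G) ^ k)⁻¹ := by
    intro k
    induction k with
    | zero => intro a; simp
    | succ k ih =>
      intro a
      rw [Function.iterate_succ_apply', pow_succ']
      show (n : G) * _ * (n : G)⁻¹ = _
      rw [ih]
      group
  have h := card_fixed_modEq f p fun a => Subtype.ext (by
    rw [hit]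
    have := hs.act_eq (m := n ^ p) (n := 1) (by rw [map_pow, hn, map_one]) a.2
    simpa using this)
  rw [hs.card_A] at h
  refine h.trans (congrArg (· % p) ?_)
  refine Nat.card_congr
    { toFun := fun x => ⟨x.1.1, Subgroup.mem_inf.mpr ⟨x.1.2, mem_centralizer_singleton_iff.mpr ?_⟩⟩
      invFun := fun x => ⟨⟨x.1, (Subgroup.mem_inf.mp x.2).1⟩, Subtype.ext ?_⟩
      left_inv := fun x => rfl
      right_inv := fun x => rfl }
  · have := congrArg Subtype.val x.2
    exact (mul_inv_eq_iff_eq_mul.mp this).symm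
  · show (n : G) * x.1 * (n : G)⁻¹ = x.1
    rw [← mem_centralizer_singleton_iff.mp (Subgroup.mem_inf.mp x.2).2, mul_inv_cancel_right]

theorem five_fix {n : ↥(normalizer (A : Set G))} (hn : q n ^ 5 = 1) (hn1 : q n ≠ 1) :
    A ⊓ centralizer ({(n : G)} : Set G) = ⊥ := by
  haveI : Fact (Nat.Prime 5) := ⟨by norm_num⟩
  have h := hs.fix_modEq n 5 hn
  have hd : Nat.card ↥(A ⊓ centralizer ({(n : G)} : Set G)) ∣ 2 ^ 4 := by
    have := card_dvd_of_le (inf_le_left : A ⊓ centralizer ({(n : G)} : Set G) ≤ A)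
    rwa [hs.card_A] at this
  obtain ⟨k, hk, hke⟩ := (Nat.dvd_prime_pow Nat.prime_two).mp hd
  rw [hke] at h
  have : k = 0 ∨ k = 4 := by
    interval_cases k <;> simp_all [Nat.ModEq]
  rcases this with rfl | rfl
  · exact eq_bot_of_card_eq _ (by rw [hke, pow_zero])
  · exfalso
    refine hn1 ((hs.ker n).mpr (mem_centralizer_iff.mpr fun v hv => ?_))
    have he : A ⊓ centralizer ({(n : G)} : Set G) = A :=
      eq_of_le_of_card_ge inf_le_left (by rw [hs.card_A, hke]; norm_num)
    rw [← he] at hv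
    exact mem_centralizer_singleton_iff.mp (Subgroup.mem_inf.mp hv).2

theorem three_fix {n : ↥(normalizer (A : Set G))} (hn : q n ^ 3 = 1) (hn1 : q n ≠ 1) :
    Nat.card ↥(A ⊓ centralizer ({(n : G)} : Set G)) = 1 ∨
      Nat.card ↥(A ⊓ centralizer ({(n : G)} : Set G)) = 4 := by
  haveI : Fact (Nat.Prime 3) := ⟨by norm_num⟩
  have h := hs.fix_modEq n 3 hn
  have hd : Nat.card ↥(A ⊓ centralizer ({(n : G)} : Set G)) ∣ 2 ^ 4 := by
    have := card_dvd_of_le (inf_le_left : A ⊓ centralizer ({(n : G)} : Set G) ≤ A)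
    rwa [hs.card_A] at this
  obtain ⟨k, hk, hke⟩ := (Nat.dvd_prime_pow Nat.prime_two).mp hd
  rw [hke] at h ⊢
  have : k = 0 ∨ k = 2 ∨ k = 4 := by
    interval_cases k <;> simp_all [Nat.ModEq]
  rcases this with rfl | rfl | rfl
  · simp
  · simp
  · exfalso
    refine hn1 ((hs.ker n).mpr (mem_centralizer_iff.mpr fun v hv => ?_))
    have he : A ⊓ centralizer ({(n : G)} : Set G) = A :=
      eq_of_le_of_card_ge inf_le_left (by rw [hs.card_A, hke]; norm_num)
    rw [← he] at hv
    exact mem_centralizer_singleton_iff.mp (Subgroup.mem_inf.mp hv).2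

/-! ### Involutions outside `A` -/

theorem range_commutator {t u : G} (ht : t ∈ (R : Subgroup G)) (hu : u ∈ (R : Subgroup G)) :
    t * u * (u * t)⁻¹ ∈ A := by
  have hm := mul_mem (mul_mem ht hu) (inv_mem (mul_mem hu ht))
  refine hs.qR_one hm ?_
  have h : (⟨_, hs.RN hm⟩ : ↥(normalizer (A : Set G))) =
      ⟨t, hs.RN ht⟩ * ⟨u, hs.RN hu⟩ * (⟨u, hs.RN hu⟩ * ⟨t, hs.RN ht⟩)⁻¹ := rfl
  rw [h, map_mul, map_mul, map_inv, map_mul,
    hs.range_comm (hs.mem_range.mpr ⟨t, ht, rfl⟩) (hs.mem_range.mpr ⟨u, hu, rfl⟩), mul_inv_cancel]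

theorem card_fix_t {t : G} (ht : t ∈ (R : Subgroup G)) (htA : t ∉ A) :
    Nat.card ↥(A ⊓ centralizer ({t} : Set G)) = 4 := by
  haveI : Fact (Nat.Prime 2) := ⟨Nat.prime_two⟩
  set tn : ↥(normalizer (A : Set G)) := ⟨t, hs.RN ht⟩ with htn
  set C := A ⊓ centralizer ({t} : Set G) with hC
  have hw1 : q tn ≠ 1 := fun e => htA (hs.qR_one ht e)
  have hd : Nat.card C ∣ 2 ^ 4 := by
    have := card_dvd_of_le (inf_le_left : C ≤ A)
    rwa [hs.card_A] at this
  -- the map `a ↦ [a, t]`
  let φ : A →* A :=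
    { toFun := fun a => ⟨(a : G) * (t * a * t⁻¹), mul_mem a.2 (hs.conjA tn a.2)⟩
      map_one' := Subtype.ext (by simp)
      map_mul' := fun a b => Subtype.ext (by
        show (a : G) * b * (t * ((a : G) * b) * t⁻¹) = (a : G) * (t * a * t⁻¹) * ((b : G) * (t * b * t⁻¹))
        calc (a : G) * b * (t * ((a : G) * b) * t⁻¹) = (a : G) * ((b : G) * (t * a * t⁻¹)) * (t * b * t⁻¹) := by group
          _ = (a : G) * ((t * a * t⁻¹) * (b : G)) * (t * b * t⁻¹) := by
            rw [hs.commA b.2 (hs.conjA tn a.2)]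
          _ = _ := by group) }
  have hker : φ.ker.map A.subtype = C := by
    ext x
    constructor
    · rintro ⟨a, ha, rfl⟩
      refine Subgroup.mem_inf.mpr ⟨a.2, mem_centralizer_singleton_iff.mpr ?_⟩
      have h1 : (a : G) * (t * a * t⁻¹) = 1 := congrArg Subtype.val ha
      have h2 : t * a * t⁻¹ = a := by
        rw [← inv_eq_of_mul_eq_one_right h1, hs.invA a.2]
      exact (mul_inv_eq_iff_eq_mul.mp h2).symm
    · intro hx
      obtain ⟨hxA, hxt⟩ := Subgroup.mem_inf.mp hx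
      refine ⟨⟨x, hxA⟩, Subtype.ext ?_, rfl⟩
      show x * (t * x * t⁻¹) = 1
      rw [← mem_centralizer_singleton_iff.mp hxt, mul_inv_cancel_right, hs.sqA hxA]
  have hran : φ.range.map A.subtype ≤ C := by
    rintro _ ⟨_, ⟨a, rfl⟩, rfl⟩
    refine Subgroup.mem_inf.mpr ⟨(φ a).2, mem_centralizer_singleton_iff.mpr ?_⟩
    show (a : G) * (t * a * t⁻¹) * t = t * ((a : G) * (t * a * t⁻¹))
    have h2 : t * (t * a * t⁻¹) * t⁻¹ = a := by
      have := hs.act_eq (m := tn * tn) (n := 1)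
        (by rw [map_mul, map_one]; exact hs.q_sq ht) a.2
      simp only [Subgroup.coe_mul, Subgroup.coe_one, one_mul, inv_one, mul_one] at this
      exact (show t * (t * a * t⁻¹) * t⁻¹ = t * t * a * (t * t)⁻¹ by group).trans this
    calc (a : G) * (t * a * t⁻¹) * t = (t * a * t⁻¹) * (t * (t * a * t⁻¹) * t⁻¹) * t := by
          rw [h2, hs.commA a.2 (hs.conjA tn a.2)]
      _ = t * ((a : G) * (t * a * t⁻¹)) := by group
  have hmul : Nat.card φ.range * Nat.card C = 16 := by
    rw [← hker, card_map_of_injective A.subtype_injective, ← index_ker, mul_comm, card_mul_index,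
      hs.card_A]
  have hle : Nat.card φ.range ≤ Nat.card C := by
    rw [← card_map_of_injective (f := A.subtype) A.subtype_injective]
    exact Subgroup.card_le_of_le hran
  obtain ⟨k, hk, hke⟩ := (Nat.dvd_prime_pow Nat.prime_two).mp hd
  rw [hke] at hmul hle
  interval_cases k
  · omega
  · omega
  · exact hke
  · -- a transvection
    exfalso
    obtain ⟨g5, hg1, hg5⟩ := a5_five (q tn) (hs.q_sq ht) hw1
    obtain ⟨g, rfl⟩ := hs.surj g5
    set d := tn * (g * tn * g⁻¹) with hd'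
    have hqd : q d = q tn * (q g * q tn * (q g)⁻¹) := by
      rw [hd', map_mul, map_mul, map_mul, map_inv]
    have hbot := hs.five_fix (n := d) (by rw [hqd]; exact hg5) (by rw [hqd]; exact hg1)
    set C' := C.map (MulAut.conj (g : G)).toMonoidHom with hC'
    have hC'A : C' ≤ A := by
      rintro _ ⟨x, hx, rfl⟩
      exact hs.conjA g (Subgroup.mem_inf.mp hx).1
    have hinf : C ⊓ C' = ⊥ := by
      rw [← le_bot_iff, ← hbot]
      intro x hx
      obtain ⟨hxC, hxC'⟩ := Subgroup.mem_inf.mp hx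
      obtain ⟨hxA, hxt⟩ := Subgroup.mem_inf.mp hxC
      obtain ⟨y, hy, rfl⟩ := hxC'
      have hyt := mem_centralizer_singleton_iff.mp (Subgroup.mem_inf.mp hy).2
      refine Subgroup.mem_inf.mpr ⟨hxA, mem_centralizer_singleton_iff.mpr ?_⟩
      have h2 : (g : G) * y * (g : G)⁻¹ * ((g : G) * t * (g : G)⁻¹) =
          (g : G) * t * (g : G)⁻¹ * ((g : G) * y * (g : G)⁻¹) := by
        rw [show (g : G) * y * (g : G)⁻¹ * ((g : G) * t * (g : G)⁻¹) = (g : G) * (y * t) * (g : G)⁻¹ by group,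
          hyt]
        group
      show (g : G) * y * (g : G)⁻¹ * (t * ((g : G) * t * (g : G)⁻¹)) =
        t * ((g : G) * t * (g : G)⁻¹) * ((g : G) * y * (g : G)⁻¹)
      have h3 := mem_centralizer_singleton_iff.mp hxt
      simp only [MulEquiv.coe_toMonoidHom, MulAut.conj_apply] at h3
      calc (g : G) * y * (g : G)⁻¹ * (t * ((g : G) * t * (g : G)⁻¹))
          = (g : G) * y * (g : G)⁻¹ * t * ((g : G) * t * (g : G)⁻¹) := by group
        _ = t * ((g : G) * y * (g : G)⁻¹ * ((g : G) * t * (g : G)⁻¹)) := by rw [h3]; group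
        _ = _ := by rw [h2]; group
    -- two hyperplanes meet nontrivially
    have hinj : Function.Injective (fun p : C × C' => (⟨(p.1 : G) * p.2,
        mul_mem (Subgroup.mem_inf.mp p.1.2).1 (hC'A p.2.2)⟩ : A)) := by
      rintro ⟨⟨x, hx⟩, ⟨y, hy⟩⟩ ⟨⟨x', hx'⟩, ⟨y', hy'⟩⟩ e
      have e' : x * y = x' * y' := congrArg Subtype.val e
      have h1 : x'⁻¹ * x = y' * y⁻¹ := by
        rw [eq_mul_inv_iff_mul_eq, mul_assoc, e', inv_mul_cancel_left]
      have h2 : x'⁻¹ * x ∈ C ⊓ C' := Subgroup.mem_inf.mpr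
        ⟨mul_mem (inv_mem hx') hx, h1 ▸ mul_mem hy' (inv_mem hy)⟩
      rw [hinf, Subgroup.mem_bot] at h2
      obtain rfl : x' = x := inv_mul_eq_one.mp h2
      obtain rfl : y = y' := mul_left_cancel e'
      rfl
    have := Nat.card_le_card_of_injective _ hinj
    rw [Nat.card_prod, hs.card_A, card_map_of_injective (MulAut.conj (g : G)).injective, hke] at this
    norm_num at this
  · exfalso
    refine hw1 ((hs.ker tn).mpr (mem_centralizer_iff.mpr fun v hv => ?_))
    have he : C = A := eq_of_le_of_card_ge inf_le_left (by rw [hs.card_A, hke]; norm_num)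
    rw [← he] at hv
    exact mem_centralizer_singleton_iff.mp (Subgroup.mem_inf.mp hv).2

/-- Every element of `C_A(t)` is a commutator `[a, t]`. -/
theorem exists_comm_eq {t : G} (ht : t ∈ (R : Subgroup G)) (htA : t ∉ A) {v : G} (hv : v ∈ A)
    (hvt : v * t = t * v) : ∃ a ∈ A, a * t * a⁻¹ = t * v := by
  classical
  set C := A ⊓ centralizer ({t} : Set G) with hC
  let f : A → C := fun a => ⟨t⁻¹ * ((a : G) * t * (a : G)⁻¹), by
    have h1 : t⁻¹ * (a : G) * t ∈ A := by
      simpa using hs.conjA (⟨t, hs.RN ht⟩ : ↥(normalizer (A : Set G)))⁻¹ a.2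
    have h2 : t⁻¹ * ((a : G) * t * (a : G)⁻¹) = t⁻¹ * (a : G) * t * (a : G) := by
      rw [hs.invA a.2]; group
    refine Subgroup.mem_inf.mpr ⟨h2 ▸ mul_mem h1 a.2, mem_centralizer_singleton_iff.mpr ?_⟩
    have h4 : t⁻¹ * (t⁻¹ * a * t) * t = a := by
      have := hs.act_eq (m := (⟨t, hs.RN ht⟩ : ↥(normalizer (A : Set G)))⁻¹ * (⟨t, hs.RN ht⟩)⁻¹)
        (n := 1) (by
          rw [map_mul, map_inv, map_one, ← mul_inv_rev, hs.q_sq ht, inv_one]) a.2
      simp only [Subgroup.coe_mul, Subgroup.coe_inv, Subgroup.coe_one, one_mul, inv_one, mul_one]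
        at this
      refine Eq.trans ?_ this
      simp only [mul_inv_rev, inv_inv, mul_assoc]
    rw [h2]
    calc t⁻¹ * a * t * a * t = t * (t⁻¹ * (t⁻¹ * a * t) * t) * (t⁻¹ * a * t) := by group
      _ = t * ((a : G) * (t⁻¹ * a * t)) := by rw [h4, mul_assoc]
      _ = t * (t⁻¹ * a * t * a) := by rw [hs.commA a.2 h1]⟩
  -- the fibres have at most four elements
  haveI := Fintype.ofFinite A
  haveI := Fintype.ofFinite C
  by_contra hno
  push Not at hno
  have hvC : v ∈ C := Subgroup.mem_inf.mpr ⟨hv, mem_centralizer_singleton_iff.mpr hvt⟩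
  have hns : ∀ a, f a ≠ ⟨v, hvC⟩ := fun a e => hno a a.2 (by
    have e' : t⁻¹ * ((a : G) * t * (a : G)⁻¹) = v := congrArg Subtype.val e
    rw [← e']; group)
  have hfib : ∀ c ∈ (Finset.univ : Finset C).erase ⟨v, hvC⟩,
      (Finset.univ.filter fun a => f a = c).card ≤ 4 := by
    intro c _
    rcases (Finset.univ.filter fun a => f a = c).eq_empty_or_nonempty with e | ⟨a0, ha0⟩
    · simp [e]
    calc (Finset.univ.filter fun a => f a = c).card
        ≤ (Finset.univ.map ⟨fun x : C => a0 * ⟨x.1, (Subgroup.mem_inf.mp x.2).1⟩, fun x y e =>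
            Subtype.ext (congrArg Subtype.val (mul_left_cancel e) :)⟩).card := by
          refine Finset.card_le_card fun a ha => Finset.mem_map.mpr ?_
          have e1 := (Finset.mem_filter.mp ha).2.trans (Finset.mem_filter.mp ha0).2.symm
          have e2 : (a : G) * t * (a : G)⁻¹ = (a0 : G) * t * (a0 : G)⁻¹ :=
            mul_left_cancel (congrArg Subtype.val e1)
          refine ⟨⟨(a0 : G)⁻¹ * a, Subgroup.mem_inf.mpr ⟨mul_mem (inv_mem a0.2) a.2,
            mem_centralizer_singleton_iff.mpr ?_⟩⟩, Finset.mem_univ _, Subtype.ext ?_⟩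
          · calc (a0 : G)⁻¹ * a * t = (a0 : G)⁻¹ * ((a : G) * t * (a : G)⁻¹) * a := by group
              _ = (a0 : G)⁻¹ * ((a0 : G) * t * (a0 : G)⁻¹) * a := by rw [e2]
              _ = t * ((a0 : G)⁻¹ * a) := by group
          · show (a0 : G) * ((a0 : G)⁻¹ * a) = a
            group
      _ = 4 := by rw [Finset.card_map, Finset.card_univ, ← Nat.card_eq_fintype_card,
            hC, hs.card_fix_t ht htA]
  have h16 := Finset.card_eq_sum_card_fiberwise (f := f) (s := Finset.univ)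
    (t := (Finset.univ : Finset C).erase ⟨v, hvC⟩)
    (fun a _ => Finset.mem_erase.mpr ⟨hns a, Finset.mem_univ _⟩)
  have := Finset.sum_le_card_nsmul _ _ 4 hfib
  rw [← h16, Finset.card_univ, Finset.card_erase_of_mem (Finset.mem_univ _), Finset.card_univ,
    ← Nat.card_eq_fintype_card, ← Nat.card_eq_fintype_card, hs.card_A, hC,
    hs.card_fix_t ht htA] at this
  norm_num at this

/-- An involution of `N(A)` over `t ∈ R ∖ A` is conjugate to one in `t A`. -/
theorem coset_cong {m : ↥(normalizer (A : Set G))} (hm : orderOf (m : G) = 2) {t : G}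
    (ht : t ∈ (R : Subgroup G)) (htA : t ∉ A) (he : q m = q ⟨t, hs.RN ht⟩) :
    ∃ a ∈ A, t * a * (t * a) = 1 ∧ t * a ∉ A ∧ IsConj (m : G) (t * a) := by
  obtain ⟨a, ha, o, ho, hao, -⟩ := hs.dec ((⟨t, hs.RN ht⟩ : (normalizer (A : Set G)))⁻¹ * m)
    (by rw [map_mul, map_inv, he, inv_mul_cancel])
  have hta : t * a ∈ (R : Subgroup G) := mul_mem ht (hs.AR ha)
  have hm' : (m : G) = t * a * o := by
    simp only [Subgroup.coe_mul, Subgroup.coe_inv] at hao
    rw [mul_assoc, ← hao, mul_inv_cancel_left]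
  have hOn : ∀ g ∈ (normalizer (A : Set G)), ∀ x ∈ oddOf (normalizer (A : Set G)), g * x * g⁻¹ ∈ oddOf (normalizer (A : Set G)) := fun g hg x hx =>
    (mem_normalizer_iff.mp (le_normalizer_oddOf (normalizer (A : Set G)) hg) x).mp hx
  have hx0 : (m : G) * (t * a)⁻¹ ∈ oddOf (normalizer (A : Set G)) := by
    rw [hm']
    exact hOn _ (hs.RN hta) o ho
  have h2 : t * a * (t * a) = 1 := by
    refine eq_one_of_mem_two_odd R.isPGroup' (oddOf_odd (normalizer (A : Set G))) (mul_mem hta hta) ?_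
    have hmm := Involution.mul_self_of_orderOf hm
    have : t * a * (t * a) = ((m : G) * (t * a)⁻¹)⁻¹ *
        ((m : G) * ((m : G) * (t * a)⁻¹)⁻¹ * (m : G)⁻¹) := by
      rw [show ((m : G) * (t * a)⁻¹)⁻¹ * ((m : G) * ((m : G) * (t * a)⁻¹)⁻¹ * (m : G)⁻¹) =
        t * a * (m : G)⁻¹ * (m : G) * (t * a) * ((m : G) * (m : G))⁻¹ by group, hmm]
      group
    rw [this]
    exact mul_mem (inv_mem hx0) (hOn _ m.2 _ (inv_mem hx0))
  have htaA : t * a ∉ A := fun e => htA (by simpa using mul_mem e (inv_mem ha))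
  have hord : orderOf (t * a) = 2 :=
    Involution.orderOf_eq_two_iff'.mpr ⟨h2, fun e => htaA (e ▸ one_mem A)⟩
  refine ⟨a, ha, h2, htaA, ?_⟩
  obtain ⟨k, -, hk⟩ := exists_conj_of_mul_mem (oddOf_odd (normalizer (A : Set G))) hm hord
    (by rwa [← Involution.inv_of_orderOf hord])
  exact isConj_iff.mpr ⟨k, hk⟩

/-- The involutions of `R ∖ A` are conjugate. -/
theorem conj_outside {s t : G} (hs' : s ∈ (R : Subgroup G)) (hsA : s ∉ A) (hs2 : orderOf s = 2)
    (ht : t ∈ (R : Subgroup G)) (htA : t ∉ A) (ht2 : orderOf t = 2) : IsConj s t := by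
  obtain ⟨g', hg'⟩ := a5_conj_invol (q ⟨s, hs.RN hs'⟩) (hs.q_sq hs')
    (fun e => hsA (hs.qR_one hs' e)) (q ⟨t, hs.RN ht⟩) (hs.q_sq ht)
    (fun e => htA (hs.qR_one ht e))
  obtain ⟨g, rfl⟩ := hs.surj g'
  obtain ⟨a, ha, ha2, -, hconj⟩ := hs.coset_cong (m := g * ⟨s, hs.RN hs'⟩ * g⁻¹)
    (by simp only [Subgroup.coe_mul, Subgroup.coe_inv]
        rw [← MulAut.conj_apply, MulEquiv.orderOf_eq, hs2]) ht htA
    (by rw [map_mul, map_mul, map_inv]; exact hg')
  have hat : a * t = t * a := by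
    have h1 : t * a * t = a⁻¹ := eq_inv_of_mul_eq_one_left (by rw [mul_assoc]; exact ha2)
    rw [hs.invA ha] at h1
    calc a * t = t * a * t * t := by rw [h1]
      _ = t * a := by rw [mul_assoc, Involution.mul_self_of_orderOf ht2, mul_one]
  obtain ⟨b, hb, hbe⟩ := hs.exists_comm_eq ht htA ha hat
  exact ((isConj_iff.mpr ⟨(g : G), rfl⟩ : IsConj s ((g : G) * s * (g : G)⁻¹)).trans
    hconj).trans (isConj_iff.mpr ⟨b, hbe⟩ : IsConj t (t * a)).symm

/-- Every coset `t A` outside `A` contains an involution once one does. -/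
theorem exists_invol_coset {s t : G} (hs' : s ∈ (R : Subgroup G)) (hsA : s ∉ A)
    (hs2 : orderOf s = 2) (ht : t ∈ (R : Subgroup G)) (htA : t ∉ A) :
    ∃ a ∈ A, orderOf (t * a) = 2 ∧ t * a ∉ A := by
  obtain ⟨g', hg'⟩ := a5_conj_invol (q ⟨s, hs.RN hs'⟩) (hs.q_sq hs')
    (fun e => hsA (hs.qR_one hs' e)) (q ⟨t, hs.RN ht⟩) (hs.q_sq ht)
    (fun e => htA (hs.qR_one ht e))
  obtain ⟨g, rfl⟩ := hs.surj g'
  obtain ⟨a, ha, ha2, haA, -⟩ := hs.coset_cong (m := g * ⟨s, hs.RN hs'⟩ * g⁻¹)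
    (by simp only [Subgroup.coe_mul, Subgroup.coe_inv]
        rw [← MulAut.conj_apply, MulEquiv.orderOf_eq, hs2]) ht htA
    (by rw [map_mul, map_mul, map_inv]; exact hg')
  exact ⟨a, ha, Involution.orderOf_eq_two_iff'.mpr ⟨ha2, fun e => haA (e ▸ one_mem A)⟩, haA⟩

/-- The stabilizer of `a` in `A₅`. -/
theorem mem_stab {a : G} (ha : a ∈ A) {n : ↥(normalizer (A : Set G))} :
    q n ∈ ((centralizer ({a} : Set G)).subgroupOf (normalizer (A : Set G))).map q ↔
      (n : G) * a * (n : G)⁻¹ = a := by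
  constructor
  · rintro ⟨m, hm, hmn⟩
    rw [← hs.act_eq hmn ha, mem_centralizer_singleton_iff.mp (mem_subgroupOf.mp hm),
      mul_inv_cancel_right]
  · intro h
    exact ⟨n, mem_subgroupOf.mpr (mem_centralizer_singleton_iff.mpr (mul_inv_eq_iff_eq_mul.mp h)),
      rfl⟩

/-- The orbit of `a` has the index of its stabilizer as size. -/
theorem card_orbit {a : G} (ha : a ∈ A) :
    Nat.card {i : G // ∃ n ∈ normalizer (A : Set G), n * a * n⁻¹ = i} =
      (((centralizer ({a} : Set G)).subgroupOf (normalizer (A : Set G))).map q).index := by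
  set C' := (centralizer ({a} : Set G)).subgroupOf (normalizer (A : Set G)) with hC'
  have hker : q.ker ≤ C' := by
    intro n hn
    exact mem_subgroupOf.mpr (mem_centralizer_singleton_iff.mpr
      (mem_centralizer_iff.mp ((hs.ker n).mp hn) a ha).symm)
  rw [index_map_eq C' hs.surj hker]
  have h1 := card_conj_mul (normalizer (A : Set G)) (le_normalizer ha)
  have h2 : Nat.card C' = Nat.card ↥((normalizer (A : Set G)) ⊓ centralizer ({a} : Set G)) := by
    rw [← card_map_of_injective (K := C') (normalizer (A : Set G)).subtype_injective, subgroupOf_map_subtype, inf_comm]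
  have h3 := C'.card_mul_index
  refine Nat.eq_of_mul_eq_mul_right (Nat.card_pos (α := C')) ?_
  rw [mul_comm C'.index, h3, h2]
  exact h1

end Sixteen

end Cfsg.Agent.StrClosed41
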