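import Cfsg.Agent.S0948
import Cfsg.Agent.S4479
import Cfsg.Agent.BC86.Modular
import Cfsg.Agent.Lib.CharCore.Linear
import Cfsg.Agent.Lib.BlocksCore.Omega
import Cfsg.Agent.Lib.Involution.KleinSylow
import Cfsg.Agent.Lib.Thompson.Cores
import Cfsg.Agent.Lib.Transfer.Residual

/-!
# Groups with a four-group Sylow 2-subgroup and the order of `A₄` modulo centralizers

If all involutions are conjugate, `|C(J)| = μ |C(V)|` and `|K| = 3 μ² |C(J)|`, then the principal
2-block has degrees `1, 1, 1, 3` and `V O(K)` is normal.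
-/

set_option autoImplicit false

namespace Cfsg.Agent.StrClosed41

open Subgroup

theorem normal_sylow_sup_pPrimeCore_of_klein {K : Type*} [Group K] [Finite K] (V : Sylow 2 K)
    (hV : IsKleinFour (V : Subgroup K))
    (hone : ∀ s t : K, orderOf s = 2 → orderOf t = 2 → IsConj s t)
    (J : K) (hJV : J ∈ (V : Subgroup K)) (hJ : orderOf J = 2) (μ : ℕ)
    (hCJ : Nat.card (centralizer ({J} : Set K)) =
      μ * Nat.card (centralizer ((V : Subgroup K) : Set K)))
    (hK : Nat.card K = 3 * μ ^ 2 * Nat.card (centralizer ({J} : Set K))) :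
    ((V : Subgroup K) ⊔ Cfsg.pPrimeCore 2 K).Normal := by
  classical
  haveI : Fact (Nat.Prime 2) := ⟨Nat.prime_two⟩
  have := Fintype.ofFinite K
  obtain ⟨M, hM⟩ := BC86.exists_isPModular (p := 2) Nat.prime_two
  obtain ⟨ζ₂, ζ₃, ζ₄, ε, hε, h2, h3, h23, h24, h34, hB, hval, hc2, hc3, hc4, hrel⟩ :=
    S0948.result M hM V hV hone
  -- the order is four times an odd number and there is no normal complement
  obtain ⟨g₀, hg₀⟩ : 4 ∣ Nat.card K := by
    have := Subgroup.card_subgroup_dvd_card (V : Subgroup K)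
    rwa [show Nat.card (V : Subgroup K) = 4 from hV.card_four] at this
  have hg₀odd : Odd g₀ := by
    have h1 := Subgroup.card_mul_index (V : Subgroup K)
    rw [show Nat.card (V : Subgroup K) = 4 from hV.card_four, hg₀] at h1
    rw [← Nat.not_even_iff_odd, even_iff_two_dvd, ← Nat.eq_of_mul_eq_mul_left (by norm_num) h1]
    exact Sylow.not_dvd_index V
  have hcard4 : Nat.card (V : Subgroup K) = 4 := hV.card_four
  have hnc : ¬ ∃ N : Subgroup K, N.Normal ∧ Nat.card N = g₀ := by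
    rintro ⟨N, hN, hNc⟩
    have hcomp : IsComplement' N (V : Subgroup K) := isComplement'_of_coprime
      (by rw [hNc, hcard4, hg₀, mul_comm])
      (by
        rw [hNc, hcard4]
        exact (Nat.coprime_two_right.mpr hg₀odd).pow_right 2)
    have hab : ∀ a ∈ (V : Subgroup K), ∀ b ∈ (V : Subgroup K), a * b = b * a := by
      intro a ha b hb
      have h := Involution.klein_sq hV (mul_mem ha hb)
      calc a * b = (a * b)⁻¹ := eq_inv_of_mul_eq_one_right h
        _ = b * a := by rw [mul_inv_rev, inv_eq_of_mul_eq_one_right (Involution.klein_sq hV hb),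
            inv_eq_of_mul_eq_one_right (Involution.klein_sq hV ha)]
    -- every nontrivial element of `V` equals `J`
    have hle : (V : Subgroup K) ≤ zpowers J := by
      intro a ha
      rcases eq_or_ne a 1 with rfl | ha1
      · exact one_mem _
      · rw [Involution.fusion_trivial_of_complement hN hcomp hab a ha J hJV
          (hone a J (orderOf_eq_prime (by rw [sq]; exact Involution.klein_sq hV ha) ha1) hJ)]
        exact mem_zpowers J
    have := Subgroup.card_le_of_le hle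
    rw [hcard4, Nat.card_zpowers, hJ] at this
    omega
  obtain ⟨hz2, hz3, hz4⟩ := hval J hJ
  have hdist4 : (ζ₄ : K → ℂ) ≠ fun _ => 1 := fun h => by
    have := congrFun h J
    rw [hz4] at this
    norm_num at this
  have hord := S4479.result M hM g₀ hg₀odd hg₀ hnc V J hJV hJ ζ₂ ζ₃ ζ₄ 1 ε (-1) hB
    ⟨h2, h3, hdist4, h23, h24, h34⟩ ⟨Or.inl rfl, hε, Or.inr rfl⟩
    ⟨by simpa using hz2, hz3, by simpa using hz4⟩
  set x2 := Cfsg.charDegree (ζ₂ : K → ℂ) with hx2
  set x3 := Cfsg.charDegree (ζ₃ : K → ℂ) with hx3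
  set x4 := Cfsg.charDegree (ζ₄ : K → ℂ) with hx4
  have hp2 : 0 < x2 := BlocksCore.charDegree_pos ζ₂
  have hp3 : 0 < x3 := BlocksCore.charDegree_pos ζ₃
  have hp4 : 0 < x4 := BlocksCore.charDegree_pos ζ₄
  have hdeg : (1 : ℤ) + x2 + ε * x3 - x4 = 0 := by
    have h := hrel 1 (by simp)
    rw [BlocksCore.irr_one_eq, BlocksCore.irr_one_eq, BlocksCore.irr_one_eq] at h
    exact_mod_cast h
  -- the order formula
  set cJ := Nat.card (centralizer ({J} : Set K)) with hcJ
  set cV := Nat.card (centralizer ((V : Subgroup K) : Set K)) with hcV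
  have hcV0 : (cV : ℚ) ≠ 0 := by exact_mod_cast Nat.card_pos.ne'
  have hcJ0 : (cJ : ℚ) ≠ 0 := by exact_mod_cast Nat.card_pos.ne'
  have hμ0 : (μ : ℚ) ≠ 0 := by
    intro h
    rw [Nat.cast_eq_zero.mp h, zero_mul] at hCJ
    exact Nat.card_pos.ne' hCJ
  set α : ℚ := ((x2 : ℚ) * x3 * x4) / (((x2 : ℚ) + (1 : ℤ)) * ((x3 : ℚ) + ε) * ((x4 : ℚ) + (-1 : ℤ)))
    with hα
  have hα38 : α = 3 / 8 := by
    rw [hK] at hord
    push_cast at hord
    have h1 : (cJ : ℚ) = μ * cV := by exact_mod_cast hCJ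
    have h2' : (cJ : ℚ) ^ 3 / (cV : ℚ) ^ 2 = μ ^ 2 * cJ := by
      rw [h1]
      field_simp
    rw [mul_div_assoc, h2'] at hord
    have h3' : (3 : ℚ) * ((μ : ℚ) ^ 2 * cJ) = (8 * α) * ((μ : ℚ) ^ 2 * cJ) := by
      rw [hα]; push_cast; linear_combination hord
    have := mul_right_cancel₀ (mul_ne_zero (pow_ne_zero 2 hμ0) hcJ0) h3'
    linarith
  have heqZ : 8 * ((x2 : ℤ) * x3 * x4) = 3 * (((x2 : ℤ) + 1) * ((x3 : ℤ) + ε) * ((x4 : ℤ) - 1)) := by
    have hden : (((x2 : ℚ) + (1 : ℤ)) * ((x3 : ℚ) + ε) * ((x4 : ℚ) + (-1 : ℤ))) ≠ 0 := by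
      intro h
      rw [hα, h, div_zero] at hα38
      norm_num at hα38
    rw [hα, div_eq_div_iff hden (by norm_num)] at hα38
    push_cast at hα38
    have h : (8 : ℚ) * ((x2 : ℚ) * x3 * x4) = 3 * (((x2 : ℚ) + 1) * ((x3 : ℚ) + ε) * ((x4 : ℚ) - 1)) := by
      linarith
    exact_mod_cast h
  -- the degrees are `1, 1, 3`
  obtain ⟨he, hd2, hd3, hd4⟩ : ε = 1 ∧ x2 = 1 ∧ x3 = 1 ∧ x4 = 3 := by
    have hp2' : (1 : ℤ) ≤ x2 := by omega
    have hp3' : (1 : ℤ) ≤ x3 := by omega
    have hp4' : (1 : ℤ) ≤ x4 := by omega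
    rcases hε with rfl | rfl
    · have e4 : (x4 : ℤ) = 1 + x2 + x3 := by linarith
      rw [e4] at heqZ
      rcases (show x2 = 1 ∨ 5 ≤ x2 by omega) with e2 | e2
      · refine ⟨rfl, e2, ?_, ?_⟩ <;>
          · rw [e2] at heqZ
            push_cast at heqZ
            have : ((x3 : ℤ) - 1) * ((x3 : ℤ) + 3) = 0 := by linarith
            rcases mul_eq_zero.mp this with h | h <;> omega
      · rcases (show x3 = 1 ∨ 5 ≤ x3 by omega) with e3 | e3
        · exfalso
          rw [e3] at heqZ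
          push_cast at heqZ
          have : ((x2 : ℤ) - 1) * ((x2 : ℤ) + 3) = 0 := by linarith
          rcases mul_eq_zero.mp this with h | h <;> omega
        · exfalso
          have e2' : (5 : ℤ) ≤ x2 := by exact_mod_cast e2
          have e3' : (5 : ℤ) ≤ x3 := by exact_mod_cast e3
          have hb : 25 * (((x2 : ℤ) + 1) * ((x3 : ℤ) + 1)) ≤ 36 * ((x2 : ℤ) * x3) := by nlinarith
          nlinarith [mul_le_mul_of_nonneg_right hb (by linarith : (0 : ℤ) ≤ (x2 : ℤ) + x3),
            mul_pos (mul_pos (by linarith : (0 : ℤ) < x2) (by linarith : (0 : ℤ) < x3))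
              (by linarith : (0 : ℤ) < (x2 : ℤ) + x3)]
    · exfalso
      have e3 : (3 : ℤ) ≤ x3 := by omega
      have hb : 3 * ((x2 : ℤ) + 1) ≤ 8 * x2 := by linarith
      have hc : ((x3 : ℤ) + -1) * ((x4 : ℤ) - 1) < (x3 : ℤ) * x4 := by nlinarith
      nlinarith [mul_le_mul_of_nonneg_right hb
          (by nlinarith : (0 : ℤ) ≤ ((x3 : ℤ) + -1) * ((x4 : ℤ) - 1)),
        mul_lt_mul_of_pos_left hc (by linarith : (0 : ℤ) < 8 * (x2 : ℤ))]
  subst he
  have hone2 : (ζ₂ : K → ℂ) 1 = 1 := by rw [BlocksCore.irr_one_eq, ← hx2, hd2, Nat.cast_one]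
  have hone3 : (ζ₃ : K → ℂ) 1 = 1 := by rw [BlocksCore.irr_one_eq, ← hx3, hd3, Nat.cast_one]
  obtain ⟨f2, hf2⟩ := CharCore.IsCharacter.exists_hom_of_degree_one
    (CharCore.irr_isCharacter ζ₂) hone2
  obtain ⟨f3, hf3⟩ := CharCore.IsCharacter.exists_hom_of_degree_one
    (CharCore.irr_isCharacter ζ₃) hone3
  set M0 : Subgroup K := f2.ker ⊓ f3.ker with hM0
  haveI : M0.Normal := inferInstance
  have hVM0 : (V : Subgroup K) ≤ M0 := by
    intro v hv
    rcases eq_or_ne v 1 with rfl | hv1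
    · exact one_mem _
    · obtain ⟨a, b, -⟩ := hval v (orderOf_eq_prime (by rw [sq]; exact Involution.klein_sq hV hv) hv1)
      rw [hf2] at a
      rw [hf3] at b
      refine Subgroup.mem_inf.mpr ⟨?_, ?_⟩ <;> rw [MonoidHom.mem_ker] <;> refine Units.ext ?_
      · simpa using a
      · simpa using b
  set L := CharCore.charKernel (CharCore.irr_isCharacter ζ₄) with hL
  set R : Subgroup K := L ⊓ M0 with hR
  haveI : R.Normal := inferInstance
  have hRO : R ≤ Cfsg.pPrimeCore 2 K := by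
    refine Thompson.le_pPrimeCore inferInstance (Nat.coprime_two_right.mpr ?_)
    rw [← Nat.not_even_iff_odd, even_iff_two_dvd]
    intro hd
    obtain ⟨t, ht⟩ := exists_prime_orderOf_dvd_card' 2 hd
    rw [← Subgroup.orderOf_coe] at ht
    have h1 : (ζ₄ : K → ℂ) t = (ζ₄ : K → ℂ) 1 := (Subgroup.mem_inf.mp t.2).1
    rw [(hval t ht).2.2, BlocksCore.irr_one_eq, ← hx4, hd4] at h1
    norm_num at h1
  -- every element of odd order of `M0` lies in `R`
  have hres : (Cfsg.pResidual 2 M0).map M0.subtype ≤ R := by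
    rw [Cfsg.pResidual, MonoidHom.map_closure, closure_le]
    rintro _ ⟨y, hy, rfl⟩
    refine Subgroup.mem_inf.mpr ⟨?_, y.2⟩
    have hodd : Odd (orderOf (y : K)) := by
      rw [Subgroup.orderOf_coe]
      exact Nat.coprime_two_right.mp hy
    have h := hrel y hodd
    obtain ⟨a, b⟩ := Subgroup.mem_inf.mp y.2
    rw [MonoidHom.mem_ker] at a b
    rw [congrFun hf2 y, congrFun hf3 y, a, b] at h
    show (ζ₄ : K → ℂ) y = (ζ₄ : K → ℂ) 1
    rw [BlocksCore.irr_one_eq, ← hx4, hd4]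
    push_cast
    simp at h
    linear_combination -h
  have hM0le : M0 ≤ (V : Subgroup K) ⊔ Cfsg.pPrimeCore 2 K := by
    have h := congrArg (Subgroup.map M0.subtype)
      (Transfer.sylow_sup_pResidual_eq_top (V.subtype hVM0))
    rw [Subgroup.map_sup, ← MonoidHom.range_eq_map, Subgroup.range_subtype, Sylow.coe_subtype,
      map_subgroupOf_eq_of_le hVM0] at h
    exact h ▸ sup_le_sup_left (hres.trans hRO) _
  have heq : (V : Subgroup K) ⊔ Cfsg.pPrimeCore 2 K = M0 ⊔ Cfsg.pPrimeCore 2 K :=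
    le_antisymm (sup_le_sup_right hVM0 _) (sup_le hM0le le_sup_right)
  rw [heq]
  infer_instance

end Cfsg.Agent.StrClosed41
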