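import Cfsg.Agent.StrClosed41.Count
import Cfsg.Agent.StrClosed41.Klein

/-!
# `A O(X)` is normal in the quotient of the centralizer of the central involution
-/

set_option autoImplicit false

namespace Cfsg.Agent.StrClosed41

open Subgroup

variable {G : Type*} [Group G] [Finite G] {A V : Subgroup G} {S : Sylow 2 G} {s c : G}

namespace Setting

variable (h : Setting A V S s c)

include h

theorem good_out {a : G} (ha : a ∈ A) (haV : a ∉ V) :
    Good A (centralizer ({a} : Set G)) := by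
  haveI : Fact (Nat.Prime 2) := ⟨Nat.prime_two⟩
  obtain ⟨c2, hc2, h21, h2c⟩ := h.exists_third
  set H := centralizer ({a} : Set G) with hH
  have hAH : A ≤ H := h.A_le_cent ha
  -- the multiplier
  have hnil1 : Cfsg.HasNormalPComplement 2 ↥(centralizer ({c, a} : Set G)) :=
    h.nil_sub h.cV h.c1 (centralizer_le (by simp))
  have hnil2 : Cfsg.HasNormalPComplement 2 ↥(centralizer ({c2, c, a} : Set G)) :=
    h.nil_sub h.cV h.c1 (centralizer_le (by simp))
  obtain ⟨μ, hμ⟩ : ocard ({c2, c, a} : Set G) ∣ ocard ({c, a} : Set G) := by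
    rw [← card_oddPart_centralizer hnil1 rfl, ← card_oddPart_centralizer hnil2 rfl]
    refine card_dvd_of_le fun g hg => ?_
    obtain ⟨h1, h2⟩ := (mem_oddPart hnil2).mp hg
    exact (mem_oddPart hnil1).mpr ⟨mem_centralizer_pair.mpr (mem_centralizer_triple.mp h1).2, h2⟩
  rw [mul_comm] at hμ
  have hcount := h.card_cent_out ha haV hc2 h21 h2c μ hμ
  -- the quotient by `a`
  set aH : H := ⟨a, hAH ha⟩ with haH
  set Z : Subgroup H := zpowers aH with hZ
  have hZc : Z ≤ center H := zpowers_le.mpr (mem_center_iff.mpr fun g => Subtype.ext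
    (mem_centralizer_singleton_iff.mp g.2))
  haveI : Z.Normal := ⟨fun z hz g => by
    rwa [mem_center_iff.mp (hZc hz) g, mul_inv_cancel_right]⟩
  have hao : orderOf aH = 2 := by rw [Subgroup.orderOf_mk]; exact h.ordA ha (h.ne_one haV)
  have hZcard : Nat.card Z = 2 := by rw [hZ, Nat.card_zpowers, hao]
  have hZmem : ∀ g : H, g ∈ Z → (g : G) = 1 ∨ (g : G) = a := by
    intro g hg
    obtain ⟨n, rfl⟩ := hg
    simp only
    rw [zpow_mod_orderOf aH n |>.symm, hao]
    rcases Int.emod_two_eq n with e | e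
    · left
      show ((aH ^ (n % ((2 : ℕ) : ℤ)) : H) : G) = 1
      rw [show n % ((2 : ℕ) : ℤ) = 0 by exact_mod_cast e, zpow_zero, Subgroup.coe_one]
    · right
      show ((aH ^ (n % ((2 : ℕ) : ℤ)) : H) : G) = a
      rw [show n % ((2 : ℕ) : ℤ) = 1 by exact_mod_cast e, zpow_one]
  set π := QuotientGroup.mk' Z with hπ
  have hπs : Function.Surjective π := QuotientGroup.mk'_surjective Z
  have hπeq : ∀ x y : H, π x = π y ↔ (x : G) = y ∨ (y : G) = x * a := by
    intro x y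
    rw [hπ, QuotientGroup.mk'_eq_mk']
    constructor
    · rintro ⟨z, hz, rfl⟩
      rcases hZmem z hz with e | e <;> simp [e]
    · rintro (e | e)
      · exact ⟨1, one_mem _, by rw [mul_one]; exact Subtype.ext e⟩
      · exact ⟨aH, mem_zpowers _, Subtype.ext e.symm⟩
  -- `A / ⟨a⟩` is a Sylow subgroup
  obtain ⟨P0, hP0⟩ := (h.two_A.comap_subtype : IsPGroup 2 (A.subgroupOf H)).exists_le_sylow
  have hP0A : (P0 : Subgroup H) = A.subgroupOf H := le_antisymm (fun x hx => mem_subgroupOf.mpr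
    (h.maxA ha haV (P0.isPGroup'.map H.subtype) (map_subtype_le _)
      (fun y hy => ⟨⟨y, hAH hy⟩, hP0 (mem_subgroupOf.mpr hy), rfl⟩) ⟨x, hx, rfl⟩)) hP0
  set Vb : Sylow 2 (H ⧸ Z) := P0.mapSurjective hπs with hVb
  have hVb' : (Vb : Subgroup (H ⧸ Z)) = (A.subgroupOf H).map π := by
    rw [hVb, Sylow.coe_mapSurjective, hP0A]
  have hmemVb : ∀ x : H ⧸ Z, x ∈ (Vb : Subgroup (H ⧸ Z)) ↔
      ∃ v : G, ∃ hv : v ∈ V, π ⟨v, hAH (h.VA hv)⟩ = x := by
    intro x
    rw [hVb']
    constructor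
    · rintro ⟨y, hy, rfl⟩
      by_cases hyV : (y : G) ∈ V
      · exact ⟨y, hyV, rfl⟩
      · exact ⟨(y : G) * a, h.mul_mem_V hy hyV ha haV,
          ((hπeq _ _).mpr (Or.inr rfl)).symm⟩
    · rintro ⟨v, hv, rfl⟩
      exact ⟨_, h.VA hv, rfl⟩
  have hinjV : ∀ (v w : G) (hv : v ∈ V) (hw : w ∈ V),
      π ⟨v, hAH (h.VA hv)⟩ = π ⟨w, hAH (h.VA hw)⟩ → v = w := by
    intro v w hv hw e
    rcases (hπeq _ _).mp e with e' | e'
    · exact e'
    · exact absurd (by simpa using mul_mem (inv_mem hv) (show v * a ∈ V from e' ▸ hw)) haV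
  have hVcard : Nat.card (Vb : Subgroup (H ⧸ Z)) = 4 := by
    rw [← h.card_V]
    refine (Nat.card_eq_of_bijective
      (fun v : V => (⟨π ⟨v.1, hAH (h.VA v.2)⟩, (hmemVb _).mpr ⟨v.1, v.2, rfl⟩⟩ :
        (Vb : Subgroup (H ⧸ Z)))) ⟨?_, ?_⟩).symm
    · intro v w e
      exact Subtype.ext (hinjV _ _ v.2 w.2 (congrArg Subtype.val e))
    · rintro ⟨x, hx⟩
      obtain ⟨v, hv, rfl⟩ := (hmemVb x).mp hx
      exact ⟨⟨v, hv⟩, rfl⟩
  have hklein : IsKleinFour (Vb : Subgroup (H ⧸ Z)) := by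
    haveI : Nontrivial (Vb : Subgroup (H ⧸ Z)) :=
      Finite.one_lt_card_iff_nontrivial.mp (by rw [hVcard]; norm_num)
    refine ⟨hVcard, (Monoid.exponent_eq_prime_iff Nat.prime_two).mpr fun g hg => ?_⟩
    refine orderOf_eq_prime (Subtype.ext ?_) hg
    obtain ⟨v, hv, e⟩ := (hmemVb _).mp g.2
    rw [Subgroup.coe_pow, ← e, ← map_pow, Subgroup.coe_one,
      show (⟨v, hAH (h.VA hv)⟩ : H) ^ 2 = 1 from Subtype.ext (h.elem.2 v (h.VA hv)), map_one]
  have hone : ∀ x y : H ⧸ Z, orderOf x = 2 → orderOf y = 2 → IsConj x y := by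
    intro x y hx hy
    obtain ⟨x', hx', hxc, hxo⟩ := Involution.exists_isConj_mem_sylow Vb hx
    obtain ⟨y', hy', hyc, hyo⟩ := Involution.exists_isConj_mem_sylow Vb hy
    obtain ⟨v, hv, rfl⟩ := (hmemVb _).mp hx'
    obtain ⟨w, hw, rfl⟩ := (hmemVb _).mp hy'
    have hv1 : v ≠ 1 := fun e => Involution.ne_one_of_orderOf hxo (by
      rw [show (⟨v, hAH (h.VA hv)⟩ : H) = 1 from Subtype.ext e, map_one])
    have hw1 : w ≠ 1 := fun e => Involution.ne_one_of_orderOf hyo (by
      rw [show (⟨w, hAH (h.VA hw)⟩ : H) = 1 from Subtype.ext e, map_one])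
    obtain ⟨g, hg, hge⟩ := h.fus a ha haV v hv hv1 w hw hw1
    refine hxc.trans (IsConj.trans ?_ hyc.symm)
    refine isConj_iff.mpr ⟨π ⟨g, hg⟩, ?_⟩
    rw [← map_inv, ← map_mul, ← map_mul]
    exact congrArg π (Subtype.ext hge)
  -- centralizers in the quotient
  set cH : H := ⟨c, hAH (h.VA h.cV)⟩ with hcH
  have hcomm : ∀ (g : H) (v : G) (hv : v ∈ V), v ≠ 1 →
      (π g * π ⟨v, hAH (h.VA hv)⟩ = π ⟨v, hAH (h.VA hv)⟩ * π g ↔ (g : G) * v = v * g) := by
    intro g v hv hv1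
    rw [← map_mul, ← map_mul, hπeq]
    refine ⟨fun e => ?_, fun e => Or.inl e⟩
    rcases e with e | e
    · exact e
    · exfalso
      refine h.vnc v hv hv1 (v * a) (mul_mem (h.VA hv) ha)
        (fun e' => haV (by simpa using mul_mem (inv_mem hv) e')) (isConj_iff.mpr ⟨(g : G), ?_⟩)
      simp only [Subgroup.coe_mul] at e
      have hga : (g : G) * a = a * g := mem_centralizer_singleton_iff.mp g.2
      calc (g : G) * v * (g : G)⁻¹ = (g : G) * v * a * (a⁻¹ * (g : G)⁻¹) := by group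
        _ = v * g * ((g : G) * a)⁻¹ := by rw [← e, mul_inv_rev]
        _ = v * g * (a * g)⁻¹ := by rw [hga]
        _ = v * a := by rw [mul_inv_rev, h.invA ha]; group
  set J := π cH with hJ
  have hJmem : J ∈ (Vb : Subgroup (H ⧸ Z)) := (hmemVb _).mpr ⟨c, h.cV, rfl⟩
  have hJo : orderOf J = 2 := by
    refine orderOf_eq_prime ?_ fun e => h.c1 (hinjV c 1 h.cV (one_mem V) ?_)
    · rw [hJ, ← map_pow, show cH ^ 2 = 1 from Subtype.ext (h.elem.2 c (h.VA h.cV)), map_one]
    · rw [← hcH, ← hJ, e, show (⟨1, hAH (h.VA (one_mem V))⟩ : H) = 1 from rfl, map_one]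
  have hcardJ : Nat.card (centralizer ({J} : Set (H ⧸ Z))) * 2 =
      Nat.card (centralizer ({c, a} : Set G)) := by
    rw [← hZcard, ← Thompson.card_comap_quotient, ← card_map_of_injective H.subtype_injective]
    congr 2
    ext g
    constructor
    · rintro ⟨y, hy, rfl⟩
      rw [mem_centralizer_pair]
      refine ⟨(hcomm y c h.cV h.c1).mp (mem_centralizer_singleton_iff.mp hy),
        mem_centralizer_singleton_iff.mp y.2⟩
    · intro hg
      obtain ⟨h1, h2⟩ := mem_centralizer_pair.mp hg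
      exact ⟨⟨g, mem_centralizer_singleton_iff.mpr h2⟩,
        mem_centralizer_singleton_iff.mpr ((hcomm _ c h.cV h.c1).mpr h1), rfl⟩
  have hcardV : Nat.card (centralizer ((Vb : Subgroup (H ⧸ Z)) : Set (H ⧸ Z))) * 2 =
      Nat.card (centralizer ({c2, c, a} : Set G)) := by
    have h2 := Thompson.card_comap_quotient Z (centralizer ((Vb : Subgroup (H ⧸ Z)) : Set (H ⧸ Z)))
    rw [hZcard] at h2
    rw [← h2, ← card_map_of_injective H.subtype_injective]
    congr 2
    ext g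
    constructor
    · rintro ⟨y, hy, rfl⟩
      rw [mem_centralizer_triple]
      have key : ∀ v (hv : v ∈ V), v ≠ 1 → (y : G) * v = v * y := fun v hv hv1 =>
        (hcomm y v hv hv1).mp (mem_centralizer_iff.mp hy _ ((hmemVb _).mpr ⟨v, hv, rfl⟩)).symm
      exact ⟨key c2 hc2 h21, key c h.cV h.c1, mem_centralizer_singleton_iff.mp y.2⟩
    · intro hg
      obtain ⟨h1, h2, h3⟩ := mem_centralizer_triple.mp hg
      refine ⟨⟨g, mem_centralizer_singleton_iff.mpr h3⟩, mem_centralizer_iff.mpr fun x hx => ?_, rfl⟩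
      obtain ⟨v, hv, rfl⟩ := (hmemVb x).mp hx
      rw [← map_mul, ← map_mul]
      refine congrArg π (Subtype.ext ?_)
      show v * g = g * v
      rcases h.V_eq hc2 h21 h2c hv with rfl | rfl | rfl | rfl
      · simp
      · exact h2.symm
      · exact h1.symm
      · rw [← mul_assoc, h2, mul_assoc, ← h1, ← mul_assoc]
  rw [h.card_cent_ca ha haV, hμ] at hcardJ
  rw [h.card_cent_c2ca ha haV hc2] at hcardV
  have hcardK : Nat.card (H ⧸ Z) * 2 = 3 * μ ^ 2 * (8 * (μ * ocard ({c2, c, a} : Set G))) := by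
    rw [← hμ, ← h.card_cent_ca ha haV, ← hcount, ← hZcard]
    exact (card_eq_card_quotient_mul_card_subgroup Z).symm
  have hCJ : Nat.card (centralizer ({J} : Set (H ⧸ Z))) =
      μ * Nat.card (centralizer ((Vb : Subgroup (H ⧸ Z)) : Set (H ⧸ Z))) := by
    refine Nat.eq_of_mul_eq_mul_right two_pos ?_
    rw [mul_assoc, hcardV, hcardJ]
    ring
  have hK : Nat.card (H ⧸ Z) =
      3 * μ ^ 2 * Nat.card (centralizer ({J} : Set (H ⧸ Z))) := by
    refine Nat.eq_of_mul_eq_mul_right two_pos ?_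
    rw [mul_assoc, hcardJ, hcardK]
  have hn := normal_sylow_sup_pPrimeCore_of_klein Vb hklein hone J hJmem hJo μ hCJ hK
  rw [hVb'] at hn
  exact Good.of_normal h.closed hAH (normal_sup_of_quotient Z hZc
    (IsPGroup.of_card (n := 1) (by rw [hZcard]; rfl)) (A.subgroupOf H)
    (zpowers_le.mpr (mem_subgroupOf.mpr ha)) hn)

theorem good_V {v : G} (hv : v ∈ V) (hv1 : v ≠ 1) : Good A (centralizer ({v} : Set G)) :=
  Good.of_complement h.closed (h.nil v hv hv1) S.isPGroup' (h.S_le_cent hv) h.AS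
    (fun _ hR _ hSR => h.maxS hR hSR)

theorem normal_sup : (A ⊔ Cfsg.pPrimeCore 2 G).Normal := by
  refine normal_sup_pPrimeCore_of_good h.closed h.elem (le_of_eq h.card_A.symm)
    (fun x hx hx2 => h.centralizer_two hx hx2) ?_ ?_
  · intro b hb hb1
    by_cases hbV : b ∈ V
    · obtain ⟨a, ha, haV⟩ := h.exists_out
      exact ⟨a, ha, h.ne_one haV, fun e => h.vnc b hbV hb1 a ha haV e.symm⟩
    · exact ⟨c, h.VA h.cV, h.c1, h.vnc c h.cV h.c1 b hb hbV⟩
  · intro a ha ha1
    by_cases haV : a ∈ V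
    · exact h.good_V haV ha1
    · exact h.good_out ha haV

end Setting

end Cfsg.Agent.StrClosed41
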