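import Cfsg.Agent.StrClosed41.Shape16
import Cfsg.Agent.StrClosed41.Final

/-!
# The centralizer of `z` modulo `z` satisfies the counting hypotheses
-/

set_option autoImplicit false

namespace Cfsg.Agent.StrClosed41

open Subgroup

local notation "A5" => (alternatingGroup (Fin 5))

variable {G : Type*} [Group G] [Finite G] {A : Subgroup G}
  {q : ↥(normalizer (A : Set G)) →* A5} {R : Sylow 2 G} {z b : G}

namespace Pointed

variable (hp : Pointed A q R z)

include hp

theorem not_orb_mul_z (hb : b ∈ A) (hbV : b ∉ hp.V0) {a : G} (ha : a ∈ A) (haV : a ∉ hp.V0) :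
    z * a ∉ orbN A a := by
  intro h
  have hza : ∀ d : G, d ∉ hp.V0 → d ≠ z := fun d hd e => hd (e ▸ hp.moved_z)
  rcases hp.outside_short hb hbV ha haV with h1 | h1
  · exact hp.z_mul_short h1 (hza a haV) (orbN_trans h1 h)
  · have h2 : a ∈ orbN A z := orbN_trans h1 (orbN_symm h)
    exact hp.z_mul_short h2 (hza a haV) h1

theorem mem_V0_mul_z {v : G} (hv : z * v ∈ hp.V0) : v ∈ hp.V0 := by
  have := mul_mem (hp.moved_z : z ∈ hp.V0) hv
  rwa [← mul_assoc, hp.sixteen.sqA hp.zA, one_mul] at this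

theorem z_mul_notMem {v : G} (hv : v ∉ hp.V0) : z * v ∉ hp.V0 := fun h => hv (hp.mem_V0_mul_z h)

/-- The commutator `a (s a s)` for `a` outside `V₀`. -/
theorem comm_props (hb : b ∈ A) (hbV : b ∉ hp.V0) {s : G} (hs' : s ∈ (R : Subgroup G))
    (hsA : s ∉ A) (hs2 : s * s = 1) {a : G} (ha : a ∈ A) (haV : a ∉ hp.V0) :
    a * (s * a * s) ∈ A ⊓ centralizer ({s} : Set G) ∧ a * (s * a * s) ≠ 1 ∧
      a * (s * a * s) ≠ z := by
  have hs := hp.sixteen
  have hsas : s * a * s ∈ A := by
    have := hs.conjA ⟨s, hs.RN hs'⟩ ha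
    rwa [inv_eq_of_mul_eq_one_right hs2] at this
  refine ⟨Subgroup.mem_inf.mpr ⟨mul_mem ha hsas, mem_centralizer_singleton_iff.mpr ?_⟩, ?_, ?_⟩
  · calc a * (s * a * s) * s = a * (s * a) * (s * s) := by group
      _ = (s * s) * (a * (s * a)) := by rw [hs2, one_mul, mul_one]
      _ = s * ((s * a * s) * a) * (s * s)⁻¹ * (s * s) := by group
      _ = s * (a * (s * a * s)) := by rw [hs.commA hsas ha, hs2]; group
  · intro e
    have h1 : s * a * s = a := by
      rw [← inv_eq_of_mul_eq_one_right e, hs.invA ha]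
    refine hsA (hp.outside_fix ha haV hs' ?_)
    calc s * a = s * a * s * s := by rw [mul_assoc (s * a), hs2, mul_one]
      _ = a * s := by rw [h1]
  · intro e
    refine hp.not_orb_mul_z hb hbV ha haV ⟨s, hs.RN hs', ?_⟩
    rw [inv_eq_of_mul_eq_one_right hs2]
    calc s * a * s = a * (a * (s * a * s)) := by rw [← mul_assoc a a, hs.sqA ha, one_mul]
      _ = z * a := by rw [e, hs.commA ha hp.zA]

/-- The centralizer of `z` and of `v ∈ V₀` is 2-nilpotent. -/
theorem nil_zv (hclosed : Cfsg.IsStronglyClosed A (R : Subgroup G)) {s : G}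
    (hs' : s ∈ (R : Subgroup G)) (hsA : s ∉ A) (hs2 : orderOf s = 2) {v : G} (hv : v ∈ hp.V0)
    (hv1 : v ≠ 1) (hvz : v ≠ z) :
    Cfsg.HasNormalPComplement 2 ↥(centralizer ({z} : Set G) ⊓ centralizer ({v} : Set G)) := by
  haveI : Fact (Nat.Prime 2) := ⟨Nat.prime_two⟩
  have hs := hp.sixteen
  set C := centralizer ({z} : Set G) ⊓ centralizer ({v} : Set G) with hC
  set R0 := (R : Subgroup G) ⊓ centralizer ({v} : Set G) with hR0
  have hAR0 : A ≤ R0 := le_inf hs.AR fun a ha =>
    mem_centralizer_singleton_iff.mpr (hs.commA ha hv.1)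
  have hR0C : R0 ≤ C := fun t ht => Subgroup.mem_inf.mpr
    ⟨mem_centralizer_singleton_iff.mpr (hp.zfix t (Subgroup.mem_inf.mp ht).1),
      (Subgroup.mem_inf.mp ht).2⟩
  -- the orbit of `v` under `R` is `{v, z v}`
  have hset : ∀ i : G, (∃ y ∈ (R : Subgroup G), y * v * y⁻¹ = i) ↔ i ∈ ({v, z * v} : Set G) := by
    intro i
    constructor
    · rintro ⟨y, hy, rfl⟩
      rcases hv.2 y hy with e | e
      · exact Or.inl e
      · exact Or.inr e
    · rintro (rfl | rfl)
      · exact ⟨1, one_mem _, by group⟩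
      · by_contra h
        push Not at h
        rcases hp.fixed_eq hv.1 (fun t ht => (hv.2 t ht).resolve_right (h t ht)) with e | e
        · exact hv1 e
        · exact hvz e
  have hcard : Nat.card R0 = 2 * Nat.card A := by
    have h1 := card_conj_mul (R : Subgroup G) (hs.AR hv.1)
    rw [Nat.card_congr (Equiv.subtypeEquivRight hset), Nat.card_coe_set_eq,
      Set.ncard_pair (fun e => hp.z1 (mul_eq_right.mp e.symm)), hs.card_R, ← hR0] at h1
    rw [hs.card_A]
    omega
  have hmax : ∀ T : Subgroup G, IsPGroup 2 T → T ≤ C → R0 ≤ T → T ≤ R0 := by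
    intro T hT hTC hRT t ht
    have htN : t ∈ normalizer (A : Set G) := le_normalizer_of_two hclosed hT (hAR0.trans hRT) ht
    set tn : ↥(normalizer (A : Set G)) := ⟨t, htN⟩ with htn
    obtain ⟨htz, htv⟩ := Subgroup.mem_inf.mp (hTC ht)
    rw [mem_centralizer_singleton_iff] at htz htv
    have hst : q tn ∈ stabOf q z := (hs.mem_stab hp.zA).mpr (mul_inv_eq_iff_eq_mul.mpr htz)
    have hsq : q tn * q tn = 1 := by
      refine a5_sq_of_four _ ?_
      obtain ⟨k, hk⟩ := hT ⟨t, ht⟩
      have h1 : orderOf (q tn) ∣ 2 ^ k := by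
        refine orderOf_dvd_of_pow_eq_one ?_
        rw [← map_pow, show tn ^ 2 ^ k = 1 from Subtype.ext (congrArg Subtype.val hk :), map_one]
      have h2 : orderOf (q tn) ∣ 4 * 3 := by
        rw [show (4 : ℕ) * 3 = Nat.card (stabOf q z) from hp.stab12.symm]
        exact (stabOf q z).orderOf_dvd_natCard hst
      have h3 : (orderOf (q tn)).Coprime 3 :=
        Nat.Coprime.coprime_dvd_left h1 ((show Nat.Coprime 2 3 by norm_num).pow_left k)
      have h4 := orderOf_dvd_iff_pow_eq_one.mp (h3.dvd_of_dvd_mul_right h2)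
      rwa [show (4 : ℕ) = 2 + 2 from rfl, pow_add, sq] at h4
    obtain ⟨u, hu, hue⟩ := hs.mem_range.mp (hp.invol_stab hst hsq)
    have huR0 : u ∈ R0 := Subgroup.mem_inf.mpr ⟨hu, mem_centralizer_singleton_iff.mpr
      (mul_inv_eq_iff_eq_mul.mp (by
        rw [hs.act_eq (m := (⟨u, hs.RN hu⟩ : ↥(normalizer (A : Set G)))) (n := tn) hue hv.1]
        exact mul_inv_eq_iff_eq_mul.mpr htv))⟩
    have hm : u⁻¹ * t ∈ T := mul_mem (inv_mem (hRT huR0)) ht
    have hA' : ((⟨u, hs.RN hu⟩⁻¹ * tn : ↥(normalizer (A : Set G))) : G) ∈ A := hs.mem_A_of_q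
      (by rw [map_mul, map_inv, hue, inv_mul_cancel]) (hT.to_le (zpowers_le.mpr hm))
    have := mul_mem huR0 (hAR0 hA')
    simpa [htn] using this
  obtain ⟨t, ht, htA, htv⟩ := hp.exists_two_fixed hv
  obtain ⟨a, ha, hta2, htaA⟩ := hs.exists_invol_coset hs' hsA hs2 ht htA
  refine hasNormalPComplement_of_two hclosed hs.elem (R.isPGroup'.to_le inf_le_left) hR0C hAR0 hmax
    hcard (u := t * a) (Subgroup.mem_inf.mpr ⟨mul_mem ht (hs.AR ha),
      mul_mem (mem_centralizer_singleton_iff.mpr htv)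
        (mem_centralizer_singleton_iff.mpr (hs.commA ha hv.1))⟩)
    htaA (Involution.mul_self_of_orderOf hta2) ?_
  intro g hg hgN ho
  obtain ⟨hgz, hgv⟩ := Subgroup.mem_inf.mp hg
  exact hp.odd_fix_central (n := ⟨g, hgN⟩) (mem_centralizer_singleton_iff.mp hgz) hv hv1 hvz
    (mem_centralizer_singleton_iff.mp hgv) ho

/-- Good centralizer of `z`. -/
theorem good_z {x : G} (hb : b ∈ A) (hb1 : b ≠ 1) (hbz : b ∉ orbN A z) (hbV : b ∉ hp.V0)
    (hx : x ∈ normalizer (A : Set G)) (hx3 : q ⟨x, hx⟩ ^ 3 = 1) (hx1 : q ⟨x, hx⟩ ≠ 1)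
    (hxz : x * z = z * x) (hxb : x * b = b * x) : Good A (centralizer ({z} : Set G)) := by
  haveI : Fact (Nat.Prime 2) := ⟨Nat.prime_two⟩
  have hs := hp.sixteen
  obtain ⟨hzb, ⟨s, hsR, hsA, hs2⟩, hclosed⟩ := hp.classes3 hb hb1 hbz
  have hss := Involution.mul_self_of_orderOf hs2
  set C := centralizer ({z} : Set G) with hC
  have hAC : A ≤ C := fun a ha => mem_centralizer_singleton_iff.mpr (hs.commA ha hp.zA)
  have hRC : (R : Subgroup G) ≤ C := fun t ht =>
    mem_centralizer_singleton_iff.mpr (hp.zfix t ht)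
  set Z : Subgroup C := zpowers (⟨z, hAC hp.zA⟩ : C) with hZ
  have hZc : Z ≤ center C := zpowers_le.mpr (mem_center_iff.mpr fun g => Subtype.ext
    (mem_centralizer_singleton_iff.mp g.2))
  haveI : Z.Normal := ⟨fun w hw g => by
    rwa [mem_center_iff.mp (hZc hw) g, mul_inv_cancel_right]⟩
  have hzo : orderOf (⟨z, hAC hp.zA⟩ : C) = 2 := by
    rw [Subgroup.orderOf_mk]; exact hs.ordA hp.zA hp.z1
  have hZcard : Nat.card Z = 2 := by rw [hZ, Nat.card_zpowers, hzo]
  have hZmem : ∀ g : C, g ∈ Z → (g : G) = 1 ∨ (g : G) = z := by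
    intro g hg
    obtain ⟨n, rfl⟩ := hg
    rcases Int.even_or_odd n with ⟨m, rfl⟩ | ⟨m, rfl⟩
    · left
      simp only [SubgroupClass.coe_zpow]
      rw [← two_mul, zpow_mul, zpow_two, hs.sqA hp.zA, one_zpow]
    · right
      simp only [SubgroupClass.coe_zpow]
      rw [zpow_add, zpow_mul, zpow_two, hs.sqA hp.zA, one_zpow, one_mul, zpow_one]
  set π := QuotientGroup.mk' Z with hπ
  have hπs : Function.Surjective π := QuotientGroup.mk'_surjective Z
  have hzc : ∀ g : C, z * (g : G) = (g : G) * z := fun g =>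
    (mem_centralizer_singleton_iff.mp g.2).symm
  have hπeq : ∀ u v : C, π u = π v ↔ (v : G) = u ∨ (v : G) = z * u := by
    intro u v
    rw [hπ, QuotientGroup.mk'_eq_mk']
    constructor
    · rintro ⟨w, hw, rfl⟩
      rcases hZmem w hw with e | e
      · left; simp [e]
      · right; simp [e, hzc u]
    · rintro (e | e)
      · exact ⟨1, one_mem _, by rw [mul_one]; exact Subtype.ext e.symm⟩
      · exact ⟨⟨z, hAC hp.zA⟩, mem_zpowers _, Subtype.ext (by
          rw [Subgroup.coe_mul, ← hzc u]; exact e.symm)⟩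
  set AX := (A.subgroupOf C).map π with hAX
  set VX := (hp.V0.subgroupOf C).map π with hVX
  set SX : Sylow 2 (C ⧸ Z) := (R.subtype hRC).mapSurjective hπs with hSX
  have hSX' : (SX : Subgroup (C ⧸ Z)) = ((R : Subgroup G).subgroupOf C).map π := by
    rw [hSX, Sylow.coe_mapSurjective, Sylow.coe_subtype]
  have hmemA : ∀ g : C, π g ∈ AX ↔ (g : G) ∈ A := by
    intro g
    refine ⟨?_, fun h => ⟨g, h, rfl⟩⟩
    rintro ⟨a, ha, e⟩
    rcases (hπeq a g).mp e with e' | e' <;> rw [e']
    · exact ha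
    · exact mul_mem hp.zA ha
  have hmemV : ∀ g : C, π g ∈ VX ↔ (g : G) ∈ hp.V0 := by
    intro g
    refine ⟨?_, fun h => ⟨g, h, rfl⟩⟩
    rintro ⟨a, ha, e⟩
    rcases (hπeq a g).mp e with e' | e' <;> rw [e']
    · exact ha
    · exact mul_mem (show z ∈ hp.V0 from hp.moved_z) ha
  have hmemS : ∀ g : C, π g ∈ (SX : Subgroup (C ⧸ Z)) ↔ (g : G) ∈ (R : Subgroup G) := by
    intro g
    rw [hSX']
    refine ⟨?_, fun h => ⟨g, h, rfl⟩⟩
    rintro ⟨a, ha, e⟩
    rcases (hπeq a g).mp e with e' | e' <;> rw [e']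
    · exact ha
    · exact mul_mem (hs.AR hp.zA) ha
  have hV0C : hp.V0 ≤ C := hp.V0_le.trans hAC
  have hcards : ∀ K : Subgroup G, K ≤ C → z ∈ K →
      Nat.card ((K.subgroupOf C).map π) * 2 = Nat.card K := by
    intro K hKC hzK
    rw [← hZcard, ← Thompson.card_comap_quotient, comap_map_eq, QuotientGroup.ker_mk',
      sup_eq_left.mpr (zpowers_le.mpr (mem_subgroupOf.mpr hzK)),
      Nat.card_congr (subgroupOfEquivOfLe hKC).toEquiv]
  set sC : C := ⟨s, hRC hsR⟩ with hsC
  have hbC : b ∈ C := hAC hb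
  obtain ⟨hc0, hc01, hc0z⟩ := hp.comm_props hb hbV hsR hsA hss hb hbV
  set c0 := b * (s * b * s) with hc0d
  obtain ⟨hc0A, hc0s⟩ := Subgroup.mem_inf.mp hc0
  have hc0V : c0 ∈ hp.V0 :=
    hp.fix_mem_V0 hsR hsA hc0A (mem_centralizer_singleton_iff.mp hc0s).symm
  have hC4 : Nat.card ↥(A ⊓ centralizer ({s} : Set G)) = 4 := hs.card_fix_t hsR hsA
  have hfour : ∀ {d : G}, d ∈ A ⊓ centralizer ({s} : Set G) →
      d = 1 ∨ d = z ∨ d = c0 ∨ d = z * c0 := fun hd => four_elems hC4
    (Subgroup.mem_inf.mpr ⟨hp.zA, mem_centralizer_singleton_iff.mpr (hp.zfix s hsR).symm⟩) hc0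
    hp.z1 hc01 hc0z.symm (hs.sqA hp.zA) hd
  set cC : C := ⟨c0, hV0C hc0V⟩ with hcC
  have hne1 : ∀ {g : C}, π g ≠ 1 → (g : G) ≠ 1 ∧ (g : G) ≠ z := by
    intro g hg
    constructor <;> intro e <;> refine hg ((QuotientGroup.eq_one_iff g).mpr ?_)
    · rw [show g = 1 from Subtype.ext e]; exact one_mem _
    · rw [show g = ⟨z, hAC hp.zA⟩ from Subtype.ext e]; exact mem_zpowers _
  have hlong : ∀ v ∈ hp.V0, v ≠ 1 → v ≠ z → IsConj b v := fun v hv hv1 hvz => by
    rcases hp.two_orbits hb hb1 hbz hv.1 hv1 with h | h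
    · exact absurd (hp.not_short_V0 h hv) hvz
    · exact isConj_of_orbN h
  have hzV : z ∈ hp.V0 := hp.moved_z
  have hx' : x ∈ C := mem_centralizer_singleton_iff.mpr hxz
  have hcyc : ∀ v ∈ hp.V0, v ≠ 1 → v ≠ z → x * v * x⁻¹ ≠ v ∧ x * v * x⁻¹ ≠ z * v := by
    intro v hv hv1 hvz
    refine ⟨fun e => ?_, fun e => ?_⟩
    · rcases hp.three_free (n := ⟨x, hx⟩) hxz hx3 hx1 hv (mul_inv_eq_iff_eq_mul.mp e) with h | h
      · exact hv1 h
      · exact hvz h
    · have h1 := hs.act_eq (m := (⟨x, hx⟩ : ↥(normalizer (A : Set G))) ^ 3) (n := 1)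
        (by rw [map_pow, hx3, map_one]) hv.1
      simp only [SubgroupClass.coe_pow, Subgroup.coe_one, one_mul, inv_one, mul_one] at h1
      have hxzc : x * z * x⁻¹ = z := by rw [hxz, mul_inv_cancel_right]
      have h2 : x ^ 3 * v * (x ^ 3)⁻¹ = z * v := by
        calc x ^ 3 * v * (x ^ 3)⁻¹ = x * (x * (x * v * x⁻¹) * x⁻¹) * x⁻¹ := by
              rw [pow_succ x 2, sq]; group
          _ = x * (x * (z * v) * x⁻¹) * x⁻¹ := by rw [e]
          _ = x * (x * z * x⁻¹ * (x * v * x⁻¹)) * x⁻¹ := by group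
          _ = x * (z * (z * v)) * x⁻¹ := by rw [hxzc, e]
          _ = z * v := by rw [← mul_assoc z, hs.sqA hp.zA, one_mul, e]
      rw [h2] at h1
      exact hp.z1 (mul_eq_right.mp h1)
  have hset : Setting AX VX SX (π sC) (π cC) := by
    refine
      { closed := ?_, elem := ?_, card_S := ?_, card_A := ?_, VA := ?_, card_V := ?_,
        vcentral := ?_, vnc := ?_, centS := ?_, orb := ?_, fus := ?_, nil := ?_, sS := ?_,
        sA := ?_, s2 := ?_, comm := ?_, cV := ?_, c1 := ?_, snc := ?_ }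
    · refine ⟨hSX' ▸ Subgroup.map_mono (fun g hg => hs.AR hg), ?_⟩
      rintro _ ⟨a, ha, rfl⟩ g hg
      obtain ⟨g, rfl⟩ := hπs g
      rw [← map_inv, ← map_mul, ← map_mul] at hg ⊢
      exact (hmemA _).mpr (hclosed.2 _ ha (g : G) ((hmemS _).mp hg))
    · refine ⟨⟨⟨?_⟩⟩, ?_⟩
      · rintro ⟨_, u, hu, rfl⟩ ⟨_, v, hv, rfl⟩
        refine Subtype.ext ?_
        show π u * π v = π v * π u
        rw [← map_mul, ← map_mul]
        exact congrArg π (Subtype.ext (hs.commA hu hv))
      · rintro _ ⟨u, hu, rfl⟩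
        rw [← map_pow, show u ^ 2 = 1 from Subtype.ext (hs.elem.2 _ hu), map_one]
    · have := hcards (R : Subgroup G) hRC (hs.AR hp.zA)
      rw [hs.card_R, ← hSX'] at this
      omega
    · have := hcards A hAC hp.zA
      rw [hs.card_A, ← hAX] at this
      omega
    · exact Subgroup.map_mono fun g hg => hp.V0_le hg
    · have := hcards hp.V0 hV0C hzV
      rw [hp.card_V0 hb hbV, ← hVX] at this
      omega
    · intro t ht v hv
      obtain ⟨t, rfl⟩ := hπs t
      obtain ⟨v, rfl⟩ := hπs v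
      have hv' := (hmemV v).mp hv
      rw [← map_mul, ← map_mul, hπeq]
      simp only [Subgroup.coe_mul]
      rcases hv'.2 t ((hmemS t).mp ht) with e | e
      · left; exact (mul_inv_eq_iff_eq_mul.mp e).symm
      · right
        rw [mul_inv_eq_iff_eq_mul.mp e, ← mul_assoc, ← mul_assoc, hs.sqA hp.zA, one_mul]
    · intro v hv hv1 a ha haV hconj
      obtain ⟨v, rfl⟩ := hπs v
      obtain ⟨a, rfl⟩ := hπs a
      have hv' := (hmemV v).mp hv
      have ha' := (hmemA a).mp ha
      have haV' : (a : G) ∉ hp.V0 := fun h => haV ((hmemV a).mpr h)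
      obtain ⟨hvn1, hvnz⟩ := hne1 hv1
      have hzv1 : z * (v : G) ≠ 1 := fun e => hvnz (by
        rw [← inv_eq_of_mul_eq_one_right e, hs.invA hp.zA])
      have hzvz : z * (v : G) ≠ z := fun e => hvn1 (mul_eq_left.mp e)
      obtain ⟨g, hg⟩ := isConj_iff.mp hconj
      obtain ⟨g, rfl⟩ := hπs g
      rw [← map_inv, ← map_mul, ← map_mul, hπeq] at hg
      simp only [Subgroup.coe_mul, Subgroup.coe_inv] at hg
      have k1 : IsConj b (v : G) := hlong _ hv' hvn1 hvnz
      have k2 : IsConj b (z * (v : G)) := hlong _ (mul_mem hzV hv') hzv1 hzvz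
      have hzg : (g : G) * (z * (v : G)) * (g : G)⁻¹ = z * ((g : G) * v * (g : G)⁻¹) := by
        rw [← mul_assoc, ← hzc g]; group
      -- both `v` and `z v` are long, one of `a`, `z a` is short
      have key : ∀ w : G, w ∈ orbN A z → ¬ IsConj b w := fun w hw e =>
        hzb ((isConj_of_orbN hw).trans e.symm)
      have haa : IsConj b (a : G) ∧ IsConj b (z * (a : G)) := by
        rcases hg with e | e
        · exact ⟨k1.trans (isConj_iff.mpr ⟨(g : G), e.symm⟩), k2.trans (isConj_iff.mpr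
            ⟨(g : G), by rw [hzg, ← e]⟩)⟩
        · refine ⟨k2.trans (isConj_iff.mpr ⟨(g : G), by rw [hzg, ← e]⟩),
            k1.trans (isConj_iff.mpr ⟨(g : G), ?_⟩)⟩
          rw [e, ← mul_assoc, hs.sqA hp.zA, one_mul]
      rcases hp.outside_short hb hbV ha' haV' with h | h
      · exact key _ h haa.1
      · exact key _ h haa.2
    · intro a ha haV t ht hta
      obtain ⟨a, rfl⟩ := hπs a
      obtain ⟨t, rfl⟩ := hπs t
      have ha' := (hmemA a).mp ha
      have haV' : (a : G) ∉ hp.V0 := fun h => haV ((hmemV a).mpr h)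
      have ht' := (hmemS t).mp ht
      refine (hmemA t).mpr (hp.outside_fix ha' haV' ht' ?_)
      rw [← map_mul, ← map_mul, hπeq] at hta
      simp only [Subgroup.coe_mul] at hta
      rcases hta with e | e
      · exact e.symm
      · exfalso
        refine hp.not_orb_mul_z hb hbV ha' haV' ⟨(t : G), hs.RN ht', ?_⟩
        have hta' : (t : G) * a = z * ((a : G) * t) := by
          rw [e, ← mul_assoc, hs.sqA hp.zA, one_mul]
        rw [hta', ← mul_assoc, mul_inv_cancel_right]
    · intro a ha haV a' ha' haV'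
      obtain ⟨a, rfl⟩ := hπs a
      obtain ⟨a', rfl⟩ := hπs a'
      have rep : ∀ e : C, (e : G) ∈ A → (e : G) ∉ hp.V0 →
          ∃ d : C, (d : G) ∈ orbN A z ∧ (d : G) ≠ z ∧ π d = π e := by
        intro e he heV
        rcases hp.outside_short hb hbV he heV with h | h
        · exact ⟨e, h, fun e' => heV (by rw [e']; exact hzV), rfl⟩
        · refine ⟨⟨z * e, hAC (mul_mem hp.zA he)⟩, h,
            fun e' => hp.z_mul_notMem heV (by rw [show z * (e : G) = z from e']; exact hzV), (hπeq _ _).mpr (Or.inr ?_)⟩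
          simp only [← mul_assoc, hs.sqA hp.zA, one_mul]
      obtain ⟨d, hd, hdz, hde⟩ := rep a ((hmemA a).mp ha) fun h => haV ((hmemV a).mpr h)
      obtain ⟨d', hd', hd'z, hde'⟩ := rep a' ((hmemA a').mp ha') fun h => haV' ((hmemV a').mpr h)
      obtain ⟨t, ht, hte⟩ := hp.trans_short hd hdz hd' hd'z
      refine ⟨π ⟨t, hRC ht⟩, (hmemS _).mpr ht, ?_⟩
      rw [← hde, ← hde', ← map_inv, ← map_mul, ← map_mul]
      exact congrArg π (Subtype.ext hte)
    · intro a ha haV v hv hv1 v' hv' hv'1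
      obtain ⟨a, rfl⟩ := hπs a
      -- move `b` to `a`
      obtain ⟨t, ht, hte⟩ : ∃ t : C, (t : G) ∈ (R : Subgroup G) ∧
          π t * π ⟨b, hbC⟩ * (π t)⁻¹ = π a := by
        have hzb' : z * b ∈ orbN A z ∨ b ∈ orbN A z := (hp.outside_short hb hbV hb hbV).symm
        have hzb2 : z * b ∈ orbN A z := hzb'.resolve_right hbz
        have hzbz : z * b ≠ z := fun e => hb1 (mul_eq_left.mp e)
        have eb : π ⟨z * b, hAC (mul_mem hp.zA hb)⟩ = π ⟨b, hbC⟩ :=
          (hπeq _ _).mpr (Or.inr (by simp only [← mul_assoc, hs.sqA hp.zA, one_mul]))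
        have ha' := (hmemA a).mp ha
        have haV' : (a : G) ∉ hp.V0 := fun h => haV ((hmemV a).mpr h)
        rcases hp.outside_short hb hbV ha' haV' with h | h
        · obtain ⟨t, ht, hte⟩ := hp.trans_short hzb2 hzbz h (fun e => haV' (by rw [e]; exact hzV))
          refine ⟨⟨t, hRC ht⟩, ht, ?_⟩
          rw [← eb, ← map_inv, ← map_mul, ← map_mul]
          exact congrArg π (Subtype.ext hte)
        · obtain ⟨t, ht, hte⟩ := hp.trans_short hzb2 hzbz h
            (fun e => hp.z_mul_notMem haV' (by rw [e]; exact hzV))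
          refine ⟨⟨t, hRC ht⟩, ht, ?_⟩
          rw [← eb, ← map_inv, ← map_mul, ← map_mul, hπeq]
          right
          simp only [Subgroup.coe_mul, Subgroup.coe_inv]
          rw [hte, ← mul_assoc, hs.sqA hp.zA, one_mul]
      obtain ⟨v, rfl⟩ := hπs v
      obtain ⟨v', rfl⟩ := hπs v'
      have hvV := (hmemV v).mp hv
      have hv'V := (hmemV v').mp hv'
      obtain ⟨hvn1, hvnz⟩ := hne1 hv1
      set X := π ⟨x, hx'⟩ with hX
      obtain ⟨c1, c2⟩ := hcyc v hvV hvn1 hvnz
      have hXv : X * π v * X⁻¹ ≠ π v := by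
        rw [hX, ← map_inv, ← map_mul, ← map_mul]
        intro e
        rcases (hπeq _ _).mp e.symm with e' | e'
        · exact c1 e'
        · exact c2 e'
      have hXmem : ∀ w ∈ VX, X * w * X⁻¹ ∈ VX := by
        rintro _ ⟨w, hw, rfl⟩
        rw [hX, ← map_inv, ← map_mul, ← map_mul]
        exact (hmemV _).mpr (hp.conj_V0 (n := ⟨x, hx⟩) hxz hw)
      have hw1 : X * π v * X⁻¹ ≠ 1 := fun e => hv1 (conj_eq_one_iff.mp e)
      have hVX4 : Nat.card VX = 4 := by
        have := hcards hp.V0 hV0C hzV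
        rw [hp.card_V0 hb hbV, ← hVX] at this
        omega
      have hpv2 : π v * π v = 1 := by
        rw [← map_mul, show v * v = 1 from Subtype.ext (hs.sqA hvV.1), map_one]
      have hbfix : X * π ⟨b, hbC⟩ * X⁻¹ = π ⟨b, hbC⟩ := by
        rw [hX, ← map_inv, ← map_mul, ← map_mul]
        exact congrArg π (Subtype.ext (show x * b * x⁻¹ = b by rw [hxb, mul_inv_cancel_right]))
      -- an element fixing `b` that moves `v` to `v'`
      obtain ⟨g, hg1, hg2⟩ : ∃ g : C ⧸ Z, g * π ⟨b, hbC⟩ * g⁻¹ = π ⟨b, hbC⟩ ∧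
          g * π v * g⁻¹ = π v' := by
        rcases four_elems hVX4 hv (hXmem _ hv) hv1 hw1 (Ne.symm hXv) hpv2 hv' with e | e | e | e
        · exact absurd e hv'1
        · exact ⟨1, by group, by rw [e]; group⟩
        · exact ⟨X, hbfix, e.symm⟩
        · refine ⟨X * X, by rw [show X * X * π ⟨b, hbC⟩ * (X * X)⁻¹ =
              X * (X * π ⟨b, hbC⟩ * X⁻¹) * X⁻¹ by group, hbfix, hbfix], ?_⟩
          rw [e]
          have h3 : X * (X * π v * X⁻¹) * X⁻¹ ≠ X * π v * X⁻¹ := fun e' =>
            hXv (mul_left_cancel (mul_right_cancel e'))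
          have h5 : X * (X * π v * X⁻¹) * X⁻¹ ≠ π v := by
            intro e'
            refine c1 ?_
            have hx3' := hs.act_eq (m := (⟨x, hx⟩ : ↥(normalizer (A : Set G))) ^ 3) (n := 1)
              (by rw [map_pow, hx3, map_one]) hvV.1
            simp only [SubgroupClass.coe_pow, Subgroup.coe_one, one_mul, inv_one, mul_one] at hx3'
            rw [hX, ← map_inv, ← map_mul, ← map_mul, ← map_mul, ← map_mul] at e'
            rcases (hπeq _ _).mp e'.symm with e'' | e''
            · simp only [Subgroup.coe_mul, Subgroup.coe_inv] at e''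
              calc x * (v : G) * x⁻¹ = x * (x * (x * v * x⁻¹) * x⁻¹) * x⁻¹ := by rw [e'']
                _ = x ^ 3 * v * (x ^ 3)⁻¹ := by rw [pow_succ x 2, sq]; group
                _ = v := hx3'
            · exfalso
              simp only [Subgroup.coe_mul, Subgroup.coe_inv] at e''
              refine c2 ?_
              have h6 : x * (z * (v : G)) * x⁻¹ = v := by
                calc x * (z * (v : G)) * x⁻¹ = x * (x * (x * v * x⁻¹) * x⁻¹) * x⁻¹ := by rw [e'']
                  _ = x ^ 3 * v * (x ^ 3)⁻¹ := by rw [pow_succ x 2, sq]; group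
                  _ = v := hx3'
              rw [← mul_assoc, hxz, mul_assoc z, mul_assoc z] at h6
              calc x * (v : G) * x⁻¹ = z * (z * (x * v * x⁻¹)) := by
                    rw [← mul_assoc, hs.sqA hp.zA, one_mul]
                _ = z * v := by rw [show z * (x * (v : G) * x⁻¹) = v from by
                      simpa only [mul_assoc] using h6]
          rw [show X * X * π v * (X * X)⁻¹ = X * (X * π v * X⁻¹) * X⁻¹ by group]
          rcases four_elems hVX4 hv (hXmem _ hv) hv1 hw1 (Ne.symm hXv) hpv2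
              (hXmem _ (hXmem _ hv)) with e' | e' | e' | e'
          · exact absurd (conj_eq_one_iff.mp e') hw1
          · exact absurd e' h5
          · exact absurd e' h3
          · exact e'
      have htfix : ∀ w : C, (w : G) ∈ hp.V0 → π t * π w * (π t)⁻¹ = π w := by
        intro w hw
        rw [← map_inv, ← map_mul, ← map_mul]
        refine ((hπeq _ _).mpr ?_).symm
        simp only [Subgroup.coe_mul, Subgroup.coe_inv]
        exact hw.2 _ ht
      have htinv : ∀ w : C, (w : G) ∈ hp.V0 → (π t)⁻¹ * π w * π t = π w := fun w hw => by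
        calc (π t)⁻¹ * π w * π t = (π t)⁻¹ * (π t * π w * (π t)⁻¹) * π t := by rw [htfix w hw]
          _ = π w := by group
      refine ⟨π t * g * (π t)⁻¹, mem_centralizer_singleton_iff.mpr ?_, ?_⟩
      · rw [← hte]
        calc π t * g * (π t)⁻¹ * (π t * π ⟨b, hbC⟩ * (π t)⁻¹)
            = π t * (g * π ⟨b, hbC⟩ * g⁻¹) * g * (π t)⁻¹ := by group
          _ = _ := by rw [hg1]; group
      · calc π t * g * (π t)⁻¹ * π v * (π t * g * (π t)⁻¹)⁻¹
            = π t * (g * ((π t)⁻¹ * π v * π t) * g⁻¹) * (π t)⁻¹ := by group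
          _ = π v' := by rw [htinv v hvV, hg2, htfix v' hv'V]
    · intro v hv hv1
      obtain ⟨v, rfl⟩ := hπs v
      have hvV := (hmemV v).mp hv
      obtain ⟨hvn1, hvnz⟩ := hne1 hv1
      set D := (centralizer ({π v} : Set (C ⧸ Z))).comap π with hD
      have hD0 := hp.nil_zv hclosed hsR hsA hs2 hvV hvn1 hvnz
      set D0 := C ⊓ centralizer ({(v : G)} : Set G) with hD0d
      have hDn : Cfsg.HasNormalPComplement 2 D := by
        refine Transfer.hasNormalPComplement_iff_not_dvd.mpr fun hd => ?_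
        have hle : ((Cfsg.pResidual 2 D).map D.subtype).map C.subtype ≤ oddPart D0 := by
          rw [Cfsg.pResidual, MonoidHom.map_closure, MonoidHom.map_closure, closure_le]
          rintro _ ⟨_, ⟨y, hy, rfl⟩, rfl⟩
          have ho : Odd (orderOf ((y : C) : G)) := by
            rw [orderOf_coe, orderOf_coe]; exact Nat.coprime_two_right.mp hy
          refine (mem_oddPart hD0).mpr ⟨Subgroup.mem_inf.mpr ⟨(y : C).2, ?_⟩, ho⟩
          set g := ((y : C) : G) with hgd
          have hg : g * v * g⁻¹ = v ∨ g * v * g⁻¹ = z * v := by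
            have h1 := mem_centralizer_singleton_iff.mp (mem_comap.mp y.2)
            rw [← map_mul, ← map_mul, hπeq] at h1
            simp only [Subgroup.coe_mul, ← hgd] at h1
            rcases h1 with e | e
            · left; rw [← e, mul_inv_cancel_right]
            · right
              calc g * v * g⁻¹ = z * (z * (g * v)) * g⁻¹ := by
                    rw [← mul_assoc z z, hs.sqA hp.zA, one_mul]
                _ = z * v := by rw [← e, ← mul_assoc, mul_inv_cancel_right]
          have hg2 : g ^ 2 ∈ centralizer ({(v : G)} : Set G) := by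
            refine mem_centralizer_singleton_iff.mpr (mul_inv_eq_iff_eq_mul.mp ?_)
            rcases hg with e | e
            · calc g ^ 2 * v * (g ^ 2)⁻¹ = g * (g * v * g⁻¹) * g⁻¹ := by rw [sq]; group
                _ = v := by rw [e, e]
            · calc g ^ 2 * v * (g ^ 2)⁻¹ = g * (g * v * g⁻¹) * g⁻¹ := by rw [sq]; group
                _ = g * (z * v) * g⁻¹ := by rw [e]
                _ = g * z * g⁻¹ * (g * v * g⁻¹) := by group
                _ = v := by
                    rw [mem_centralizer_singleton_iff.mp (y : C).2, mul_inv_cancel_right, e,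
                      ← mul_assoc, hs.sqA hp.zA, one_mul]
          obtain ⟨k, hk⟩ := ho
          show g ∈ _
          rw [show g = (g ^ 2) ^ (k + 1) by
            rw [← pow_mul, show 2 * (k + 1) = orderOf g + 1 by rw [hk]; ring, pow_succ,
              pow_orderOf_eq_one, one_mul]]
          exact pow_mem hg2 _
        have h2 := card_dvd_of_le hle
        rw [card_map_of_injective C.subtype_injective, card_map_of_injective D.subtype_injective]
          at h2
        exact Nat.not_even_iff_odd.mpr (odd_oddPart hD0) (even_iff_two_dvd.mpr (hd.trans h2))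
      refine Transfer.hasNormalPComplement_of_surjective hDn
        ((π.comp D.subtype).codRestrict (centralizer ({π v} : Set (C ⧸ Z))) fun y => y.2) ?_
      rintro ⟨w, hw⟩
      obtain ⟨w, rfl⟩ := hπs w
      exact ⟨⟨w, hw⟩, rfl⟩
    · exact (hmemS sC).mpr hsR
    · exact fun h => hsA ((hmemA sC).mp h)
    · refine Involution.orderOf_eq_two_iff'.mpr ⟨?_, fun e => hsA ?_⟩
      · rw [← map_mul, show sC * sC = 1 from Subtype.ext hss, map_one]
      · rcases hZmem _ ((QuotientGroup.eq_one_iff sC).mp e) with e' | e' <;>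
          simp only [hsC] at e' <;> rw [e']
        · exact one_mem A
        · exact hp.zA
    · intro a ha haV
      obtain ⟨a, rfl⟩ := hπs a
      have ha' := (hmemA a).mp ha
      have haV' : (a : G) ∉ hp.V0 := fun h => haV ((hmemV a).mpr h)
      obtain ⟨hd, hd1, hdz⟩ := hp.comm_props hb hbV hsR hsA hss ha' haV'
      have hsas : s * a * s = a * ((a : G) * (s * a * s)) := by
        rw [← mul_assoc (a : G) a, hs.sqA ha', one_mul]
      rw [← map_mul, ← map_mul, ← map_mul, hπeq]
      simp only [Subgroup.coe_mul]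
      rcases hfour hd with e | e | e | e
      · exact absurd e hd1
      · exact absurd e hdz
      · left; rw [hsas, e]
      · right
        rw [hsas, e, ← mul_assoc (a : G) z, hs.commA ha' hp.zA, mul_assoc z, ← mul_assoc z z,
          hs.sqA hp.zA, one_mul]
    · exact (hmemV cC).mpr hc0V
    · intro e
      rcases hZmem _ ((QuotientGroup.eq_one_iff cC).mp e) with e' | e'
      · exact hc01 e'
      · exact hc0z e'
    · intro v hv hv1 hvc hconj
      obtain ⟨v, rfl⟩ := hπs v
      have hvV := (hmemV v).mp hv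
      obtain ⟨hvn1, hvnz⟩ := hne1 hv1
      have hsv : s * (v : G) ≠ v * s := by
        intro e
        rcases hfour (Subgroup.mem_inf.mpr
          ⟨hvV.1, mem_centralizer_singleton_iff.mpr e.symm⟩) with e' | e' | e' | e'
        · exact hvn1 e'
        · exact hvnz e'
        · exact hvc (congrArg π (Subtype.ext e'))
        · exact hvc ((hπeq _ _).mpr (Or.inr e')).symm
      obtain ⟨g, hg⟩ := isConj_iff.mp hconj
      obtain ⟨g, rfl⟩ := hπs g
      rw [← map_inv, ← map_mul, ← map_mul, ← map_mul, hπeq] at hg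
      simp only [Subgroup.coe_mul, Subgroup.coe_inv, hsC] at hg
      have h1 : (g : G) * s * (g : G)⁻¹ * ((g : G) * s * (g : G)⁻¹) = 1 := by
        rw [show (g : G) * s * (g : G)⁻¹ * ((g : G) * s * (g : G)⁻¹) =
          (g : G) * (s * s) * (g : G)⁻¹ by group, hss]
        group
      have h2 : s * (v : G) * (s * v) = 1 := by
        rcases hg with e | e
        · rw [e]; exact h1
        · rw [e]
          calc z * ((g : G) * s * (g : G)⁻¹) * (z * ((g : G) * s * (g : G)⁻¹))
              = z * ((g : G) * s * (g : G)⁻¹ * z) * ((g : G) * s * (g : G)⁻¹) := by group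
            _ = z * (z * ((g : G) * s * (g : G)⁻¹)) * ((g : G) * s * (g : G)⁻¹) := by
                have hc' := hzc (g * sC * g⁻¹)
                simp only [Subgroup.coe_mul, Subgroup.coe_inv, hsC] at hc'
                rw [← hc']
            _ = 1 := by rw [← mul_assoc z, hs.sqA hp.zA, one_mul, h1]
      refine hsv ?_
      calc s * (v : G) = (s * v)⁻¹ := eq_inv_of_mul_eq_one_left h2
        _ = v * s := by rw [mul_inv_rev, inv_eq_of_mul_eq_one_right hss, hs.invA hvV.1]
  exact Good.of_normal hclosed hAC (normal_sup_of_quotient Z hZc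
    (IsPGroup.of_card (n := 1) (by rw [hZcard]; rfl)) (A.subgroupOf C)
    (zpowers_le.mpr (mem_subgroupOf.mpr hp.zA)) hset.normal_sup)

end Pointed

end Cfsg.Agent.StrClosed41
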