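import Cfsg.Agent.StrClosed41.Setting
import Cfsg.Agent.S0215
import Cfsg.Agent.Lib.Involution.Isolated

/-!
# Two order formulas: `|C(a) : C(a) ∩ C(c)| = 3 μ²`
-/

set_option autoImplicit false

namespace Cfsg.Agent.StrClosed41

open Subgroup

variable {G : Type*} [Group G] [Finite G] {A V : Subgroup G} {S : Sylow 2 G} {s c : G}

theorem centralizer_pair (x y : G) :
    centralizer ({x, y} : Set G) = centralizer ({x} : Set G) ⊓ centralizer ({y} : Set G) :=
  centralizer_insert' x {y}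

theorem mem_centralizer_pair {x y g : G} :
    g ∈ centralizer ({x, y} : Set G) ↔ g * x = x * g ∧ g * y = y * g := by
  rw [centralizer_pair, Subgroup.mem_inf, mem_centralizer_singleton_iff,
    mem_centralizer_singleton_iff]

theorem mem_centralizer_triple {x y z g : G} :
    g ∈ centralizer ({x, y, z} : Set G) ↔ g * x = x * g ∧ g * y = y * g ∧ g * z = z * g := by
  rw [centralizer_insert', Subgroup.mem_inf, mem_centralizer_singleton_iff, mem_centralizer_pair]

theorem ocard_congr {s t : Set G} (h : centralizer s = centralizer t) : ocard s = ocard t := by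
  rw [ocard, ocard, h]

theorem ocard_pos (s : Set G) : 0 < ocard s :=
  Nat.card_pos_iff.mpr ⟨⟨⟨1, one_mem _, by simp⟩⟩, inferInstance⟩

/-- The involution in `⟨u v⟩` commutes with both. -/
theorem linking {u v w : G} (hu : orderOf u = 2) (hv : orderOf v = 2) (huv : ¬ IsConj u v)
    (hw : orderOf w = 2) (hwm : w ∈ zpowers (u * v)) : Commute w u ∧ Commute w v := by
  obtain ⟨w', hw', h1, h2, h3⟩ := Involution.exists_commuting_involution hu hv huv
  rw [S1875.unique_inv _ w w' hwm h3 hw hw']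
  exact ⟨h1, h2⟩

theorem conj_pair_mem {k u v w : G} (hw : w ∈ zpowers (u * v)) :
    k * w * k⁻¹ ∈ zpowers (k * u * k⁻¹ * (k * v * k⁻¹)) := by
  obtain ⟨n, rfl⟩ := hw
  exact ⟨n, by simp only; rw [show k * u * k⁻¹ * (k * v * k⁻¹) = k * (u * v) * k⁻¹ by group,
    conj_zpow]⟩

theorem orderOf_conj_eq {x : G} (k : G) : orderOf (k * x * k⁻¹) = orderOf x := by
  rw [← MulAut.conj_apply, MulEquiv.orderOf_eq]

theorem isConj_conj {x y : G} (h : IsConj x y) (k : G) : IsConj x (k * y * k⁻¹) :=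
  h.trans (isConj_iff.mpr ⟨k, rfl⟩)

theorem orderOf_of_isConj {x y : G} (h : IsConj x y) : orderOf y = orderOf x := by
  obtain ⟨k, rfl⟩ := isConj_iff.mp h
  exact orderOf_conj_eq k

namespace Setting

variable (h : Setting A V S s c)

include h

theorem nil_sub {v : G} (hv : v ∈ V) (hv1 : v ≠ 1) {C : Subgroup G}
    (hC : C ≤ centralizer ({v} : Set G)) : Cfsg.HasNormalPComplement 2 C := by
  haveI : Fact (Nat.Prime 2) := ⟨Nat.prime_two⟩
  exact Transfer.hasNormalPComplement_mono hC (h.nil v hv hv1)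

theorem card_cent_V {v : G} (hv : v ∈ V) (hv1 : v ≠ 1) :
    Nat.card (centralizer ({v} : Set G)) = 32 * ocard ({v} : Set G) := by
  rw [card_eq_mul_oddPart (h.nil v hv hv1) S.isPGroup' (h.S_le_cent hv)
    (fun R hR _ hSR => h.maxS hR hSR), card_oddPart_centralizer (h.nil v hv hv1) rfl, h.card_S,
    mul_comm]

theorem ocard_V_eq {v : G} (hv : v ∈ V) (hv1 : v ≠ 1) :
    ocard ({v} : Set G) = ocard ({c} : Set G) := by
  obtain ⟨g, hg⟩ := isConj_iff.mp (h.isConj_fus h.cV h.c1 hv hv1)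
  rw [← hg, ← ocard_conj g {c}, Set.image_singleton]

theorem card_cent_ca {a : G} (ha : a ∈ A) (haV : a ∉ V) :
    Nat.card (centralizer ({c, a} : Set G)) = 8 * ocard ({c, a} : Set G) := by
  have hnil : Cfsg.HasNormalPComplement 2 ↥(centralizer ({c, a} : Set G)) :=
    h.nil_sub h.cV h.c1 (centralizer_le (by simp))
  rw [card_eq_mul_oddPart hnil h.two_A (fun x hx => mem_centralizer_pair.mpr
      ⟨h.commA hx (h.VA h.cV), h.commA hx ha⟩)
    (fun R hR hRC hAR => h.maxA ha haV hR (hRC.trans (centralizer_le (by simp))) hAR),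
    card_oddPart_centralizer hnil rfl, h.card_A, mul_comm]

theorem card_cent_c2ca {a c2 : G} (ha : a ∈ A) (haV : a ∉ V) (hc2 : c2 ∈ V) :
    Nat.card (centralizer ({c2, c, a} : Set G)) = 8 * ocard ({c2, c, a} : Set G) := by
  have hnil : Cfsg.HasNormalPComplement 2 ↥(centralizer ({c2, c, a} : Set G)) :=
    h.nil_sub h.cV h.c1 (centralizer_le (by simp))
  rw [card_eq_mul_oddPart hnil h.two_A (fun x hx => mem_centralizer_triple.mpr
      ⟨h.commA hx (h.VA hc2), h.commA hx (h.VA h.cV), h.commA hx ha⟩)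
    (fun R hR hRC hAR => h.maxA ha haV hR (hRC.trans (centralizer_le (by simp))) hAR),
    card_oddPart_centralizer hnil rfl, h.card_A, mul_comm]

/-! ### The centralizer of `s` -/

theorem card_Ts : Nat.card ↥((S : Subgroup G) ⊓ centralizer ({s} : Set G)) = 16 := by
  obtain ⟨a, ha, haV⟩ := h.exists_out
  have hss : s * s = 1 := Involution.mul_self_of_orderOf h.s2
  have h1 := card_conj_mul (S : Subgroup G) h.sS
  have h2 : Nat.card {i : G // ∃ y ∈ (S : Subgroup G), y * s * y⁻¹ = i} = 2 := by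
    have hset : ∀ i : G, (∃ y ∈ (S : Subgroup G), y * s * y⁻¹ = i) ↔ i ∈ ({s, s * c} : Set G) := by
      intro i
      constructor
      · rintro ⟨y, hy, rfl⟩
        obtain ⟨ha', haV'⟩ := h.conj_out (inv_mem hy) ha haV
        rw [inv_inv] at ha' haV'
        refine h.eq_s_or (mul_mem (mul_mem hy h.sS) (inv_mem hy)) ?_ ha haV ?_
          (isConj_iff.mpr ⟨y, rfl⟩)
        · rw [show y * s * y⁻¹ * (y * s * y⁻¹) = y * (s * s) * y⁻¹ by group, hss]; group
        · calc y * s * y⁻¹ * a * (y * s * y⁻¹)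
              = y * (s * (y⁻¹ * a * y) * s) * y⁻¹ := by group
            _ = y * (y⁻¹ * a * y * c) * y⁻¹ := by rw [h.comm _ ha' haV']
            _ = a * (y * c * y⁻¹) := by group
            _ = a * c := by rw [h.vcentral y hy c h.cV, mul_inv_cancel_right]
      · rintro (rfl | rfl)
        · exact ⟨1, one_mem _, by group⟩
        · refine ⟨a, h.AS ha, ?_⟩
          rw [h.invA ha]
          calc a * s * a = a * (s * a * s) * s := by
                rw [show a * (s * a * s) * s = a * s * a * (s * s) by group, hss, mul_one]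
            _ = a * a * c * s := by rw [h.comm a ha haV, ← mul_assoc]
            _ = s * c := by rw [h.sqA ha, one_mul, h.sv h.cV]
    rw [Nat.card_congr (Equiv.subtypeEquivRight hset), Nat.card_coe_set_eq, Set.ncard_pair]
    exact fun e => h.c1 (mul_eq_left.mp e.symm)
  rw [h2, h.card_S] at h1
  omega

theorem max_Ts {R : Subgroup G} (hR : IsPGroup 2 R) (hRC : R ≤ centralizer ({s} : Set G))
    (hTR : (S : Subgroup G) ⊓ centralizer ({s} : Set G) ≤ R) :
    R ≤ (S : Subgroup G) ⊓ centralizer ({s} : Set G) := by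
  haveI : Fact (Nat.Prime 2) := ⟨Nat.prime_two⟩
  obtain ⟨Q, hQ⟩ := hR.exists_le_sylow
  obtain ⟨g, hg⟩ := MulAction.exists_smul_eq G Q S
  have hmem : ∀ y ∈ R, g * y * g⁻¹ ∈ (S : Subgroup G) := fun y hy => by
    rw [← hg]; exact ⟨_, hQ hy, rfl⟩
  set R' := R.map (MulAut.conj g).toMonoidHom with hR'
  have hcardR : Nat.card R' = Nat.card R :=
    card_map_of_injective (MulAut.conj g).injective
  have hR'S : R' ≤ (S : Subgroup G) := by
    rintro _ ⟨y, hy, rfl⟩; exact hmem y hy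
  have hsR : s ∈ R := hTR (Subgroup.mem_inf.mpr ⟨h.sS, mem_centralizer_singleton_iff.mpr rfl⟩)
  by_contra hne
  -- `R` has order 32
  have hcard : Nat.card R = 32 := by
    have hd1 : Nat.card R ∣ 32 := by
      rw [← hcardR, ← h.card_S]; exact card_dvd_of_le hR'S
    have hd2 : 16 ∣ Nat.card R := by
      rw [← h.card_Ts]; exact card_dvd_of_le hTR
    have hne16 : Nat.card R ≠ 16 := fun e =>
      hne (eq_of_le_of_card_ge hTR (by rw [h.card_Ts, e])).symm.le
    have hle := Nat.le_of_dvd (by norm_num) hd1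
    have hpos : 0 < Nat.card R := Nat.card_pos
    obtain ⟨n, hn⟩ := hd2
    rw [hn] at hle hne16 hpos ⊢
    omega
  have heq : R' = (S : Subgroup G) :=
    eq_of_le_of_card_ge hR'S (by rw [hcardR, hcard, h.card_S])
  -- so the conjugate of `s` is central in `S`
  have hcen : ∀ y ∈ (S : Subgroup G), y * (g * s * g⁻¹) = g * s * g⁻¹ * y := by
    intro y hy
    rw [← heq] at hy
    obtain ⟨x, hx, rfl⟩ := hy
    show g * x * g⁻¹ * (g * s * g⁻¹) = g * s * g⁻¹ * (g * x * g⁻¹)
    rw [show g * x * g⁻¹ * (g * s * g⁻¹) = g * (x * s) * g⁻¹ by group,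
      mem_centralizer_singleton_iff.mp (hRC hx)]
    group
  obtain ⟨a, ha, haV⟩ := h.exists_out
  exact h.not_conj_s g (h.centS a ha haV _ (hmem s hsR) (hcen a (h.AS ha)).symm)

theorem nil_s : Cfsg.HasNormalPComplement 2 ↥(centralizer ({s} : Set G)) := by
  haveI : Fact (Nat.Prime 2) := ⟨Nat.prime_two⟩
  set C := centralizer ({s} : Set G) with hC
  set T := (S : Subgroup G) ⊓ C with hT
  have hT2 : IsPGroup 2 T := S.isPGroup'.to_le inf_le_left
  have hcC : c ∈ C := mem_centralizer_singleton_iff.mpr (h.sv h.cV).symm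
  obtain ⟨P, hP⟩ := (hT2.comap_subtype : IsPGroup 2 (T.subgroupOf C)).exists_le_sylow
  have hPT : ∀ y ∈ (P : Subgroup C), (y : G) ∈ T := fun y hy =>
    h.max_Ts (P.isPGroup'.map C.subtype) (map_subtype_le _)
      (fun t ht => ⟨⟨t, (Subgroup.mem_inf.mp ht).2⟩, hP (mem_subgroupOf.mpr ht), rfl⟩) ⟨y, hy, rfl⟩
  obtain ⟨N, hNn, hNodd, hNc⟩ := S0215.result P (⟨c, hcC⟩ : C)
    (by rw [Subgroup.orderOf_mk]; exact h.ordA (h.VA h.cV) h.c1)
    (hP (mem_subgroupOf.mpr (Subgroup.mem_inf.mpr ⟨h.S_le_cent h.cV |> fun _ => h.AS (h.VA h.cV), hcC⟩)))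
    (by
      intro g hg
      set v := (g : G) * c * (g : G)⁻¹ with hv
      have hvS : v ∈ (S : Subgroup G) := (Subgroup.mem_inf.mp (hPT _ hg)).1
      have hvV := h.mem_V_of_isConj hvS h.cV h.c1 (isConj_iff.mpr ⟨(g : G), rfl⟩)
      refine Subtype.ext ?_
      show v = c
      by_contra hne
      have hv1 : v ≠ 1 := fun e => h.c1 (conj_eq_one_iff.mp (hv ▸ e))
      refine h.snc v hvV hv1 hne ?_
      have hgs : (g : G) * s * (g : G)⁻¹ = s := by
        rw [mem_centralizer_singleton_iff.mp g.2]; group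
      obtain ⟨a, ha, haV⟩ := h.exists_out
      have hsc : a * s * a⁻¹ = s * c := by
        rw [h.invA ha]
        calc a * s * a = a * (s * a * s) * s⁻¹ := by group
          _ = a * a * c * s⁻¹ := by rw [h.comm a ha haV, ← mul_assoc]
          _ = s * c := by rw [h.sqA ha, one_mul, Involution.inv_of_orderOf h.s2, h.sv h.cV]
      refine isConj_iff.mpr ⟨(g : G) * a, ?_⟩
      calc (g : G) * a * s * ((g : G) * a)⁻¹ = (g : G) * (a * s * a⁻¹) * (g : G)⁻¹ := by group
        _ = ((g : G) * s * (g : G)⁻¹) * ((g : G) * c * (g : G)⁻¹) := by rw [hsc]; group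
        _ = s * v := by rw [hgs])
  refine Transfer.hasNormalPComplement_iff_not_dvd.mpr fun hd => ?_
  -- the odd elements lie in `N ⊔ oddPart (C ∩ C(c))`
  have hnilY : Cfsg.HasNormalPComplement 2 ↥(C ⊓ centralizer ({c} : Set G)) :=
    h.nil_sub h.cV h.c1 inf_le_right
  set Y := C ⊓ centralizer ({c} : Set G) with hY
  set U := (oddPart Y).subgroupOf C with hU
  have hUc : Nat.card U = Nat.card (oddPart Y) :=
    Nat.card_congr (subgroupOfEquivOfLe ((oddPart_le Y).trans inf_le_left)).toEquiv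
  have hWodd : Odd (Nat.card ↥(N ⊔ U)) :=
    odd_card_sup hNodd (hUc ▸ odd_oddPart hnilY) (by rw [normalizer_eq_top (H := N)]; exact le_top)
  -- every element is an element of `C ∩ C(c)` times one of `N`
  have hfac : ∀ g : C, ∃ k ∈ N, ((k⁻¹ * g : C) : G) ∈ Y := by
    intro g
    set z : C := ⟨c, hcC⟩ with hz
    have hz2 : orderOf z = 2 := by
      rw [Subgroup.orderOf_mk]; exact h.ordA (h.VA h.cV) h.c1
    have hgz : orderOf (g * z * g⁻¹) = 2 := by rw [orderOf_conj_eq, hz2]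
    have hmem : z * (g * z * g⁻¹) ∈ N := by
      have := hNc g
      rwa [Involution.inv_of_orderOf hz2,
        show z * g * z * g⁻¹ = z * (g * z * g⁻¹) by group] at this
    obtain ⟨k, hk, hkz⟩ := exists_conj_of_mul_mem hNodd hz2 hgz hmem
    refine ⟨k, hk, Subgroup.mem_inf.mpr ⟨(k⁻¹ * g).2, mem_centralizer_singleton_iff.mpr ?_⟩⟩
    have : k⁻¹ * g * z = z * (k⁻¹ * g) := by
      calc k⁻¹ * g * z = k⁻¹ * (g * z * g⁻¹) * g := by group
        _ = z * (k⁻¹ * g) := by rw [← hkz]; group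
    exact congrArg Subtype.val this
  haveI hWn : (N ⊔ U).Normal := by
    refine ⟨fun w hw g => ?_⟩
    obtain ⟨k, hk, hy⟩ := hfac g
    suffices N ⊔ U ≤ (N ⊔ U).comap (MulAut.conj (k⁻¹ * g)).toMonoidHom by
      have h2 := this hw
      simp only [mem_comap, MulEquiv.coe_toMonoidHom, MulAut.conj_apply] at h2
      rw [show g * w * g⁻¹ = k * (k⁻¹ * g * w * (k⁻¹ * g)⁻¹) * k⁻¹ by group]
      exact mul_mem (mul_mem (mem_sup_left hk) h2) (inv_mem (mem_sup_left hk))
    exact sup_le (fun n hn => mem_sup_left (hNn.conj_mem n hn _))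
      (fun u hu => mem_sup_right (conj_mem_oddPart hnilY (le_normalizer hy) hu))
  have hle : Cfsg.pResidual 2 ↥C ≤ N ⊔ U := by
    rw [Cfsg.pResidual, closure_le]
    intro g hg
    have hgodd : Odd (orderOf g) := Nat.coprime_two_right.mp hg
    obtain ⟨k, hk, hy⟩ := hfac g
    obtain ⟨u, hu, t, ht, he⟩ := exists_mul_oddPart hnilY (T := T) hT2
      (fun t ht => Subgroup.mem_inf.mpr ⟨(Subgroup.mem_inf.mp ht).2,
        h.S_le_cent h.cV (Subgroup.mem_inf.mp ht).1⟩)
      (fun R hR hRY hTR => h.max_Ts hR (hRY.trans inf_le_left) hTR) hy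
    set tC : C := ⟨t, (Subgroup.mem_inf.mp ht).2⟩ with htC
    have hg' : g = k * ⟨u, (Subgroup.mem_inf.mp (oddPart_le Y hu)).1⟩ * tC := by
      refine Subtype.ext ?_
      rw [Subgroup.coe_mul, Subgroup.coe_mul]
      show (g : G) = (k : G) * u * t
      rw [mul_assoc, ← he, Subgroup.coe_mul, Subgroup.coe_inv, mul_inv_cancel_left]
    have hWu : k * ⟨u, (Subgroup.mem_inf.mp (oddPart_le Y hu)).1⟩ ∈ N ⊔ U :=
      mul_mem (mem_sup_left hk) (mem_sup_right (mem_subgroupOf.mpr hu))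
    let π := QuotientGroup.mk' (N ⊔ U)
    have hπ : π g = π tC := by
      rw [hg', map_mul, show π (k * ⟨u, _⟩) = 1 from (QuotientGroup.eq_one_iff _).mpr hWu, one_mul]
    have ht2 : IsPGroup 2 (zpowers tC) :=
      (hT2.comap_subtype : IsPGroup 2 (T.subgroupOf C)).to_le
        (zpowers_le.mpr (mem_subgroupOf.mpr ht))
    obtain ⟨n, hn⟩ := ht2 ⟨tC, mem_zpowers tC⟩
    have h1 : orderOf (π g) ∣ 2 ^ n := by
      rw [hπ]
      refine orderOf_dvd_of_pow_eq_one ?_
      rw [← map_pow, show tC ^ 2 ^ n = 1 from congrArg Subtype.val hn, map_one]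
    have h2 : π g = 1 := orderOf_eq_one_iff.mp (Nat.eq_one_of_dvd_coprimes
      ((Nat.coprime_two_left.mpr hgodd).pow_left n) h1 (orderOf_map_dvd π g))
    exact (QuotientGroup.eq_one_iff g).mp h2
  exact Nat.not_even_iff_odd.mpr hWodd (even_iff_two_dvd.mpr (hd.trans (card_dvd_of_le hle)))

theorem card_cent_s : Nat.card (centralizer ({s} : Set G)) = 16 * ocard ({s} : Set G) := by
  rw [card_eq_mul_oddPart h.nil_s (S.isPGroup'.to_le inf_le_left) inf_le_right
    (fun R hR hRC hTR => h.max_Ts hR hRC hTR), card_oddPart_centralizer h.nil_s rfl, h.card_Ts,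
    mul_comm]

theorem card_cent_cs :
    Nat.card (centralizer ({c, s} : Set G)) = 16 * ocard ({c, s} : Set G) := by
  have hnil : Cfsg.HasNormalPComplement 2 ↥(centralizer ({c, s} : Set G)) :=
    h.nil_sub h.cV h.c1 (centralizer_le (by simp))
  rw [card_eq_mul_oddPart hnil (T := (S : Subgroup G) ⊓ centralizer ({s} : Set G))
    (S.isPGroup'.to_le inf_le_left)
    (fun t ht => mem_centralizer_pair.mpr ⟨h.vcentral t (Subgroup.mem_inf.mp ht).1 c h.cV,
      mem_centralizer_singleton_iff.mp (Subgroup.mem_inf.mp ht).2⟩)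
    (fun R hR hRC hTR => h.max_Ts hR (hRC.trans (centralizer_le (by simp))) hTR),
    card_oddPart_centralizer hnil rfl, h.card_Ts, mul_comm]

/-! ### The four-group formulas -/

theorem W_eq {a c2 : G} (ha : a ∈ A) (haV : a ∉ V) (hc2 : c2 ∈ V) (h21 : c2 ≠ 1) (h2c : c2 ≠ c)
    (μ : ℕ) (hμ : ocard ({c, a} : Set G) = μ * ocard ({c2, c, a} : Set G)) :
    ocard ({s} : Set G) = μ ^ 2 * ocard ({c, s} : Set G) := by
  have hcA := h.VA h.cV
  have h2A := h.VA hc2
  have hss : s * s = 1 := Involution.mul_self_of_orderOf h.s2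
  set c3 := c * c2 with hc3
  have h3V : c3 ∈ V := mul_mem h.cV hc2
  have h31 : c3 ≠ 1 := fun e => h2c (by
    have := eq_inv_of_mul_eq_one_right e
    rwa [h.invA hcA] at this)
  have hsc : a * s * a⁻¹ = s * c := by
    rw [h.invA ha]
    calc a * s * a = a * (s * a * s) * s⁻¹ := by group
      _ = a * a * c * s⁻¹ := by rw [h.comm a ha haV, ← mul_assoc]
      _ = s * c := by rw [h.sqA ha, one_mul, Involution.inv_of_orderOf h.s2, h.sv h.cV]
  -- `σ v` computed with `⟨s, c⟩` on the odd part of `C(v)`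
  have hF2 : ∀ v ∈ V, v ≠ 1 → ocard ({v} : Set G) * ocard ({c, s, v} : Set G) ^ 2 =
      ocard ({v, s} : Set G) ^ 2 * ocard ({c, v} : Set G) := by
    intro v hv hv1
    have hF := four_formula (h.nil v hv hv1) (t := s) (τ := c)
      (mem_centralizer_singleton_iff.mpr (h.sv hv))
      (mem_centralizer_singleton_iff.mpr (h.commA hcA (h.VA hv))) hss (h.sqA hcA) (h.sv h.cV)
    rw [show ({c, s, v} : Set G) = insert c (insert s {v}) from rfl, hF]
    have e1 : ocard (insert (s * c) {v} : Set G) = ocard (insert s {v} : Set G) := by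
      rw [← ocard_conj a (insert s {v}), Set.image_insert_eq, Set.image_singleton, hsc,
        h.commA ha (h.VA hv), mul_inv_cancel_right]
    have e2 : ocard (insert s {v} : Set G) = ocard ({v, s} : Set G) := by rw [Set.pair_comm]
    rw [e1, e2, show (insert c {v} : Set G) = {c, v} from rfl]
    ring
  have hF1 := four_formula h.nil_s (t := c) (τ := c2)
    (mem_centralizer_singleton_iff.mpr (h.sv h.cV).symm)
    (mem_centralizer_singleton_iff.mpr (h.sv hc2).symm) (h.sqA hcA) (h.sqA h2A) (h.commA hcA h2A)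
  have hF3 := four_formula (h.nil c h.cV h.c1) (t := c2) (τ := a)
    (mem_centralizer_singleton_iff.mpr (h.commA h2A hcA))
    (mem_centralizer_singleton_iff.mpr (h.commA ha hcA)) (h.sqA h2A) (h.sqA ha) (h.commA h2A ha)
  -- identifications
  have g1 : ocard (insert (c2 * a) {c} : Set G) = ocard ({c, a} : Set G) := by
    obtain ⟨t, ht, hta⟩ := h.orb a ha haV (c2 * a) (mul_mem h2A ha)
      (fun e => haV (by simpa using mul_mem (inv_mem hc2) e))
    rw [show (insert (c2 * a) {c} : Set G) = (fun y => t * y * t⁻¹) '' (insert a {c}) by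
      rw [Set.image_insert_eq, Set.image_singleton, hta, h.vcentral t ht c h.cV,
        mul_inv_cancel_right], ocard_conj]
    rw [Set.pair_comm]
  have g2 : ocard (insert a {c} : Set G) = ocard ({c, a} : Set G) := by rw [Set.pair_comm]
  have g3 : ocard (insert a (insert c2 {c}) : Set G) = ocard ({c2, c, a} : Set G) :=
    ocard_congr (by ext g; simp only [mem_centralizer_triple]; tauto)
  have g4 : ocard (insert c2 (insert c {s}) : Set G) = ocard ({c, s, c2} : Set G) :=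
    ocard_congr (by ext g; simp only [mem_centralizer_triple]; tauto)
  have g5 : ocard ({c, s, c3} : Set G) = ocard ({c, s, c2} : Set G) := by
    refine ocard_congr ?_
    ext g
    simp only [mem_centralizer_triple, hc3]
    constructor
    · rintro ⟨e1, e2, e3⟩
      refine ⟨e1, e2, mul_left_cancel (a := c) ?_⟩
      calc c * (g * c2) = g * c * c2 := by rw [← mul_assoc, e1]
        _ = c * c2 * g := by rw [mul_assoc, e3]
        _ = c * (c2 * g) := mul_assoc _ _ _
    · rintro ⟨e1, e2, e3⟩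
      exact ⟨e1, e2, by rw [← mul_assoc, e1, mul_assoc, e3, ← mul_assoc]⟩
  have g6 : ocard ({c, c3} : Set G) = ocard ({c, c2} : Set G) := by
    refine ocard_congr ?_
    ext g
    simp only [mem_centralizer_pair, hc3]
    constructor
    · rintro ⟨e1, e3⟩
      refine ⟨e1, mul_left_cancel (a := c) ?_⟩
      calc c * (g * c2) = g * c * c2 := by rw [← mul_assoc, e1]
        _ = c * c2 * g := by rw [mul_assoc, e3]
        _ = c * (c2 * g) := mul_assoc _ _ _
    · rintro ⟨e1, e3⟩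
      exact ⟨e1, by rw [← mul_assoc, e1, mul_assoc, e3, ← mul_assoc]⟩
  have g7 : ocard (insert c2 {c} : Set G) = ocard ({c, c2} : Set G) := by rw [Set.pair_comm]
  rw [g1, g2, g3, g7] at hF3
  rw [g4, show (insert c2 {s} : Set G) = {c2, s} from rfl,
    show (insert (c * c2) {s} : Set G) = {c3, s} from rfl,
    show (insert c {s} : Set G) = {c, s} from rfl] at hF1
  have hA2 := hF2 c2 hc2 h21
  have hA3 := hF2 c3 h3V h31
  rw [h.ocard_V_eq hc2 h21] at hA2
  rw [h.ocard_V_eq h3V h31, g5, g6] at hA3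
  have pψ := ocard_pos ({c, c2} : Set G)
  have pφ := ocard_pos ({c2, c, a} : Set G)
  have pτ := ocard_pos ({c, s, c2} : Set G)
  set γ := ocard ({c} : Set G)
  set τ := ocard ({c, s, c2} : Set G)
  set ψ := ocard ({c, c2} : Set G)
  set σ2 := ocard ({c2, s} : Set G)
  set σ3 := ocard ({c3, s} : Set G)
  set φ := ocard ({c2, c, a} : Set G)
  set σ1 := ocard ({c, s} : Set G)
  set W := ocard ({s} : Set G)
  rw [hμ] at hF3
  have e23 : σ2 = σ3 :=
    Nat.pow_left_injective two_ne_zero (Nat.eq_of_mul_eq_mul_right pψ (hA2.symm.trans hA3))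
  have e2μ : σ2 = μ * τ := by
    refine Nat.pow_left_injective two_ne_zero (Nat.eq_of_mul_eq_mul_right
      (show 0 < ψ * φ ^ 2 from Nat.mul_pos pψ (pow_pos pφ 2)) ?_)
    calc σ2 ^ 2 * (ψ * φ ^ 2) = (σ2 ^ 2 * ψ) * φ ^ 2 := by ring
      _ = (γ * φ ^ 2) * τ ^ 2 := by rw [← hA2]; ring
      _ = (μ * τ) ^ 2 * (ψ * φ ^ 2) := by rw [hF3]; ring
  refine Nat.eq_of_mul_eq_mul_right (show 0 < τ ^ 2 from pow_pos pτ 2) ?_
  rw [hF1, ← e23, e2μ]
  ring

/-! ### The pairs -/

theorem hall_ca {a : G} (ha : a ∈ A) (haV : a ∉ V) {u' v' w' : G} (hu : IsConj c u')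
    (hv : IsConj a v') (hw : orderOf w' = 2) (hwm : w' ∈ zpowers (u' * v')) : IsConj a w' := by
  have hne : ¬ IsConj u' v' := fun e => h.vnc c h.cV h.c1 a ha haV (hu.trans (e.trans hv.symm))
  have ho := linking ((orderOf_of_isConj hu).trans (h.ordA (h.VA h.cV) h.c1))
    ((orderOf_of_isConj hv).trans (h.ordA ha (h.ne_one haV))) hne hw hwm
  obtain ⟨g, hg⟩ := isConj_iff.mp hv
  obtain ⟨k0, hk0, hkA⟩ := h.conj_into_A ha haV (i := g⁻¹ * w' * g)
    (by rw [← inv_inv g, inv_inv g⁻¹, orderOf_conj_eq, hw]) (by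
      calc g⁻¹ * w' * g * a = g⁻¹ * (w' * (g * a * g⁻¹)) * g := by group
        _ = g⁻¹ * ((g * a * g⁻¹) * w') * g := by rw [hg, ho.2.eq]
        _ = a * (g⁻¹ * w' * g) := by group)
  set k := k0 * g⁻¹ with hk
  have hkw : k * w' * k⁻¹ = k0 * (g⁻¹ * w' * g) * k0⁻¹ := by rw [hk]; group
  rw [← hkw] at hkA
  have hkv : k * v' * k⁻¹ = a := by
    rw [hk, ← hg, show k0 * g⁻¹ * (g * a * g⁻¹) * (k0 * g⁻¹)⁻¹ = k0 * a * k0⁻¹ by group,
      mem_centralizer_singleton_iff.mp hk0, mul_inv_cancel_right]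
  by_cases hV : k * w' * k⁻¹ ∈ V
  swap
  · exact (h.isConj_orb ha haV hkA hV).trans (isConj_iff.mpr ⟨k⁻¹, by group⟩)
  exfalso
  set v := k * w' * k⁻¹ with hvd
  have hvm : v ∈ zpowers (k * u' * k⁻¹ * a) := hkv ▸ conj_pair_mem hwm
  have hv1 : v ≠ 1 := fun e => Involution.ne_one_of_orderOf hw (conj_eq_one_iff.mp (hvd ▸ e))
  set u := k * u' * k⁻¹ with hud
  have hu2 : orderOf u = 2 := by
    rw [hud, orderOf_conj_eq, orderOf_of_isConj hu]; exact h.ordA (h.VA h.cV) h.c1
  have huv : u * v = v * u := by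
    rw [hud, hvd, show k * u' * k⁻¹ * (k * w' * k⁻¹) = k * (u' * w') * k⁻¹ by group, ← ho.1.eq]
    group
  set Y := centralizer ({v} : Set G) with hY
  obtain ⟨ρ, hρS, hρ, hρid⟩ := exists_retract (h.nil v hV hv1) S.isPGroup' (h.S_le_cent hV)
    (fun R hR _ hSR => h.maxS hR hSR)
  set uY : Y := ⟨u, mem_centralizer_singleton_iff.mpr huv⟩ with huY
  obtain ⟨hu0, kk, -, hkk⟩ := retract_involution (h.nil v hV hv1) (h.S_le_cent hV) ρ hρS hρ
    (i := uY) hu2
  have hu0V : ρ uY ∈ V := by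
    refine h.mem_V_of_isConj (hρS uY) h.cV h.c1 ?_
    exact (isConj_conj hu k).trans (isConj_iff.mpr ⟨kk⁻¹, by
      show kk⁻¹ * u * kk⁻¹⁻¹ = ρ uY
      rw [← show kk * ρ uY * kk⁻¹ = u from hkk]; group⟩)
  set aY : Y := ⟨a, h.A_le_cent (h.VA hV) ha⟩ with haY
  set vY : Y := ⟨v, mem_centralizer_singleton_iff.mpr rfl⟩ with hvY
  obtain ⟨n, hn⟩ := hvm
  have hd : vY = (uY * aY) ^ n := Subtype.ext (by
    rw [SubgroupClass.coe_zpow]; exact hn.symm)
  have h1 := congrArg ρ hd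
  rw [hρid vY (h.AS (h.VA hV)), map_zpow, map_mul, hρid aY (h.AS ha)] at h1
  have hout : ρ uY * a ∉ V := fun e => haV (by simpa using mul_mem (inv_mem hu0V) e)
  have hsq : (ρ uY * a) ^ (2 : ℤ) = 1 := by
    rw [zpow_two]; exact h.sqA (mul_mem (h.VA hu0V) ha)
  rcases Int.even_or_odd n with ⟨m, rfl⟩ | ⟨m, rfl⟩
  · rw [← two_mul, zpow_mul, hsq, one_zpow] at h1
    exact hv1 h1
  · rw [zpow_add, zpow_mul, hsq, one_zpow, one_mul, zpow_one] at h1
    exact hout (h1 ▸ hV)

theorem hall_as {a : G} (ha : a ∈ A) (haV : a ∉ V) {u' v' w' : G} (hu : IsConj a u')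
    (hv : IsConj s v') (hw : orderOf w' = 2) (hwm : w' ∈ zpowers (u' * v')) : IsConj c w' := by
  have hne : ¬ IsConj u' v' := fun e => h.s_not_conj ha (hv.trans (e.symm.trans hu.symm))
  have ho := linking ((orderOf_of_isConj hu).trans (h.ordA ha (h.ne_one haV)))
    ((orderOf_of_isConj hv).trans h.s2) hne hw hwm
  obtain ⟨g, hg⟩ := isConj_iff.mp hu
  obtain ⟨k0, -, hkA⟩ := h.conj_into_A ha haV (i := g⁻¹ * w' * g)
    (by rw [← inv_inv g, inv_inv g⁻¹, orderOf_conj_eq, hw]) (by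
      calc g⁻¹ * w' * g * a = g⁻¹ * (w' * (g * a * g⁻¹)) * g := by group
        _ = g⁻¹ * ((g * a * g⁻¹) * w') * g := by rw [hg, ho.1.eq]
        _ = a * (g⁻¹ * w' * g) := by group)
  set k := k0 * g⁻¹ with hk
  have hkw : k * w' * k⁻¹ = k0 * (g⁻¹ * w' * g) * k0⁻¹ := by rw [hk]; group
  rw [← hkw] at hkA
  by_cases hV : k * w' * k⁻¹ ∈ V
  · have h1 : k * w' * k⁻¹ ≠ 1 := fun e => Involution.ne_one_of_orderOf hw (conj_eq_one_iff.mp e)
    exact (h.isConj_fus h.cV h.c1 hV h1).trans (isConj_iff.mpr ⟨k⁻¹, by group⟩)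
  · exfalso
    obtain ⟨j, -, hj⟩ := h.conj_into_A hkA hV (i := k * v' * k⁻¹)
      (by rw [orderOf_conj_eq, orderOf_of_isConj hv]; exact h.s2) (by
        rw [show k * v' * k⁻¹ * (k * w' * k⁻¹) = k * (v' * w') * k⁻¹ by group, ← ho.2.eq]
        group)
    exact h.s_not_conj hj (isConj_conj (isConj_conj hv k) j)

/-- The pairs around `c`. -/
theorem pairs_as {a : G} (ha : a ∈ A) (haV : a ∉ V) :
    Nat.card {q : G × G // IsConj a q.1 ∧ IsConj s q.2 ∧ c ∈ zpowers (q.1 * q.2)} =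
      Nat.card {i : G // ∃ y ∈ centralizer ({c} : Set G), y * a * y⁻¹ = i} *
        Nat.card {i : G // ∃ y ∈ centralizer ({c} : Set G), y * s * y⁻¹ = i} := by
  set Y := centralizer ({c} : Set G) with hY
  have hc2 := h.ordA (h.VA h.cV) h.c1
  have hss : s * s = 1 := Involution.mul_self_of_orderOf h.s2
  obtain ⟨ρ, hρS, hρ, hρid⟩ := exists_retract (h.nil c h.cV h.c1) S.isPGroup' (h.S_le_cent h.cV)
    (fun R hR _ hSR => h.maxS hR hSR)
  set cY : Y := ⟨c, mem_centralizer_singleton_iff.mpr rfl⟩ with hcY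
  rw [← Nat.card_prod]
  refine Nat.card_congr
    ((Equiv.subtypeEquivRight fun q => ?_).trans Equiv.subtypeProdEquivProd)
  constructor
  · rintro ⟨h1, h2, h3⟩
    have hne : ¬ IsConj q.1 q.2 := fun e => h.s_not_conj ha (h2.trans (e.symm.trans h1.symm))
    have o1 := (orderOf_of_isConj h1).trans (h.ordA ha (h.ne_one haV))
    have o2 := (orderOf_of_isConj h2).trans h.s2
    obtain ⟨l1, l2⟩ := linking o1 o2 hne hc2 h3
    set q1 : Y := ⟨q.1, mem_centralizer_singleton_iff.mpr l1.eq.symm⟩ with hq1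
    set q2 : Y := ⟨q.2, mem_centralizer_singleton_iff.mpr l2.eq.symm⟩ with hq2
    obtain ⟨ho1, k1, hk1, hk1e⟩ :=
      retract_involution (h.nil c h.cV h.c1) (h.S_le_cent h.cV) ρ hρS hρ (i := q1) o1
    obtain ⟨ho2, k2, hk2, hk2e⟩ :=
      retract_involution (h.nil c h.cV h.c1) (h.S_le_cent h.cV) ρ hρS hρ (i := q2) o2
    set a1 := ρ q1 with ha1
    set s1 := ρ q2 with hs1
    obtain ⟨ha1A, ha1V⟩ := h.mem_out_of_isConj (hρS q1) ha haV
      (h1.trans (isConj_iff.mpr ⟨k1⁻¹, by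
        rw [← show k1 * a1 * k1⁻¹ = q.1 from hk1e]; group; exact ha1⟩))
    have hs1c : IsConj s s1 := h2.trans (isConj_iff.mpr ⟨k2⁻¹, by
        rw [← show k2 * s1 * k2⁻¹ = q.2 from hk2e]; group⟩)
    have hs1s : s1 * s1 = 1 := Involution.mul_self_of_orderOf ho2
    have hs1A : s1 ∉ A := fun e => h.s_not_conj e hs1c
    obtain ⟨hb, hbV⟩ := h.conj_out (hρS q2) ha1A ha1V
    rw [inv_eq_of_mul_eq_one_right hs1s] at hb hbV
    set d := a1 * (s1 * a1 * s1) with hd
    have hdV : d ∈ V := h.mul_mem_V ha1A ha1V hb hbV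
    obtain ⟨n, hn⟩ := h3
    have hcd : cY = (q1 * q2) ^ n := Subtype.ext (by
      rw [SubgroupClass.coe_zpow]; exact hn.symm)
    have h4 := congrArg ρ hcd
    rw [hρid cY (h.AS (h.VA h.cV)), map_zpow, map_mul] at h4
    change c = (a1 * s1) ^ n at h4
    have hsq : (a1 * s1) ^ (2 : ℤ) = d := by
      rw [zpow_two, hd, show a1 * s1 * (a1 * s1) = a1 * (s1 * a1 * s1) by group]
    have hpow : ∀ m : ℤ, d ^ m = 1 ∨ d ^ m = d := fun m => by
      have hd2 : d ^ (2 : ℤ) = 1 := by rw [zpow_two]; exact h.sqA (h.VA hdV)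
      rcases Int.even_or_odd m with ⟨r, rfl⟩ | ⟨r, rfl⟩
      · left; rw [← two_mul, zpow_mul, hd2, one_zpow]
      · right; rw [zpow_add, zpow_mul, hd2, one_zpow, one_mul, zpow_one]
    have hdc : d = c := by
      rcases Int.even_or_odd n with ⟨m, rfl⟩ | ⟨m, rfl⟩
      · rw [← two_mul, zpow_mul, hsq] at h4
        rcases hpow m with e | e <;> rw [e] at h4
        · exact absurd h4 h.c1
        · exact h4.symm
      · exfalso
        rw [zpow_add, zpow_mul, hsq, zpow_one] at h4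
        refine hs1A ?_
        rw [show s1 = a1⁻¹ * ((d ^ m)⁻¹ * c) by rw [h4]; group]
        exact mul_mem (inv_mem ha1A) (mul_mem (inv_mem (zpow_mem (h.VA hdV) m)) (h.VA h.cV))
    have hcomm : s1 * a1 * s1 = a1 * c := by
      rw [← hdc, hd, ← mul_assoc, h.sqA ha1A, one_mul]
    obtain ⟨t, ht, hta⟩ := h.orb a ha haV a1 ha1A ha1V
    refine ⟨⟨k1 * t, mul_mem hk1 (h.S_le_cent h.cV ht), ?_⟩, ?_⟩
    · rw [show k1 * t * a * (k1 * t)⁻¹ = k1 * (t * a * t⁻¹) * k1⁻¹ by group, hta]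
      exact hk1e
    · rcases h.eq_s_or (hρS q2) hs1s ha1A ha1V hcomm hs1c with e | e
      · exact ⟨k2, hk2, by rw [← e]; exact hk2e⟩
      · refine ⟨k2 * a, mul_mem hk2 (h.A_le_cent (h.VA h.cV) ha), ?_⟩
        rw [show q.2 = k2 * (s * c) * k2⁻¹ by rw [← e]; exact hk2e.symm,
          show k2 * a * s * (k2 * a)⁻¹ = k2 * (a * s * a⁻¹) * k2⁻¹ by group, h.invA ha,
          show a * s * a = a * (s * a * s) * s⁻¹ by group, h.comm a ha haV, ← mul_assoc a a c,
          h.sqA ha, one_mul, Involution.inv_of_orderOf h.s2, h.sv h.cV]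
  · rintro ⟨⟨y1, hy1, e1⟩, ⟨y2, hy2, e2⟩⟩
    refine ⟨isConj_iff.mpr ⟨y1, e1⟩, isConj_iff.mpr ⟨y2, e2⟩, ?_⟩
    have m1 : q.1 ∈ Y := e1 ▸ mul_mem (mul_mem hy1 (h.A_le_cent (h.VA h.cV) ha)) (inv_mem hy1)
    have m2 : q.2 ∈ Y := e2 ▸ mul_mem (mul_mem hy2 (h.S_le_cent h.cV h.sS)) (inv_mem hy2)
    set aY : Y := ⟨a, h.A_le_cent (h.VA h.cV) ha⟩ with haY
    set sY : Y := ⟨s, h.S_le_cent h.cV h.sS⟩ with hsY
    have r1 : ρ ⟨q.1, m1⟩ = ρ ⟨y1, hy1⟩ * a * (ρ ⟨y1, hy1⟩)⁻¹ := by
      rw [show (⟨q.1, m1⟩ : Y) = ⟨y1, hy1⟩ * aY * ⟨y1, hy1⟩⁻¹ from Subtype.ext e1.symm, map_mul,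
        map_mul, map_inv, hρid aY (h.AS ha)]
    have r2 : ρ ⟨q.2, m2⟩ = ρ ⟨y2, hy2⟩ * s * (ρ ⟨y2, hy2⟩)⁻¹ := by
      rw [show (⟨q.2, m2⟩ : Y) = ⟨y2, hy2⟩ * sY * ⟨y2, hy2⟩⁻¹ from Subtype.ext e2.symm, map_mul,
        map_mul, map_inv, hρid sY h.sS]
    set t := ρ ⟨y2, hy2⟩ with ht
    set b := t⁻¹ * ρ ⟨q.1, m1⟩ * t with hb
    have hbS : IsConj a b := by
      rw [hb, r1]
      exact isConj_iff.mpr ⟨t⁻¹ * ρ ⟨y1, hy1⟩, by group⟩
    obtain ⟨hbA, hbV⟩ := h.mem_out_of_isConj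
      (mul_mem (mul_mem (inv_mem (hρS _)) (hρS _)) (hρS _)) ha haV hbS
    have hsq : (b * s) * (b * s) = c := by
      rw [show b * s * (b * s) = b * (s * b * s) by group, h.comm b hbA hbV, ← mul_assoc,
        h.sqA hbA, one_mul]
    refine mem_zpowers_of_retract (h.nil c h.cV h.c1) ρ hρ (z := cY) (d := ⟨q.1, m1⟩ * ⟨q.2, m2⟩)
      hc2 ?_ (hρid cY (h.AS (h.VA h.cV))) (k := 2) ?_
    · exact (mem_centralizer_singleton_iff.mp (mul_mem m1 m2)).symm
    · rw [map_mul, r2, zpow_two]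
      show _ = c
      calc ρ ⟨q.1, m1⟩ * (t * s * t⁻¹) * (ρ ⟨q.1, m1⟩ * (t * s * t⁻¹))
          = t * (b * s * (b * s)) * t⁻¹ := by rw [hb]; group
        _ = c := by rw [hsq, h.vcentral t (hρS _) c h.cV, mul_inv_cancel_right]

/-! ### The count in `C(a)` -/

theorem mem_J {a : G} (ha : a ∈ A) (haV : a ∉ V) {i : G} :
    (∃ g ∈ centralizer ({a} : Set G), g * c * g⁻¹ = i) ↔ i * a = a * i ∧ IsConj c i := by
  constructor
  · rintro ⟨g, hg, rfl⟩
    exact ⟨mem_centralizer_singleton_iff.mp (mul_mem (mul_mem hg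
      (h.A_le_cent ha (h.VA h.cV))) (inv_mem hg)), isConj_iff.mpr ⟨g, rfl⟩⟩
  · rintro ⟨hia, hci⟩
    have hi2 : orderOf i = 2 := (orderOf_of_isConj hci).trans (h.ordA (h.VA h.cV) h.c1)
    obtain ⟨k, hk, hkA⟩ := h.conj_into_A ha haV hi2 hia
    have hV := h.mem_V_of_isConj (h.AS hkA) h.cV h.c1 (isConj_conj hci k)
    have h1 : k * i * k⁻¹ ≠ 1 := fun e => Involution.ne_one_of_orderOf hi2 (conj_eq_one_iff.mp e)
    obtain ⟨g, hg, hge⟩ := h.fus a ha haV c h.cV h.c1 _ hV h1
    refine ⟨k⁻¹ * g, mul_mem (inv_mem hk) hg, ?_⟩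
    rw [show k⁻¹ * g * c * (k⁻¹ * g)⁻¹ = k⁻¹ * (g * c * g⁻¹) * k by group, hge]
    group

theorem exists_inv_half {a i j : G} (ha : a ∈ A) (haV : a ∉ V) (hia : i * a = a * i)
    (hja : j * a = a * j) (hev : ¬ Odd (orderOf (i * j))) :
    ∃ m : ℕ, Odd m ∧ orderOf (i * j) = 2 * m := by
  obtain ⟨k, m, hm, hord⟩ := Nat.exists_eq_two_pow_mul_odd (orderOf_pos (i * j)).ne'
  have hC : ∀ {x : G}, x * a = a * x → x ∈ centralizer ({a} : Set G) := fun hx =>
    mem_centralizer_singleton_iff.mpr hx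
  have hmem : (i * j) ^ m ∈ centralizer ({a} : Set G) := pow_mem (mul_mem (hC hia) (hC hja)) m
  have hox : orderOf ((i * j) ^ m) = 2 ^ k := by
    rw [orderOf_pow' _ hm.pos.ne', hord, Nat.gcd_eq_right (Dvd.intro_left _ rfl),
      Nat.mul_div_cancel _ hm.pos]
  obtain ⟨R, hR, hRC, hAR, g, hg, hgR⟩ := exists_conj_mem_two (centralizer ({a} : Set G)) A
    (zpowers ((i * j) ^ m)) h.two_A (IsPGroup.of_card (n := k) (by rw [Nat.card_zpowers, hox]))
    (h.A_le_cent ha) (zpowers_le.mpr hmem)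
  have hA := h.maxA ha haV hR hRC hAR (hgR _ (mem_zpowers _))
  have h2 : orderOf ((i * j) ^ m) ∣ 2 := by
    rw [← orderOf_conj_eq g]
    exact orderOf_dvd_of_pow_eq_one (h.elem.2 _ hA)
  rw [hox] at h2
  refine ⟨m, hm, ?_⟩
  rcases k with _ | _ | k
  · rw [pow_zero, one_mul] at hord
    exact absurd (hord ▸ hm) hev
  · rw [hord, zero_add, pow_one]
  · exfalso
    have := Nat.le_of_dvd two_pos h2
    rw [pow_succ, pow_succ] at this
    have : 1 ≤ 2 ^ k := Nat.one_le_two_pow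
    omega

/-- The even pairs around `c` inside `C(a)`. -/
theorem card_E {a c2 : G} (ha : a ∈ A) (haV : a ∉ V) (hc2 : c2 ∈ V) (h21 : c2 ≠ 1) (h2c : c2 ≠ c)
    {μ : ℕ} (hμ : ocard ({c, a} : Set G) = μ * ocard ({c2, c, a} : Set G)) :
    Nat.card {q : G × G // (q.1 * a = a * q.1 ∧ IsConj c q.1) ∧ (q.2 * a = a * q.2 ∧ IsConj c q.2) ∧
      c ∈ zpowers (q.1 * q.2)} = 2 * μ ^ 2 := by
  set Y := centralizer ({c, a} : Set G) with hY
  have hYc : Y ≤ centralizer ({c} : Set G) := centralizer_le (by simp)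
  have hYa : Y ≤ centralizer ({a} : Set G) := centralizer_le (by simp)
  have hnil : Cfsg.HasNormalPComplement 2 Y := h.nil_sub h.cV h.c1 hYc
  have hAY : A ≤ Y := fun x hx =>
    mem_centralizer_pair.mpr ⟨h.commA hx (h.VA h.cV), h.commA hx ha⟩
  obtain ⟨ρ, hρA, hρ, hρid⟩ := exists_retract hnil h.two_A hAY
    (fun R hR hRC hAR => h.maxA ha haV hR (hRC.trans hYa) hAR)
  have hc : orderOf c = 2 := h.ordA (h.VA h.cV) h.c1
  set cY : Y := ⟨c, hAY (h.VA h.cV)⟩ with hcY
  set c3 := c * c2 with hc3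
  have h3V : c3 ∈ V := mul_mem h.cV hc2
  have h31 : c3 ≠ 1 := fun e => h2c (by
    have := eq_inv_of_mul_eq_one_right e
    rwa [h.invA (h.VA h.cV)] at this)
  let K : G → G → Prop := fun v i => ∃ y ∈ Y, y * v * y⁻¹ = i
  -- `ρ` on the classes
  have hρK : ∀ v ∈ A, ∀ i (hi : i ∈ Y), K v i → ρ ⟨i, hi⟩ = v := by
    rintro v hv i hi ⟨y, hy, rfl⟩
    rw [show (⟨y * v * y⁻¹, hi⟩ : Y) = ⟨y, hy⟩ * ⟨v, hAY hv⟩ * ⟨y, hy⟩⁻¹ from rfl, map_mul,
      map_mul, map_inv, hρid ⟨v, hAY hv⟩ hv, h.commA (hρA _) hv, mul_inv_cancel_right]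
  have hcount : ∀ v ∈ V, v ≠ 1 → v ≠ c → Nat.card {i : G // K v i} = μ := by
    intro v hv hv1 hvc
    have h1 := card_conj_mul Y (hAY (h.VA hv))
    have e : Y ⊓ centralizer ({v} : Set G) = centralizer ({c2, c, a} : Set G) := by
      ext g
      rw [Subgroup.mem_inf, hY, mem_centralizer_pair, mem_centralizer_singleton_iff,
        mem_centralizer_triple]
      rcases h.V_eq hc2 h21 h2c hv with rfl | rfl | rfl | rfl
      · exact absurd rfl hv1
      · exact absurd rfl hvc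
      · tauto
      · constructor
        · rintro ⟨⟨e1, e2⟩, e3⟩
          refine ⟨mul_left_cancel (a := c) ?_, e1, e2⟩
          calc c * (g * c2) = g * c * c2 := by rw [← mul_assoc, e1]
            _ = c * c2 * g := by rw [mul_assoc, e3]
            _ = c * (c2 * g) := mul_assoc _ _ _
        · rintro ⟨e3, e1, e2⟩
          exact ⟨⟨e1, e2⟩, by rw [← mul_assoc, e1, mul_assoc, e3, ← mul_assoc]⟩
    rw [e, hY, h.card_cent_ca ha haV, h.card_cent_c2ca ha haV hc2, hμ,
      show 8 * (μ * ocard ({c2, c, a} : Set G)) = μ * (8 * ocard ({c2, c, a} : Set G)) by ring] at h1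
    exact Nat.eq_of_mul_eq_mul_right (Nat.mul_pos (by norm_num) (ocard_pos _)) h1
  have hiff : ∀ q : G × G, ((q.1 * a = a * q.1 ∧ IsConj c q.1) ∧
      (q.2 * a = a * q.2 ∧ IsConj c q.2) ∧ c ∈ zpowers (q.1 * q.2)) ↔
      ((K c2 q.1 ∧ K c3 q.2) ∨ (K c3 q.1 ∧ K c2 q.2)) := by
    intro q
    constructor
    · rintro ⟨⟨a1, b1⟩, ⟨a2, b2⟩, hm⟩
      have o1 := (orderOf_of_isConj b1).trans hc
      have o2 := (orderOf_of_isConj b2).trans hc
      -- `c` commutes with both
      have hinv := Involution.inverts_mul (Involution.mul_self_of_orderOf o1)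
        (Involution.mul_self_of_orderOf o2)
      have hcq : c * (q.1 * q.2) = q.1 * q.2 * c := by
        obtain ⟨n, hn⟩ := hm
        rw [← hn]; exact (Commute.zpow_self _ n).eq
      have hcq1 : q.1 * c = c * q.1 := by
        obtain ⟨n, hn⟩ := hm
        have h2 : q.1 * c * q.1⁻¹ = c := by
          have h3 : q.1 * c * q.1⁻¹ = c⁻¹ := by
            rw [← hn, ← conj_zpow, hinv, inv_zpow]
          rw [h3, Involution.inv_of_orderOf hc]
        calc q.1 * c = q.1 * c * q.1⁻¹ * q.1 := by group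
          _ = c * q.1 := by rw [h2]
      have hcq2 : q.2 * c = c * q.2 := by
        refine mul_left_cancel (a := q.1) ?_
        calc q.1 * (q.2 * c) = c * (q.1 * q.2) := by rw [← mul_assoc, hcq]
          _ = q.1 * (c * q.2) := by rw [← mul_assoc, ← hcq1, mul_assoc]
      set q1 : Y := ⟨q.1, mem_centralizer_pair.mpr ⟨hcq1, a1⟩⟩ with hq1
      set q2 : Y := ⟨q.2, mem_centralizer_pair.mpr ⟨hcq2, a2⟩⟩ with hq2
      obtain ⟨p1, k1, hk1, hk1e⟩ := retract_involution hnil hAY ρ hρA hρ (i := q1) o1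
      obtain ⟨p2, k2, hk2, hk2e⟩ := retract_involution hnil hAY ρ hρA hρ (i := q2) o2
      have v1 : ρ q1 ∈ V := h.mem_V_of_isConj (h.AS (hρA _)) h.cV h.c1
        (b1.trans (isConj_iff.mpr ⟨k1⁻¹, by
          rw [← show k1 * ρ q1 * k1⁻¹ = q.1 from hk1e]; group⟩))
      have v2 : ρ q2 ∈ V := h.mem_V_of_isConj (h.AS (hρA _)) h.cV h.c1
        (b2.trans (isConj_iff.mpr ⟨k2⁻¹, by
          rw [← show k2 * ρ q2 * k2⁻¹ = q.2 from hk2e]; group⟩))
      obtain ⟨n, hn⟩ := hm
      have h4 := congrArg ρ (show cY = (q1 * q2) ^ n from Subtype.ext (by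
        rw [SubgroupClass.coe_zpow]; exact hn.symm))
      rw [hρid cY (h.VA h.cV), map_zpow, map_mul] at h4
      change c = (ρ q1 * ρ q2) ^ n at h4
      have hd2 : (ρ q1 * ρ q2) ^ (2 : ℤ) = 1 := by
        rw [zpow_two]; exact h.sqA (mul_mem (hρA _) (hρA _))
      have hprod : ρ q1 * ρ q2 = c := by
        rcases Int.even_or_odd n with ⟨m, rfl⟩ | ⟨m, rfl⟩
        · rw [← two_mul, zpow_mul, hd2, one_zpow] at h4
          exact absurd h4 h.c1
        · rw [zpow_add, zpow_mul, hd2, one_zpow, one_mul, zpow_one] at h4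
          exact h4.symm
      have hne : ∀ {x : Y}, orderOf (ρ x) = 2 → ρ x ≠ 1 := fun e => Involution.ne_one_of_orderOf e
      have hq1c : ρ q1 ≠ c := fun e => hne p2 (by
        rw [e] at hprod; exact mul_eq_left.mp hprod)
      rcases h.V_eq hc2 h21 h2c v1 with e | e | e | e
      · exact absurd e (hne p1)
      · exact absurd e hq1c
      · refine Or.inl ⟨⟨k1, hk1, by first | (rw [hc3, ← e]; exact hk1e) | (rw [← e]; exact hk1e)⟩, ⟨k2, hk2, ?_⟩⟩
        have : ρ q2 = c3 := by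
          rw [hc3, ← hprod, e, mul_assoc, h.commA (hρA q2) (h.VA hc2), ← mul_assoc,
            h.sqA (h.VA hc2), one_mul]
        exact this ▸ hk2e
      · refine Or.inr ⟨⟨k1, hk1, by first | (rw [hc3, ← e]; exact hk1e) | (rw [← e]; exact hk1e)⟩, ⟨k2, hk2, ?_⟩⟩
        have : ρ q2 = c2 := by
          rw [e] at hprod
          refine mul_left_cancel (a := c * c2) ?_
          rw [hprod, mul_assoc, h.sqA (h.VA hc2), mul_one]
        exact this ▸ hk2e
    · intro hq
      have key : ∀ v ∈ V, v ≠ 1 → ∀ w ∈ V, w ≠ 1 → v * w = c →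
          ∀ i j, K v i → K w j → (i * a = a * i ∧ IsConj c i) ∧ (j * a = a * j ∧ IsConj c j) ∧
            c ∈ zpowers (i * j) := by
        rintro v hv hv1 w hw hw1 hvw i j ⟨y, hy, rfl⟩ ⟨y', hy', rfl⟩
        have mi : y * v * y⁻¹ ∈ Y := mul_mem (mul_mem hy (hAY (h.VA hv))) (inv_mem hy)
        have mj : y' * w * y'⁻¹ ∈ Y := mul_mem (mul_mem hy' (hAY (h.VA hw))) (inv_mem hy')
        refine ⟨⟨(mem_centralizer_pair.mp mi).2,
          (h.isConj_fus h.cV h.c1 hv hv1).trans (isConj_iff.mpr ⟨y, rfl⟩)⟩,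
          ⟨(mem_centralizer_pair.mp mj).2,
          (h.isConj_fus h.cV h.c1 hw hw1).trans (isConj_iff.mpr ⟨y', rfl⟩)⟩, ?_⟩
        refine mem_zpowers_of_retract hnil ρ hρ (z := cY) (d := ⟨_, mi⟩ * ⟨_, mj⟩) hc ?_
          (hρid cY (h.VA h.cV)) (k := 1) ?_
        · exact ((mem_centralizer_pair.mp (mul_mem mi mj)).1).symm
        · rw [zpow_one, map_mul, hρK v (h.VA hv) _ mi ⟨y, hy, rfl⟩,
            hρK w (h.VA hw) _ mj ⟨y', hy', rfl⟩, hvw]
      rcases hq with ⟨k1, k2⟩ | ⟨k1, k2⟩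
      · exact key c2 hc2 h21 c3 h3V h31 (by
          rw [hc3, ← mul_assoc, h.commA (h.VA hc2) (h.VA h.cV), mul_assoc, h.sqA (h.VA hc2),
            mul_one]) _ _ k1 k2
      · exact key c3 h3V h31 c2 hc2 h21 (by rw [hc3, mul_assoc, h.sqA (h.VA hc2), mul_one]) _ _
          k1 k2
  rw [Nat.card_congr (Equiv.subtypeEquivRight hiff)]
  classical
  have hdisj : Disjoint (fun q : G × G => K c2 q.1 ∧ K c3 q.2)
      (fun q : G × G => K c3 q.1 ∧ K c2 q.2) := by
    rw [Pi.disjoint_iff]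
    intro q
    rw [Prop.disjoint_iff]
    rintro ⟨⟨h1, -⟩, ⟨h2, -⟩⟩
    obtain ⟨y, hy, e⟩ := h1
    have hi : q.1 ∈ Y := e ▸ mul_mem (mul_mem hy (hAY (h.VA hc2))) (inv_mem hy)
    have := (hρK c2 (h.VA hc2) _ hi ⟨y, hy, e⟩).symm.trans (hρK c3 (h.VA h3V) _ hi h2)
    exact h.c1 (mul_eq_right.mp this.symm)
  rw [Nat.card_congr (subtypeOrEquiv _ _ hdisj), Nat.card_sum,
    Nat.card_congr Equiv.subtypeProdEquivProd, Nat.card_congr Equiv.subtypeProdEquivProd,
    Nat.card_prod, Nat.card_prod, hcount c2 hc2 h21 h2c,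
    hcount c3 h3V h31 (fun e => h21 (mul_eq_left.mp e))]
  ring

theorem pairs_ca {a : G} (ha : a ∈ A) (haV : a ∉ V) :
    Nat.card {q : G × G // IsConj c q.1 ∧ IsConj a q.2 ∧ a ∈ zpowers (q.1 * q.2)} =
      Nat.card {q : G × G // (q.1 * a = a * q.1 ∧ IsConj c q.1) ∧
        (q.2 * a = a * q.2 ∧ IsConj c q.2) ∧ Odd (orderOf (q.1 * q.2))} := by
  have hao := h.ordA ha (h.ne_one haV)
  have haa := h.sqA ha
  refine Nat.card_congr ((Equiv.prodCongr (Equiv.refl G) (Equiv.mulRight a)).subtypeEquiv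
    fun q => ?_)
  obtain ⟨i, v⟩ := q
  show _ ↔ (i * a = a * i ∧ IsConj c i) ∧ (v * a * a = a * (v * a) ∧ IsConj c (v * a)) ∧
    Odd (orderOf (i * (v * a)))
  constructor
  · rintro ⟨h1, h2, h3⟩
    have o1 := (orderOf_of_isConj h1).trans (h.ordA (h.VA h.cV) h.c1)
    have o2 := (orderOf_of_isConj h2).trans hao
    obtain ⟨l1, l2⟩ := linking o1 o2 (fun e => h.vnc c h.cV h.c1 a ha haV
      (h1.trans (e.trans h2.symm))) hao h3
    have hja : v * a * a = a * (v * a) := by rw [← mul_assoc, l2.eq]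
    obtain ⟨k, hk, hkA⟩ := h.conj_into_A ha haV o2 l2.eq.symm
    set b := k * v * k⁻¹ with hb
    obtain ⟨-, hbV⟩ := h.mem_out_of_isConj (h.AS hkA) ha haV (isConj_conj h2 k)
    have hconj : k * (v * a) * k⁻¹ = b * a := by
      rw [hb, show k * v * k⁻¹ * a = k * v * (k⁻¹ * a) by group,
        show k⁻¹ * a = a * k⁻¹ from mem_centralizer_singleton_iff.mp (inv_mem hk)]
      group
    have hba1 : b * a ≠ 1 := by
      intro e
      have hb' : b = a := by rw [eq_inv_of_mul_eq_one_left e, h.invA ha]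
      have hva : v = a := by
        calc v = k⁻¹ * b * k := by rw [hb]; group
          _ = k⁻¹ * (a * k) := by rw [hb', mul_assoc]
          _ = a := by rw [← mem_centralizer_singleton_iff.mp hk, inv_mul_cancel_left]
      rw [hva] at h3
      have hia2 : i * a * (i * a) = 1 := by
        rw [show i * a * (i * a) = i * (a * i) * a by group, l1.eq,
          show i * (i * a) * a = i * i * (a * a) by group, Involution.mul_self_of_orderOf o1, haa,
          one_mul]
      obtain ⟨n, hn⟩ := h3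
      rcases Int.even_or_odd n with ⟨m, rfl⟩ | ⟨m, rfl⟩
      · simp only at hn
        rw [← two_mul, zpow_mul, zpow_two, hia2, one_zpow] at hn
        exact h.ne_one haV hn.symm
      · simp only at hn
        rw [zpow_add, zpow_mul, zpow_two, hia2, one_zpow, one_mul, zpow_one] at hn
        exact Involution.ne_one_of_orderOf o1 (mul_eq_right.mp hn)
    have hcva : IsConj c (v * a) :=
      (h.isConj_fus h.cV h.c1 (h.mul_mem_V hkA hbV ha haV) hba1).trans
        (isConj_iff.mpr ⟨k⁻¹, by rw [← hconj]; group⟩)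
    refine ⟨⟨l1.eq.symm, h1⟩, ⟨hja, hcva⟩, ?_⟩
    by_contra hev
    obtain ⟨m, hm, hord⟩ := h.exists_inv_half ha haV l1.eq.symm hja hev
    have he : i * v = i * (v * a) * a := by
      rw [mul_assoc, mul_assoc v, haa, mul_one]
    have hcomm : Commute (i * (v * a)) a := by
      refine Commute.mul_left l1.symm ?_
      exact hja
    set t := (i * (v * a)) ^ m with ht
    have hto : orderOf t = 2 := by
      rw [ht, orderOf_pow' _ hm.pos.ne', hord, Nat.gcd_eq_right (Dvd.intro_left _ rfl),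
        Nat.mul_div_cancel _ hm.pos]
    obtain ⟨q, hq⟩ := hm
    have hta : (i * v) ^ m = t * a := by
      rw [he, hcomm.mul_pow, ← ht, hq, pow_succ, pow_mul, sq, haa, one_pow, one_mul]
    have hca : Commute t a := hcomm.pow_left m
    have hta2 : (t * a) * (t * a) = 1 := by
      rw [mul_assoc, ← mul_assoc a t, ← hca.eq, mul_assoc t a, haa, mul_one,
        Involution.mul_self_of_orderOf hto]
    by_cases hta1 : t * a = 1
    · -- then `(i v)^m = 1` while `a` has order two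
      obtain ⟨n, hn⟩ := h3
      simp only at hn
      have h5 : a ^ m = 1 := by
        rw [← hn, ← zpow_natCast, ← zpow_mul, mul_comm, zpow_mul, zpow_natCast, hta, hta1,
          one_zpow]
      rw [hq, pow_succ, pow_mul, sq, haa, one_pow, one_mul] at h5
      exact h.ne_one haV h5
    · have hu := S1875.unique_inv (i * v) (t * a) a (hta ▸ npow_mem_zpowers _ _) h3
        ((Involution.orderOf_eq_two_iff').mpr ⟨hta2, hta1⟩) hao
      exact Involution.ne_one_of_orderOf hto (mul_eq_right.mp hu)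
  · rintro ⟨⟨h1a, h1⟩, ⟨h2a, h2⟩, hodd⟩
    have hva : v * a = a * v := by
      refine mul_right_cancel (b := a) ?_
      rw [h2a, mul_assoc]
    have hj2 : orderOf (v * a) = 2 := (orderOf_of_isConj h2).trans (h.ordA (h.VA h.cV) h.c1)
    obtain ⟨k, hk, hkA⟩ := h.conj_into_A ha haV hj2 h2a
    have hkV := h.mem_V_of_isConj (h.AS hkA) h.cV h.c1 (isConj_conj h2 k)
    have hcv : IsConj a v := by
      have hkv : k * v * k⁻¹ = k * (v * a) * k⁻¹ * a := by
        calc k * v * k⁻¹ = k * (v * a * a) * k⁻¹ := by rw [mul_assoc v, haa, mul_one]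
          _ = k * (v * a) * (a * k⁻¹) := by group
          _ = k * (v * a) * (k⁻¹ * a) := by
              rw [← mem_centralizer_singleton_iff.mp (inv_mem hk)]
          _ = k * (v * a) * k⁻¹ * a := by group
      refine (h.isConj_orb ha haV (a' := k * v * k⁻¹) (by rw [hkv]; exact mul_mem hkA ha)
        (by
          rw [hkv]
          intro e
          have h8 := mul_mem (inv_mem hkV) e
          rw [inv_mul_cancel_left] at h8
          exact haV h8)).trans
        (isConj_iff.mpr ⟨k⁻¹, by group⟩)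
    refine ⟨h1, hcv, ?_⟩
    have he : i * v = i * (v * a) * a := by
      rw [mul_assoc, mul_assoc v, haa, mul_one]
    have hcomm : Commute (i * (v * a)) a := Commute.mul_left h1a h2a
    show a ∈ zpowers (i * v)
    refine ⟨(orderOf (i * (v * a)) : ℤ), ?_⟩
    simp only
    obtain ⟨q, hq⟩ := hodd
    rw [zpow_natCast, he, hcomm.mul_pow, pow_orderOf_eq_one, one_mul, hq, pow_succ, pow_mul, sq,
      haa, one_pow, one_mul]

theorem pairs_split {a c2 : G} (ha : a ∈ A) (haV : a ∉ V) (hc2 : c2 ∈ V) (h21 : c2 ≠ 1)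
    (h2c : c2 ≠ c) {μ : ℕ}
    (hμ : ocard ({c, a} : Set G) = μ * ocard ({c2, c, a} : Set G)) :
    Nat.card {q : G × G // (q.1 * a = a * q.1 ∧ IsConj c q.1) ∧
        (q.2 * a = a * q.2 ∧ IsConj c q.2) ∧ Odd (orderOf (q.1 * q.2))} +
      2 * μ ^ 2 * Nat.card {i : G // i * a = a * i ∧ IsConj c i} =
      Nat.card {i : G // i * a = a * i ∧ IsConj c i} ^ 2 := by
  classical
  let J : Type _ := {i : G // i * a = a * i ∧ IsConj c i}
  let E := {q : G × G // (q.1 * a = a * q.1 ∧ IsConj c q.1) ∧ (q.2 * a = a * q.2 ∧ IsConj c q.2) ∧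
    c ∈ zpowers (q.1 * q.2)}
  have hE : Nat.card E = 2 * μ ^ 2 := h.card_E ha haV hc2 h21 h2c hμ
  have hc : orderOf c = 2 := h.ordA (h.VA h.cV) h.c1
  choose g hgC hg using fun t : J => (h.mem_J ha haV).mpr t.2
  have hcj : ∀ {k i : G}, k ∈ centralizer ({a} : Set G) → i * a = a * i →
      (k * i * k⁻¹) * a = a * (k * i * k⁻¹) := fun hk hi =>
    mem_centralizer_singleton_iff.mp
      (mul_mem (mul_mem hk (mem_centralizer_singleton_iff.mpr hi)) (inv_mem hk))
  let odd : {q : G × G // (q.1 * a = a * q.1 ∧ IsConj c q.1) ∧ (q.2 * a = a * q.2 ∧ IsConj c q.2) ∧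
      Odd (orderOf (q.1 * q.2))} → J × J :=
    fun q => (⟨q.1.1, q.2.1⟩, ⟨q.1.2, q.2.2.1⟩)
  let even : J × E → J × J := fun p =>
    (⟨g p.1 * p.2.1.1 * (g p.1)⁻¹, hcj (hgC p.1) p.2.2.1.1, isConj_conj p.2.2.1.2 _⟩,
     ⟨g p.1 * p.2.1.2 * (g p.1)⁻¹, hcj (hgC p.1) p.2.2.2.1.1, isConj_conj p.2.2.2.1.2 _⟩)
  have heven : ∀ p : J × E, ¬ Odd (orderOf ((even p).1.1 * (even p).2.1)) := by
    rintro ⟨t, ⟨⟨i, j⟩, hi, hj, hm⟩⟩ hodd
    have hm' := conj_pair_mem (k := g t) hm
    rw [hg] at hm'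
    have h2 : (2 : ℕ) ∣ orderOf (g t * i * (g t)⁻¹ * (g t * j * (g t)⁻¹)) := by
      have h3 := orderOf_dvd_natCard (⟨t.1, hm'⟩ : zpowers _)
      rw [Nat.card_zpowers, Subgroup.orderOf_mk, (orderOf_of_isConj t.2.2).trans hc] at h3
      exact h3
    exact Nat.not_even_iff_odd.mpr hodd (even_iff_two_dvd.mpr h2)
  have hbij : Function.Bijective (Sum.elim odd even) := by
    constructor
    · rintro (⟨⟨i, j⟩, hq⟩ | ⟨t, ⟨⟨i, j⟩, hi, hj, hm⟩⟩) (⟨⟨i', j'⟩, hq'⟩ | ⟨t', ⟨⟨i', j'⟩, hi', hj', hm'⟩⟩) he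
      · have e1 : i = i' := congrArg (fun p : J × J => p.1.1) he
        have e2 : j = j' := congrArg (fun p : J × J => p.2.1) he
        subst e1 e2; rfl
      · exact absurd (show Odd (orderOf ((odd ⟨(i, j), hq⟩).1.1 * (odd ⟨(i, j), hq⟩).2.1))
          from hq.2.2) (by rw [show odd ⟨(i, j), hq⟩ = _ from he]; exact heven _)
      · exact absurd (show Odd (orderOf ((odd ⟨(i', j'), hq'⟩).1.1 * (odd ⟨(i', j'), hq'⟩).2.1))
          from hq'.2.2) (by rw [show odd ⟨(i', j'), hq'⟩ = _ from he.symm]; exact heven _)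
      · have e1 : g t * i * (g t)⁻¹ = g t' * i' * (g t')⁻¹ :=
          congrArg (fun p : J × J => p.1.1) he
        have e2 : g t * j * (g t)⁻¹ = g t' * j' * (g t')⁻¹ :=
          congrArg (fun p : J × J => p.2.1) he
        have m1 := conj_pair_mem (k := g t) hm
        have m2 := conj_pair_mem (k := g t') hm'
        rw [hg, e1, e2] at m1
        rw [hg] at m2
        obtain rfl : t = t' := Subtype.ext (S1875.unique_inv _ _ _ m1 m2
          ((orderOf_of_isConj t.2.2).trans hc) ((orderOf_of_isConj t'.2.2).trans hc))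
        obtain rfl : i = i' := mul_left_cancel (mul_right_cancel e1)
        obtain rfl : j = j' := mul_left_cancel (mul_right_cancel e2)
        rfl
    · rintro ⟨⟨i, hia, hci⟩, ⟨j, hja, hcj'⟩⟩
      by_cases hodd : Odd (orderOf (i * j))
      · exact ⟨Sum.inl ⟨(i, j), ⟨hia, hci⟩, ⟨hja, hcj'⟩, hodd⟩, rfl⟩
      obtain ⟨m, hm, hord⟩ := h.exists_inv_half ha haV hia hja hodd
      have hi2 := Involution.mul_self_of_orderOf ((orderOf_of_isConj hci).trans hc)
      have hj2 := Involution.mul_self_of_orderOf ((orderOf_of_isConj hcj').trans hc)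
      have hev : Even (orderOf (i * j)) := hord ▸ even_two_mul m
      set t := (i * j) ^ m with ht
      have hmm : orderOf (i * j) / 2 = m := by rw [hord, Nat.mul_div_cancel_left m two_pos]
      have hto : orderOf t = 2 := by
        rw [ht, orderOf_pow' _ hm.pos.ne', hord, Nat.gcd_eq_right (Dvd.intro_left _ rfl),
          Nat.mul_div_cancel _ hm.pos]
      have hta : t * a = a * t := (((Commute.mul_left hia hja : Commute (i * j) a)).pow_left m).eq
      have hti : t * i = i * t := by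
        have h5 := Involution.commute_pow_half_left hi2 hj2 hev
        rw [hmm] at h5
        first | exact h5.eq | exact h5.symm.eq
      -- `t` is conjugate to `c`: move `i` and `t` into `A`
      have hct : IsConj c t := by
        set F : Subgroup G := closure ({t, i} : Set G) with hF
        have hF2 : IsPGroup 2 F := Involution.isPGroup_closure_pair_of_commute
          (Involution.mul_self_of_orderOf hto) hi2 hti
        have hFC : F ≤ centralizer ({a} : Set G) := (closure_le _).mpr (by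
          rintro x (rfl | rfl)
          · exact mem_centralizer_singleton_iff.mpr hta
          · exact mem_centralizer_singleton_iff.mpr hia)
        obtain ⟨R, hR, hRC, hAR, k, hk, hkR⟩ := exists_conj_mem_two _ A F h.two_A hF2
          (h.A_le_cent ha) hFC
        have hRA := h.maxA ha haV hR hRC hAR
        have hi' := hRA (hkR i (subset_closure (by simp)))
        have ht' := hRA (hkR t (subset_closure (by simp)))
        have hiV := h.mem_V_of_isConj (h.AS hi') h.cV h.c1 (isConj_conj hci k)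
        -- `i t` is conjugate to `i` or to `j`
        have hit : IsConj c (i * t) := by
          have h6 : ∀ n : ℤ, IsConj i ((i * j) ^ n * i * ((i * j) ^ n)⁻¹) := fun n =>
            isConj_iff.mpr ⟨_, rfl⟩
          obtain ⟨q, hq⟩ := hm
          -- `i (i j)^(2q+1)` is conjugate to `j`
          have h7 : i * t = (i * j) ^ (-(q : ℤ)) * j * ((i * j) ^ (-(q : ℤ)))⁻¹ := by
            have e := Involution.zpow_mul_left hi2 hj2 (-(q : ℤ))
            rw [neg_neg] at e
            calc i * t = i * (i * j) ^ (q : ℤ) * ((i * j) * (i * j) ^ (q : ℤ)) := by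
                  rw [ht, hq, mul_assoc, ← zpow_one_add, ← zpow_add, ← zpow_natCast]
                  congr 2; push_cast; ring
              _ = (i * j) ^ (-(q : ℤ)) * (i * i) * j * (i * j) ^ (q : ℤ) := by
                  rw [← e]; simp only [mul_assoc]
              _ = _ := by rw [hi2, mul_one, zpow_neg, inv_inv]
          rw [h7]
          exact hcj'.trans (isConj_iff.mpr ⟨_, rfl⟩)
        have hkit : k * (i * t) * k⁻¹ = k * i * k⁻¹ * (k * t * k⁻¹) := by group
        have hitV : k * i * k⁻¹ * (k * t * k⁻¹) ∈ V :=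
          h.mem_V_of_isConj (h.AS (mul_mem hi' ht')) h.cV h.c1 (hkit ▸ isConj_conj hit k)
        have htV : k * t * k⁻¹ ∈ V := by
          have h8 := mul_mem (inv_mem hiV) hitV
          rwa [inv_mul_cancel_left] at h8
        exact (h.isConj_fus h.cV h.c1 htV
          (fun e => Involution.ne_one_of_orderOf hto (conj_eq_one_iff.mp e))).trans
          (isConj_iff.mpr ⟨k⁻¹, by group⟩)
      set tJ : J := ⟨t, hta, hct⟩ with htJ
      have hgi := inv_mem (hgC tJ)
      refine ⟨Sum.inr (tJ, ⟨((g tJ)⁻¹ * i * g tJ, (g tJ)⁻¹ * j * g tJ), ⟨?_, ?_⟩, ⟨?_, ?_⟩, ?_⟩), ?_⟩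
      · simpa using hcj hgi hia
      · simpa using isConj_conj hci (g tJ)⁻¹
      · simpa using hcj hgi hja
      · simpa using isConj_conj hcj' (g tJ)⁻¹
      · have := conj_pair_mem (k := (g tJ)⁻¹) (show t ∈ zpowers (i * j) from npow_mem_zpowers _ m)
        rw [inv_inv] at this
        rwa [show (g tJ)⁻¹ * t * g tJ = c by
          rw [← show g tJ * c * (g tJ)⁻¹ = t from hg tJ]; group] at this
      · refine Prod.ext (Subtype.ext ?_) (Subtype.ext ?_) <;>
          (show g tJ * ((g tJ)⁻¹ * _ * g tJ) * (g tJ)⁻¹ = _; group)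
  have := Nat.card_eq_of_bijective _ hbij
  rw [Nat.card_sum, Nat.card_prod, Nat.card_prod, hE] at this
  refine Eq.trans ?_ (sq _).symm
  show _ + 2 * μ ^ 2 * Nat.card J = Nat.card J * Nat.card J
  rw [← this]
  ring

/-- `|C(a) : C(a) ∩ C(c)| = 3 μ²`. -/
theorem card_cent_out {a c2 : G} (ha : a ∈ A) (haV : a ∉ V) (hc2 : c2 ∈ V) (h21 : c2 ≠ 1)
    (h2c : c2 ≠ c) (μ : ℕ) (hμ : ocard ({c, a} : Set G) = μ * ocard ({c2, c, a} : Set G)) :
    Nat.card (centralizer ({a} : Set G)) = 3 * μ ^ 2 * Nat.card (centralizer ({c, a} : Set G)) := by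
  have hc := h.ordA (h.VA h.cV) h.c1
  have hao := h.ordA ha (h.ne_one haV)
  have E1 := card_class_mul_class hc hao hao (h.vnc c h.cV h.c1 a ha haV)
    (fun u' v' w' h1 h2 h3 h4 => h.hall_ca ha haV h1 h2 h3 h4)
  have E2 := card_class_mul_class hao h.s2 hc (fun e => h.s_not_conj ha e.symm)
    (fun u' v' w' h1 h2 h3 h4 => h.hall_as ha haV h1 h2 h3 h4)
  rw [h.pairs_ca ha haV] at E1
  rw [h.pairs_as ha haV] at E2
  have hna := card_conj_mul (centralizer ({c} : Set G)) (h.A_le_cent (h.VA h.cV) ha)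
  have hns := card_conj_mul (centralizer ({c} : Set G)) (h.S_le_cent h.cV h.sS)
  have hJ := card_conj_mul (centralizer ({a} : Set G)) (h.A_le_cent ha (h.VA h.cV))
  rw [Nat.card_congr (Equiv.subtypeEquivRight fun i => h.mem_J ha haV),
    inf_comm, ← centralizer_pair] at hJ
  rw [← centralizer_pair] at hna hns
  have hcls_c := Involution.card_isConj_mul_card_centralizer c
  have hcls_a := Involution.card_isConj_mul_card_centralizer a
  have hcls_s := Involution.card_isConj_mul_card_centralizer s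
  have hsplit := h.pairs_split ha haV hc2 h21 h2c hμ
  have hW := h.W_eq ha haV hc2 h21 h2c μ hμ
  rw [h.card_cent_ca ha haV, h.card_cent_V h.cV h.c1] at hna
  rw [h.card_cent_cs, h.card_cent_V h.cV h.c1] at hns
  rw [h.card_cent_ca ha haV] at hJ ⊢
  rw [h.card_cent_V h.cV h.c1] at hcls_c
  rw [h.card_cent_s, hW] at hcls_s
  rw [← hJ] at hcls_a ⊢
  have pcls : 0 < Nat.card {x : G // IsConj a x} :=
    Nat.card_pos_iff.mpr ⟨⟨⟨a, IsConj.refl a⟩⟩, inferInstance⟩
  have pI : 0 < Nat.card {i : G // i * a = a * i ∧ IsConj c i} :=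
    Nat.card_pos_iff.mpr ⟨⟨⟨c, h.commA (h.VA h.cV) ha, IsConj.refl c⟩⟩, inferInstance⟩
  set ncc := Nat.card {x : G // IsConj c x}
  set nca := Nat.card {x : G // IsConj a x}
  set ncs := Nat.card {x : G // IsConj s x}
  set r := Nat.card {q : G × G // (q.1 * a = a * q.1 ∧ IsConj c q.1) ∧
    (q.2 * a = a * q.2 ∧ IsConj c q.2) ∧ Odd (orderOf (q.1 * q.2))}
  set na := Nat.card {i : G // ∃ y ∈ centralizer ({c} : Set G), y * a * y⁻¹ = i}
  set ns := Nat.card {i : G // ∃ y ∈ centralizer ({c} : Set G), y * s * y⁻¹ = i}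
  set I := Nat.card {i : G // i * a = a * i ∧ IsConj c i}
  set γ := ocard ({c} : Set G)
  set σ1 := ocard ({c, s} : Set G)
  set p := ocard ({c, a} : Set G)
  set N := Nat.card G
  have hrc : ncc = r := Nat.eq_of_mul_eq_mul_left pcls (by rw [← E1, mul_comm])
  have pσ : 0 < σ1 := ocard_pos _
  have pp : 0 < p := ocard_pos _
  have pN : 0 < N := Nat.card_pos
  have key : N * N * (8 * p * (16 * σ1)) = N * N * (8 * p * (16 * σ1)) := rfl
  have h1 : N * N * (8 * p) * (16 * σ1) =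
      r * (32 * γ) ^ 2 * (I * (8 * p)) * (16 * (μ ^ 2 * σ1)) := by
    calc N * N * (8 * p) * (16 * σ1)
        = (nca * (I * (8 * p))) * (ncs * (16 * (μ ^ 2 * σ1))) * (8 * p) * (16 * σ1) := by
          rw [hcls_a, hcls_s]
      _ = (nca * ncs) * (I * (8 * p)) * (16 * (μ ^ 2 * σ1)) * (8 * p) * (16 * σ1) := by ring
      _ = ncc * (na * (8 * p)) * (ns * (16 * σ1)) * (I * (8 * p)) * (16 * (μ ^ 2 * σ1)) := by
          rw [E2]; ring
      _ = r * (32 * γ) ^ 2 * (I * (8 * p)) * (16 * (μ ^ 2 * σ1)) := by rw [hna, hns, hrc]; ring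
  rw [← hcls_c, hrc] at h1
  have hr : r = I * μ ^ 2 := by
    have pγ : 0 < γ := ocard_pos _
    have pr : 0 < r := by
      rcases Nat.eq_zero_or_pos r with e | e
      · rw [← hcls_c, hrc, e, zero_mul] at pN; exact absurd pN (lt_irrefl 0)
      · exact e
    have h2 : r * (r * (32 * γ) ^ 2 * (8 * p) * (16 * σ1)) =
        (I * μ ^ 2) * (r * (32 * γ) ^ 2 * (8 * p) * (16 * σ1)) := by
      calc r * (r * (32 * γ) ^ 2 * (8 * p) * (16 * σ1))
          = r * (32 * γ) * (r * (32 * γ)) * (8 * p) * (16 * σ1) := by ring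
        _ = r * (32 * γ) ^ 2 * (I * (8 * p)) * (16 * (μ ^ 2 * σ1)) := h1
        _ = (I * μ ^ 2) * (r * (32 * γ) ^ 2 * (8 * p) * (16 * σ1)) := by ring
    exact Nat.eq_of_mul_eq_mul_right (by positivity) h2
  have hI : I = 3 * μ ^ 2 := by
    refine Nat.eq_of_mul_eq_mul_left pI ?_
    rw [hr] at hsplit
    rw [← sq, ← hsplit]
    ring
  rw [hI]

end Setting

end Cfsg.Agent.StrClosed41
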