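import Cfsg.Agent.StrClosed41.Core
import Cfsg.Agent.SmallCent88.OddAct
import Cfsg.Agent.Lib.Involution.Counting
import Cfsg.Agent.Lib.Transfer.Focal
import Cfsg.Agent.S1875

/-!
# Normal 2-complements in centralizers: counting tools

Odd parts of centralizers, the four-group order formula for them, the Thompson pair count with a
single class of linking involutions, an index-two transfer for strongly closed subgroups, and
closure properties of `Good`.
-/

set_option autoImplicit false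

namespace Cfsg.Agent.StrClosed41

open Subgroup

variable {G : Type*} [Group G]

/-- The elements of odd order of a subgroup with a normal 2-complement, as a subgroup. -/
def oddPart (C : Subgroup G) : Subgroup G := (Cfsg.pResidual 2 ↥C).map C.subtype

/-- The number of elements of odd order centralizing a set. -/
noncomputable def ocard (s : Set G) : ℕ :=
  Nat.card {g : G // g ∈ centralizer s ∧ Odd (orderOf g)}

theorem centralizer_insert' (a : G) (s : Set G) :
    centralizer (insert a s) = centralizer ({a} : Set G) ⊓ centralizer s := by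
  ext g
  simp [mem_centralizer_iff]

theorem mem_centralizer_conj {s : Set G} (k g : G) :
    k * g * k⁻¹ ∈ centralizer ((fun y => k * y * k⁻¹) '' s) ↔ g ∈ centralizer s := by
  simp only [mem_centralizer_iff, Set.forall_mem_image]
  refine forall_congr' fun v => forall_congr' fun _ => ?_
  rw [← MulAut.conj_apply, ← MulAut.conj_apply, ← map_mul, ← map_mul]
  exact (MulAut.conj k).injective.eq_iff

/-- Odd parts of centralizers of conjugate sets have the same order. -/
theorem ocard_conj (k : G) (s : Set G) : ocard ((fun y => k * y * k⁻¹) '' s) = ocard s := by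
  refine (Nat.card_congr ((MulAut.conj k).toEquiv.subtypeEquiv fun g => ?_)).symm
  refine and_congr (mem_centralizer_conj k g).symm ?_
  rw [MulEquiv.toEquiv_eq_coe, EquivLike.coe_coe, MulEquiv.orderOf_eq]

section Finite

variable [Finite G]

variable {C : Subgroup G} (hC : Cfsg.HasNormalPComplement 2 C)

theorem oddPart_le (C : Subgroup G) : oddPart C ≤ C := map_subtype_le _

include hC

theorem mem_oddPart {g : G} : g ∈ oddPart C ↔ g ∈ C ∧ Odd (orderOf g) := by
  haveI : Fact (Nat.Prime 2) := ⟨Nat.prime_two⟩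
  constructor
  · rintro ⟨y, hy, rfl⟩
    refine ⟨y.2, ?_⟩
    rw [Subgroup.coe_subtype, orderOf_coe]
    exact Nat.coprime_two_right.mp ((Transfer.mem_pResidual_iff_coprime hC).mp hy)
  · rintro ⟨hg, ho⟩
    exact ⟨⟨g, hg⟩, (Transfer.mem_pResidual_iff_coprime hC).mpr
      (by rw [Subgroup.orderOf_mk]; exact Nat.coprime_two_right.mpr ho), rfl⟩

theorem odd_oddPart : Odd (Nat.card (oddPart C)) := by
  haveI : Fact (Nat.Prime 2) := ⟨Nat.prime_two⟩
  rw [oddPart, card_map_of_injective C.subtype_injective, ← Nat.not_even_iff_odd, even_iff_two_dvd]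
  exact Transfer.hasNormalPComplement_iff_not_dvd.mp hC

theorem conj_mem_oddPart {g x : G} (hg : g ∈ normalizer (C : Set G)) (hx : x ∈ oddPart C) :
    g * x * g⁻¹ ∈ oddPart C := by
  obtain ⟨h1, h2⟩ := (mem_oddPart hC).mp hx
  refine (mem_oddPart hC).mpr ⟨(mem_normalizer_iff.mp hg x).mp h1, ?_⟩
  rwa [← MulAut.conj_apply, MulEquiv.orderOf_eq]

theorem card_oddPart_centralizer {s : Set G} (h : C = centralizer s) :
    Nat.card (oddPart C) = ocard s :=
  Nat.card_congr (Equiv.subtypeEquivRight fun g => by rw [mem_oddPart hC, h])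

theorem eq_one_of_two_oddPart {T : Subgroup G} (hT : IsPGroup 2 T) {x : G} (hxT : x ∈ T)
    (hxU : x ∈ oddPart C) : x = 1 :=
  eq_one_of_mem_two_odd hT (odd_oddPart hC) hxT hxU

/-- A largest 2-subgroup of `C` is a complement of the odd part. -/
theorem exists_mul_oddPart {T : Subgroup G} (hT : IsPGroup 2 T) (hTC : T ≤ C)
    (hmax : ∀ R : Subgroup G, IsPGroup 2 R → R ≤ C → T ≤ R → R ≤ T) {g : G} (hg : g ∈ C) :
    ∃ u ∈ oddPart C, ∃ t ∈ T, g = u * t := by
  haveI : Fact (Nat.Prime 2) := ⟨Nat.prime_two⟩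
  obtain ⟨P, hP⟩ := (hT.comap_subtype : IsPGroup 2 (T.subgroupOf C)).exists_le_sylow
  have hPT : (P : Subgroup C).map C.subtype ≤ T := hmax _ (P.isPGroup'.map _) (map_subtype_le _)
    (fun t ht => ⟨⟨t, hTC ht⟩, hP (mem_subgroupOf.mpr ht), rfl⟩)
  obtain ⟨⟨⟨u, hu⟩, ⟨t, ht⟩⟩, he⟩ := (Transfer.isComplement'_pResidual hC P).2 ⟨g, hg⟩
  exact ⟨u, ⟨u, hu, rfl⟩, t, hPT ⟨t, ht, rfl⟩, (congrArg Subtype.val he).symm⟩

theorem card_eq_mul_oddPart {T : Subgroup G} (hT : IsPGroup 2 T) (hTC : T ≤ C)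
    (hmax : ∀ R : Subgroup G, IsPGroup 2 R → R ≤ C → T ≤ R → R ≤ T) :
    Nat.card C = Nat.card (oddPart C) * Nat.card T := by
  rw [← Nat.card_prod]
  refine (Nat.card_eq_of_bijective (fun p : oddPart C × T =>
    (⟨(p.1 : G) * p.2, mul_mem (oddPart_le C p.1.2) (hTC p.2.2)⟩ : C)) ⟨?_, ?_⟩).symm
  · rintro ⟨⟨u, hu⟩, ⟨t, ht⟩⟩ ⟨⟨u', hu'⟩, ⟨t', ht'⟩⟩ he
    have he' : u * t = u' * t' := congrArg Subtype.val he
    have h1 : u'⁻¹ * u = t' * t⁻¹ := by
      rw [eq_mul_inv_iff_mul_eq, mul_assoc, he', inv_mul_cancel_left]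
    have h2 := eq_one_of_two_oddPart hC hT (mul_mem ht' (inv_mem ht))
      (h1 ▸ mul_mem (inv_mem hu') hu)
    obtain rfl : t' = t := mul_inv_eq_one.mp h2
    obtain rfl : u = u' := mul_right_cancel he'
    rfl
  · rintro ⟨g, hg⟩
    obtain ⟨u, hu, t, ht, rfl⟩ := exists_mul_oddPart hC hT hTC hmax hg
    exact ⟨(⟨u, hu⟩, ⟨t, ht⟩), rfl⟩

/-- The centralizer in `C` of an element of the complement. -/
theorem exists_mul_centralizer {T : Subgroup G} (hT : IsPGroup 2 T) (hTC : T ≤ C)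
    (hmax : ∀ R : Subgroup G, IsPGroup 2 R → R ≤ C → T ≤ R → R ≤ T) {t g : G} (ht : t ∈ T)
    (hg : g ∈ C) (hgt : g * t = t * g) :
    ∃ u ∈ oddPart C, ∃ r ∈ T, g = u * r ∧ u * t = t * u ∧ r * t = t * r := by
  obtain ⟨u, hu, r, hr, rfl⟩ := exists_mul_oddPart hC hT hTC hmax hg
  have h1 : r * t * r⁻¹ * t⁻¹ = u⁻¹ * (t * u * t⁻¹) := by
    calc r * t * r⁻¹ * t⁻¹ = u⁻¹ * (u * r * t) * r⁻¹ * t⁻¹ := by group
      _ = u⁻¹ * (t * (u * r)) * r⁻¹ * t⁻¹ := by rw [hgt]
      _ = u⁻¹ * (t * u * t⁻¹) := by group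
  have h2 : r * t * r⁻¹ * t⁻¹ = 1 := by
    refine eq_one_of_two_oddPart hC hT (mul_mem (mul_mem (mul_mem hr ht) (inv_mem hr)) (inv_mem ht)) ?_
    rw [h1]
    exact mul_mem (inv_mem hu) (conj_mem_oddPart hC (le_normalizer (hTC ht)) hu)
  refine ⟨u, hu, r, hr, rfl, ?_, mul_inv_eq_iff_eq_mul.mp (mul_inv_eq_one.mp h2)⟩
  rw [h1] at h2
  exact (mul_inv_eq_iff_eq_mul.mp (inv_mul_eq_one.mp h2).symm).symm

end Finite

/-- Two involutions congruent modulo an odd subgroup are conjugate by it. -/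
theorem exists_conj_of_mul_mem [Finite G] {U : Subgroup G} (hU : Odd (Nat.card U)) {i j : G}
    (hi : orderOf i = 2) (hj : orderOf j = 2) (h : i * j ∈ U) :
    ∃ k ∈ U, k * i * k⁻¹ = j := by
  obtain ⟨k, hk⟩ := Involution.exists_conj_of_odd (Involution.mul_self_of_orderOf hi)
    (Involution.mul_self_of_orderOf hj) (hU.of_dvd_nat (U.orderOf_dvd_natCard h))
  exact ⟨_, zpow_mem h k, hk⟩

/-- An involution congruent to a power of `d` modulo an odd subgroup, and commuting with `d`,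
is a power of `d`. -/
theorem mem_zpowers_of_congr [Finite G] {U : Subgroup G} (hU : Odd (Nat.card U)) {z d : G}
    (hz : orderOf z = 2) (hzd : Commute z d) {k : ℤ} (h : z * d ^ k ∈ U) : z ∈ zpowers d := by
  set m := Nat.card U with hm
  have h1 : (z * d ^ k) ^ m = 1 := congrArg Subtype.val (pow_card_eq_one' (G := U) (x := ⟨_, h⟩))
  rw [(hzd.zpow_right k).mul_pow] at h1
  obtain ⟨q, hq⟩ := hU
  have h2 : z ^ m = z := by
    rw [hq, pow_succ, pow_mul, sq, Involution.mul_self_of_orderOf hz, one_pow, one_mul]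
  rw [h2] at h1
  have h3 : z = (d ^ k) ^ m := by
    rw [← Involution.inv_of_orderOf hz]; exact inv_eq_of_mul_eq_one_right h1
  rw [h3, ← zpow_natCast, ← zpow_mul]
  exact ⟨k * m, rfl⟩

theorem card_fixIn_oddPart [Finite G] {s : Set G}
    (hC : Cfsg.HasNormalPComplement 2 ↥(centralizer s)) (t : G) :
    Nat.card (SmallCent88.fixIn (oddPart (centralizer s)) t) = ocard (insert t s) := by
  refine Nat.card_congr (Equiv.subtypeEquivRight fun g => ?_)
  rw [SmallCent88.fixIn, Subgroup.mem_inf, mem_oddPart hC, centralizer_insert', Subgroup.mem_inf]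
  tauto

/-- The Brauer–Wielandt formula in the odd part of a centralizer. -/
theorem four_formula [Finite G] {s : Set G} (hC : Cfsg.HasNormalPComplement 2 ↥(centralizer s))
    {t τ : G} (ht : t ∈ centralizer s) (hτ : τ ∈ centralizer s) (ht2 : t * t = 1)
    (hτ2 : τ * τ = 1) (hc : t * τ = τ * t) :
    ocard s * ocard (insert τ (insert t s)) ^ 2 =
      ocard (insert t s) * ocard (insert τ s) * ocard (insert (t * τ) s) := by
  have hodd : ∀ x ∈ oddPart (centralizer s), Odd (orderOf x) := fun x hx =>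
    ((mem_oddPart hC).mp hx).2
  have hinv : ∀ k ∈ centralizer s, k * k = 1 →
      SmallCent88.OddInv (oddPart (centralizer s)) k := fun k hk hk2 =>
    ⟨hodd, hk2, fun x hx => by
      have := conj_mem_oddPart hC (le_normalizer hk) hx
      rwa [inv_eq_of_mul_eq_one_right hk2] at this⟩
  have h := (hinv t ht ht2).card_formula (hinv τ hτ hτ2) hc
  rw [card_fixIn_oddPart hC, card_fixIn_oddPart hC, card_fixIn_oddPart hC,
    card_oddPart_centralizer hC rfl] at h
  rw [← h]
  congr 2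
  refine Nat.card_congr (Equiv.subtypeEquivRight fun g => ?_)
  rw [SmallCent88.mem_fixIn, SmallCent88.mem_fixIn, mem_oddPart hC, centralizer_insert' τ,
    centralizer_insert' t, Subgroup.mem_inf, Subgroup.mem_inf, mem_centralizer_singleton_iff,
    mem_centralizer_singleton_iff]
  tauto

/-- The size of a class inside a subgroup. -/
theorem card_conj_mul [Finite G] (Y : Subgroup G) {t : G} (ht : t ∈ Y) :
    Nat.card {i : G // ∃ y ∈ Y, y * t * y⁻¹ = i} *
      Nat.card ↥(Y ⊓ centralizer ({t} : Set G)) = Nat.card Y := by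
  have h := Involution.card_isConj_mul_card_centralizer (⟨t, ht⟩ : Y)
  have h1 : Nat.card {y : Y // IsConj (⟨t, ht⟩ : Y) y} =
      Nat.card {i : G // ∃ y ∈ Y, y * t * y⁻¹ = i} := by
    refine Nat.card_eq_of_bijective (fun y => ⟨y.1.1, ?_⟩) ⟨?_, ?_⟩
    · obtain ⟨k, hk⟩ := isConj_iff.mp y.2
      exact ⟨k, k.2, congrArg Subtype.val hk⟩
    · intro a b hab
      have h1 : (a.1.1 : G) = b.1.1 := by simpa using hab
      exact Subtype.ext (Subtype.ext h1)
    · rintro ⟨i, y, hy, rfl⟩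
      exact ⟨⟨⟨y * t * y⁻¹, mul_mem (mul_mem hy ht) (inv_mem hy)⟩,
        isConj_iff.mpr ⟨⟨y, hy⟩, rfl⟩⟩, rfl⟩
  have h2 : Nat.card (centralizer ({(⟨t, ht⟩ : Y)} : Set Y)) =
      Nat.card ↥(Y ⊓ centralizer ({t} : Set G)) := by
    refine Nat.card_eq_of_bijective (fun g => ⟨g.1.1, Subgroup.mem_inf.mpr ⟨g.1.2,
      mem_centralizer_singleton_iff.mpr (congrArg Subtype.val
        (mem_centralizer_singleton_iff.mp g.2))⟩⟩) ⟨?_, ?_⟩
    · intro a b hab
      simp only [Subtype.mk.injEq] at hab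
      exact Subtype.ext (Subtype.ext hab)
    · rintro ⟨g, hg⟩
      obtain ⟨hgY, hgt⟩ := Subgroup.mem_inf.mp hg
      exact ⟨⟨⟨g, hgY⟩, mem_centralizer_singleton_iff.mpr
        (Subtype.ext (mem_centralizer_singleton_iff.mp hgt))⟩, rfl⟩
  rwa [h1, h2] at h

/-- The pair count when all linking involutions are conjugate to `w`. -/
theorem card_class_mul_class [Finite G] {u v w : G} (hu : orderOf u = 2) (hv : orderOf v = 2)
    (hw : orderOf w = 2) (huv : ¬ IsConj u v)
    (hall : ∀ u' v' w', IsConj u u' → IsConj v v' → orderOf w' = 2 →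
      w' ∈ zpowers (u' * v') → IsConj w w') :
    Nat.card {x : G // IsConj u x} * Nat.card {x : G // IsConj v x} =
      Nat.card {x : G // IsConj w x} *
        Nat.card {q : G × G // IsConj u q.1 ∧ IsConj v q.2 ∧ w ∈ zpowers (q.1 * q.2)} := by
  classical
  have hord : ∀ {x y : G}, IsConj x y → orderOf x = 2 → orderOf y = 2 := by
    intro x y hxy hx
    obtain ⟨k, rfl⟩ := isConj_iff.mp hxy
    rwa [← MulAut.conj_apply, MulEquiv.orderOf_eq]
  have hcj : ∀ {x y : G}, IsConj x y → ∀ k, IsConj x (k * y * k⁻¹) := fun h k =>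
    h.trans (isConj_iff.mpr ⟨k, rfl⟩)
  have hz : ∀ (k a b c : G), c ∈ zpowers (a * b) →
      k * c * k⁻¹ ∈ zpowers (k * a * k⁻¹ * (k * b * k⁻¹)) := by
    rintro k a b c ⟨n, rfl⟩
    exact ⟨n, by simp only; rw [show k * a * k⁻¹ * (k * b * k⁻¹) = k * (a * b) * k⁻¹ by group,
      conj_zpow]⟩
  choose g hg using fun x : {x : G // IsConj w x} => isConj_iff.mp x.2
  rw [← Nat.card_prod, ← Nat.card_prod]
  refine (Nat.card_eq_of_bijective (fun p : {x : G // IsConj w x} ×
      {q : G × G // IsConj u q.1 ∧ IsConj v q.2 ∧ w ∈ zpowers (q.1 * q.2)} =>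
    ((⟨g p.1 * p.2.1.1 * (g p.1)⁻¹, hcj p.2.2.1 _⟩,
      ⟨g p.1 * p.2.1.2 * (g p.1)⁻¹, hcj p.2.2.2.1 _⟩) :
      {x : G // IsConj u x} × {x : G // IsConj v x})) ⟨?_, ?_⟩).symm
  · rintro ⟨t, ⟨⟨a, b⟩, ha, hb, hab⟩⟩ ⟨t', ⟨⟨a', b'⟩, ha', hb', hab'⟩⟩ he
    obtain ⟨e1, e2⟩ := Prod.mk.injEq .. ▸ he
    have e1' : g t * a * (g t)⁻¹ = g t' * a' * (g t')⁻¹ := congrArg Subtype.val e1
    have e2' : g t * b * (g t)⁻¹ = g t' * b' * (g t')⁻¹ := congrArg Subtype.val e2
    have m1 := hz (g t) a b w hab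
    have m2 := hz (g t') a' b' w hab'
    rw [hg, e1', e2'] at m1
    rw [hg] at m2
    obtain rfl : t = t' :=
      Subtype.ext (S1875.unique_inv _ _ _ m1 m2 (hord t.2 hw) (hord t'.2 hw))
    obtain rfl : a = a' := mul_left_cancel (mul_right_cancel e1')
    obtain rfl : b = b' := mul_left_cancel (mul_right_cancel e2')
    rfl
  · rintro ⟨⟨x, hx⟩, ⟨y, hy⟩⟩
    obtain ⟨c, hc2, -, -, hcm⟩ := Involution.exists_commuting_involution (hord hx hu) (hord hy hv)
      (fun h => huv (hx.trans (h.trans hy.symm)))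
    have hwc := hall x y c hx hy hc2 hcm
    set k := g ⟨c, hwc⟩ with hk
    refine ⟨(⟨c, hwc⟩, ⟨(k⁻¹ * x * k, k⁻¹ * y * k), ?_, ?_, ?_⟩), ?_⟩
    · simpa using hcj hx k⁻¹
    · simpa using hcj hy k⁻¹
    · have := hz k⁻¹ x y c hcm
      rw [inv_inv] at this
      rwa [show k⁻¹ * c * k = w by
        have hc : k * w * k⁻¹ = c := hg ⟨c, hwc⟩
        rw [← hc]; group] at this
    · refine Prod.ext (Subtype.ext ?_) (Subtype.ext ?_) <;>
        (show k * (k⁻¹ * _ * k) * k⁻¹ = _; group)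

/-- Transfer: a strongly closed subgroup of index two is cut out by an index-two normal subgroup. -/
theorem exists_index_two [Finite G] (P : Sylow 2 G) (Q : Subgroup G)
    (hQ : Cfsg.IsStronglyClosed Q (P : Subgroup G)) (hQe : ∀ q ∈ Q, q * q = 1)
    (hQi : Q.relIndex (P : Subgroup G) = 2) {u : G} (hu : u * u = 1)
    (huP : u ∈ (P : Subgroup G)) (huQ : u ∉ Q) :
    ∃ M : Subgroup G, M.Normal ∧ M.index = 2 ∧ Q ≤ M ∧ u ∉ M := by
  classical
  haveI : Fact (Nat.Prime 2) := ⟨Nat.prime_two⟩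
  haveI := Fintype.ofFinite (G ⧸ Q)
  haveI := Fintype.ofFinite (G ⧸ (P : Subgroup G))
  let σ : G →* Equiv.Perm (G ⧸ Q) := MulAction.toPermHom G (G ⧸ Q)
  let σ' : G →* Equiv.Perm (G ⧸ (P : Subgroup G)) := MulAction.toPermHom G _
  let f : G →* ℤˣ := Equiv.Perm.sign.comp σ
  have hoddP : Odd (Fintype.card (G ⧸ (P : Subgroup G))) := by
    rw [← Nat.card_eq_fintype_card, ← index_eq_card]
    exact Nat.not_even_iff_odd.mp fun h => P.not_dvd_index (even_iff_two_dvd.mp h)
  have hcard : Fintype.card (G ⧸ Q) = 2 * Fintype.card (G ⧸ (P : Subgroup G)) := by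
    rw [← Nat.card_eq_fintype_card, ← Nat.card_eq_fintype_card, ← index_eq_card, ← index_eq_card,
      ← relIndex_mul_index hQ.1, hQi]
  have hsign : ∀ x : G, x * x = 1 → ∀ g : ℕ, Fintype.card (Function.fixedPoints (σ x)) = 2 * g →
      f x = (-1) ^ (Fintype.card (G ⧸ (P : Subgroup G)) - g) := by
    intro x hx g hfx
    have h2 : σ x ^ 2 = 1 := by rw [sq, ← map_mul, hx, map_one]
    show Equiv.Perm.sign (σ x) = _
    rw [Equiv.Perm.sign_of_pow_two_eq_one h2, hfx, hcard, ← Nat.mul_sub]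
    rw [Nat.mul_div_cancel_left _ two_pos]
  have hfu : f u = -1 := by
    rw [hsign u hu 0]
    · rw [Nat.sub_zero, hoddP.neg_one_pow]
    · rw [mul_zero, Fintype.card_eq_zero_iff]
      refine ⟨fun ⟨q, hq⟩ => ?_⟩
      induction q using QuotientGroup.induction_on with
      | H g =>
        have h1 : ((u * g : G) : G ⧸ Q) = (g : G ⧸ Q) := hq
        rw [eq_comm, QuotientGroup.eq] at h1
        have h1' : g⁻¹ * u * g ∈ Q := by rwa [mul_assoc]
        have h2 := hQ.2 _ h1' g (by rwa [show g * (g⁻¹ * u * g) * g⁻¹ = u by group])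
        rw [show g * (g⁻¹ * u * g) * g⁻¹ = u by group] at h2
        exact huQ h2
  have hfQ : Q ≤ f.ker := by
    intro a ha
    have h2 : Q.relIndex (P : Subgroup G) = Nat.card ((P : Subgroup G) ⧸ Q.subgroupOf P) :=
      index_eq_card _
    haveI := Fintype.ofFinite ((P : Subgroup G) ⧸ Q.subgroupOf P)
    let e := Subgroup.quotientEquivProdOfLE hQ.1
    have he : ∀ g : G, (e (g : G ⧸ Q)).1 = (g : G ⧸ (P : Subgroup G)) := fun g => rfl
    have hiff : ∀ q : G ⧸ Q, σ a q = q ↔ σ' a (e q).1 = (e q).1 := by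
      intro q
      induction q using QuotientGroup.induction_on with
      | H g =>
        rw [he]
        show ((a * g : G) : G ⧸ Q) = g ↔ ((a * g : G) : G ⧸ (P : Subgroup G)) = g
        rw [eq_comm, QuotientGroup.eq, eq_comm (a := ((a * g : G) : G ⧸ (P : Subgroup G))),
          QuotientGroup.eq]
        refine ⟨fun h => hQ.1 h, fun h => ?_⟩
        have h3 := hQ.2 a ha g⁻¹ (by rwa [inv_inv, mul_assoc])
        rwa [inv_inv, mul_assoc] at h3
    have hfix : Fintype.card (Function.fixedPoints (σ a)) =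
        2 * Fintype.card (Function.fixedPoints (σ' a)) := by
      have h2' : Nat.card ((P : Subgroup G) ⧸ Q.subgroupOf P) = 2 := h2.symm.trans hQi
      rw [← Nat.card_eq_fintype_card, ← Nat.card_eq_fintype_card]
      calc Nat.card (Function.fixedPoints (σ a))
          = Nat.card (Function.fixedPoints (σ' a) × ((P : Subgroup G) ⧸ Q.subgroupOf P)) := ?_
        _ = 2 * Nat.card (Function.fixedPoints (σ' a)) := by rw [Nat.card_prod, h2', mul_comm]
      let e1 : Function.fixedPoints (σ a) ≃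
          {q : (G ⧸ (P : Subgroup G)) × ((P : Subgroup G) ⧸ Q.subgroupOf P) //
            σ' a q.1 = q.1} := e.subtypeEquiv fun q => hiff q
      exact Nat.card_congr (e1.trans (Equiv.prodSubtypeFstEquivSubtypeProd
        (p := fun q : G ⧸ (P : Subgroup G) => σ' a q = q)))
    rw [MonoidHom.mem_ker, hsign a (hQe a ha) _ hfix]
    refine Even.neg_one_pow ?_
    have hmod : Fintype.card (G ⧸ (P : Subgroup G)) ≡
        Fintype.card (Function.fixedPoints (σ' a)) [MOD 2] :=
      Equiv.Perm.card_fixedPoints_modEq (p := 2) (n := 1) (f := (σ' a : G ⧸ (P : Subgroup G) → _))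
        (by
          funext q
          show σ' a (σ' a q) = q
          rw [← Equiv.Perm.mul_apply, ← map_mul, hQe a ha, map_one, Equiv.Perm.one_apply])
    rw [Nat.even_sub (set_fintype_card_le_univ _), Nat.even_iff, Nat.even_iff, hmod]
  refine ⟨f.ker, inferInstance, ?_, hfQ, fun h => ?_⟩
  · rw [Subgroup.index_ker, MonoidHom.range_eq_top.mpr, Subgroup.card_top]
    · rw [Nat.card_eq_fintype_card, Fintype.card_units_int]
    · intro z
      rcases Int.units_eq_one_or z with rfl | rfl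
      · exact ⟨1, map_one f⟩
      · exact ⟨u, hfu⟩
  · rw [MonoidHom.mem_ker, hfu] at h
    exact absurd h (by decide)

end Cfsg.Agent.StrClosed41
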