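import Cfsg.Agent.StrClosed41.Basic16
import Cfsg.Agent.Lib.Involution.KleinSylow
import Mathlib.GroupTheory.Perm.Cycle.Type

/-!
# `A ≅ 2⁴` with at least three involution classes: the orbits of lengths 5 and 10
-/

set_option autoImplicit false

namespace Cfsg.Agent.StrClosed41

open Subgroup

local notation "A5" => (alternatingGroup (Fin 5))

variable {G : Type*} [Group G]

/-- The stabilizer of `a` in `A₅`. -/
def stabOf {A : Subgroup G} (q : ↥(normalizer (A : Set G)) →* A5) (a : G) : Subgroup A5 :=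
  ((centralizer ({a} : Set G)).subgroupOf (normalizer (A : Set G))).map q

/-- The `N(A)`-orbit of `a`. -/
def orbN (A : Subgroup G) (a : G) : Set G := {i | ∃ n ∈ normalizer (A : Set G), n * a * n⁻¹ = i}

/-- The configuration together with a point `z` fixed by `R`, and three classes. -/
structure Pointed (A : Subgroup G) (q : ↥(normalizer (A : Set G)) →* A5) (R : Sylow 2 G) (z : G) :
    Prop where
  sixteen : Sixteen A q R
  classes : ∀ u v : G, ∃ g : G, orderOf g = 2 ∧ ¬ IsConj g u ∧ ¬ IsConj g v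
  zA : z ∈ A
  z1 : z ≠ 1
  zfix : ∀ t ∈ (R : Subgroup G), t * z = z * t

variable [Finite G] {A : Subgroup G} {q : ↥(normalizer (A : Set G)) →* A5} {R : Sylow 2 G}

theorem mem_orbN_self (a : G) : a ∈ orbN A a := ⟨1, one_mem _, by group⟩

theorem orbN_conj {a i : G} (h : i ∈ orbN A a) {n : G} (hn : n ∈ normalizer (A : Set G)) :
    n * i * n⁻¹ ∈ orbN A a := by
  obtain ⟨m, hm, rfl⟩ := h
  exact ⟨n * m, mul_mem hn hm, by group⟩

theorem orbN_symm {a i : G} (h : i ∈ orbN A a) : a ∈ orbN A i := by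
  obtain ⟨m, hm, rfl⟩ := h
  exact ⟨m⁻¹, inv_mem hm, by group⟩

theorem orbN_trans {a i j : G} (h : i ∈ orbN A a) (h' : j ∈ orbN A i) : j ∈ orbN A a := by
  obtain ⟨m, hm, rfl⟩ := h'
  exact orbN_conj h hm

theorem isConj_of_orbN {a i : G} (h : i ∈ orbN A a) : IsConj a i := by
  obtain ⟨m, -, rfl⟩ := h
  exact isConj_iff.mpr ⟨m, rfl⟩

namespace Sixteen

variable (hs : Sixteen A q R)

include hs

theorem exists_outside : ∃ t, t ∈ (R : Subgroup G) ∧ t ∉ A := by
  by_contra h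
  push Not at h
  have := Subgroup.card_le_of_le (show (R : Subgroup G) ≤ A from h)
  rw [hs.card_R, hs.card_A] at this
  omega

theorem exists_other {t : G} (ht : t ∈ (R : Subgroup G)) :
    ∃ u, ∃ hu : u ∈ (R : Subgroup G), u ∉ A ∧ q ⟨u, hs.RN hu⟩ ≠ q ⟨t, hs.RN ht⟩ := by
  classical
  by_contra h
  push Not at h
  haveI := Fintype.ofFinite (q.comp (inclusion hs.RN)).range
  have hsub : (Finset.univ : Finset (q.comp (inclusion hs.RN)).range).map
      ⟨Subtype.val, Subtype.val_injective⟩ ⊆ {1, q ⟨t, hs.RN ht⟩} := by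
    intro e he
    obtain ⟨⟨y, hy⟩, -, rfl⟩ := Finset.mem_map.mp he
    obtain ⟨u, hu, rfl⟩ := hs.mem_range.mp hy
    rcases Classical.em (u ∈ A) with huA | huA
    · simp [hs.q_of_A (n := ⟨u, hs.RN hu⟩) huA]
    · simp [h u hu huA]
  have h2 := (Finset.card_le_card hsub).trans Finset.card_le_two
  rw [Finset.card_map, Finset.card_univ, ← Nat.card_eq_fintype_card, hs.card_range] at h2
  omega

theorem range_elems {t u : G} (ht : t ∈ (R : Subgroup G)) (htA : t ∉ A)
    (hu : u ∈ (R : Subgroup G)) (huA : u ∉ A) (hne : q ⟨u, hs.RN hu⟩ ≠ q ⟨t, hs.RN ht⟩)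
    {e : A5} (he : e ∈ (q.comp (inclusion hs.RN)).range) :
    e = 1 ∨ e = q ⟨t, hs.RN ht⟩ ∨ e = q ⟨u, hs.RN hu⟩ ∨
      e = q ⟨t, hs.RN ht⟩ * q ⟨u, hs.RN hu⟩ :=
  four_elems hs.card_range (hs.mem_range.mpr ⟨t, ht, rfl⟩) (hs.mem_range.mpr ⟨u, hu, rfl⟩)
    (fun e => htA (hs.qR_one ht e)) (fun e => huA (hs.qR_one hu e)) hne.symm (hs.q_sq ht) he

theorem range_le_stab {a : G} (ha : a ∈ A) {t u : G} (ht : t ∈ (R : Subgroup G)) (htA : t ∉ A)
    (hu : u ∈ (R : Subgroup G)) (huA : u ∉ A) (hne : q ⟨u, hs.RN hu⟩ ≠ q ⟨t, hs.RN ht⟩)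
    (h1 : t * a * t⁻¹ = a) (h2 : u * a * u⁻¹ = a) :
    (q.comp (inclusion hs.RN)).range ≤ stabOf q a := by
  intro e he
  have e1 : q ⟨t, hs.RN ht⟩ ∈ stabOf q a := (hs.mem_stab ha).mpr h1
  have e2 : q ⟨u, hs.RN hu⟩ ∈ stabOf q a := (hs.mem_stab ha).mpr h2
  rcases hs.range_elems ht htA hu huA hne he with rfl | rfl | rfl | rfl
  · exact one_mem _
  · exact e1
  · exact e2
  · exact mul_mem e1 e2

theorem fixed_of_range_le {a : G} (ha : a ∈ A)
    (h : (q.comp (inclusion hs.RN)).range ≤ stabOf q a) {t : G} (ht : t ∈ (R : Subgroup G)) :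
    t * a = a * t :=
  mul_inv_eq_iff_eq_mul.mp
    ((hs.mem_stab (n := ⟨t, hs.RN ht⟩) ha).mp (h (hs.mem_range.mpr ⟨t, ht, rfl⟩)))

/-- A point fixed by `R`. -/
theorem exists_fixed : ∃ z ∈ A, z ≠ 1 ∧ ∀ t ∈ (R : Subgroup G), t * z = z * t := by
  haveI : Fact (Nat.Prime 2) := ⟨Nat.prime_two⟩
  obtain ⟨t, ht, htA⟩ := hs.exists_outside
  obtain ⟨u, hu, huA, hne⟩ := hs.exists_other ht
  set C := A ⊓ centralizer ({t} : Set G) with hC
  set tn : ↥(normalizer (A : Set G)) := ⟨t, hs.RN ht⟩ with htn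
  set un : ↥(normalizer (A : Set G)) := ⟨u, hs.RN hu⟩ with hun
  have hmem : ∀ v ∈ C, u * v * u⁻¹ ∈ C := by
    intro v hv
    obtain ⟨hvA, hvt⟩ := Subgroup.mem_inf.mp hv
    refine Subgroup.mem_inf.mpr ⟨hs.conjA un hvA, mem_centralizer_singleton_iff.mpr ?_⟩
    have h1 := hs.act_eq (m := tn * un) (n := un * tn) (by
      rw [map_mul, map_mul]
      exact hs.range_comm (hs.mem_range.mpr ⟨t, ht, rfl⟩) (hs.mem_range.mpr ⟨u, hu, rfl⟩)) hvA
    simp only [Subgroup.coe_mul] at h1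
    have h2 : t * (u * v * u⁻¹) * t⁻¹ = u * v * u⁻¹ := by
      calc t * (u * v * u⁻¹) * t⁻¹ = t * u * v * (t * u)⁻¹ := by group
        _ = u * t * v * (u * t)⁻¹ := h1
        _ = u * (t * v * t⁻¹) * u⁻¹ := by group
        _ = u * v * u⁻¹ := by
          rw [← mem_centralizer_singleton_iff.mp hvt, mul_inv_cancel_right]
    exact (mul_inv_eq_iff_eq_mul.mp h2).symm
  have hinv : ∀ v ∈ C, u * (u * v * u⁻¹) * u⁻¹ = v := by
    intro v hv
    have h1 := hs.act_eq (m := un * un) (n := 1) (by rw [map_mul, map_one]; exact hs.q_sq hu)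
      (Subgroup.mem_inf.mp hv).1
    simp only [Subgroup.coe_mul, Subgroup.coe_one, one_mul, inv_one, mul_one] at h1
    exact (show u * (u * v * u⁻¹) * u⁻¹ = u * u * v * (u * u)⁻¹ by group).trans h1
  let f : C ≃ C :=
    { toFun := fun v => ⟨u * v * u⁻¹, hmem v v.2⟩
      invFun := fun v => ⟨u * v * u⁻¹, hmem v v.2⟩
      left_inv := fun v => Subtype.ext (hinv v v.2)
      right_inv := fun v => Subtype.ext (hinv v v.2) }
  have h := card_fixed_modEq f 2 fun v => Subtype.ext (hinv v v.2)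
  rw [show Nat.card C = 4 from hs.card_fix_t ht htA] at h
  obtain ⟨⟨v, hv⟩, hv1⟩ : ∃ v : {v : C // f v = v}, (v.1 : G) ≠ 1 := by
    by_contra hall
    push Not at hall
    have h1 : Nat.card {v : C // f v = v} = 1 := by
      refine Nat.card_eq_one_iff_unique.mpr ⟨⟨fun a b => Subtype.ext (Subtype.ext ?_)⟩, ⟨⟨1, ?_⟩⟩⟩
      · rw [hall a, hall b]
      · exact Subtype.ext (show u * 1 * u⁻¹ = 1 by group)
    rw [h1] at h
    simp [Nat.ModEq] at h
  obtain ⟨hvA, hvt⟩ := Subgroup.mem_inf.mp v.2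
  refine ⟨(v : G), hvA, hv1, fun r hr => hs.fixed_of_range_le hvA
    (hs.range_le_stab hvA ht htA hu huA hne ?_ (congrArg Subtype.val hv)) hr⟩
  rw [← mem_centralizer_singleton_iff.mp hvt, mul_inv_cancel_right]

theorem ncard_nonone : ((A : Set G) \ {1}).ncard = 15 := by
  rw [Set.ncard_diff_singleton_of_mem (one_mem A)]
  rw [show (A : Set G).ncard = 16 by rw [← Nat.card_coe_set_eq]; exact hs.card_A]

theorem orbN_subset {a : G} (ha : a ∈ A) (ha1 : a ≠ 1) : orbN A a ⊆ (A : Set G) \ {1} := by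
  rintro _ ⟨n, hn, rfl⟩
  exact ⟨(mem_normalizer_iff.mp hn a).mp ha, fun e => ha1 (conj_eq_one_iff.mp e)⟩

theorem ncard_orbN {a : G} (ha : a ∈ A) :
    (orbN A a).ncard * Nat.card (stabOf q a) = 60 := by
  rw [← Nat.card_coe_set_eq]
  show Nat.card {i : G // ∃ n ∈ normalizer (A : Set G), n * a * n⁻¹ = i} * _ = 60
  rw [hs.card_orbit ha, mul_comm]
  exact (stabOf q a).card_mul_index.trans a5_card

theorem not_five_stab {a : G} (ha : a ∈ A) (ha1 : a ≠ 1) : ¬ 5 ∣ Nat.card (stabOf q a) := by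
  intro hd
  haveI : Fact (Nat.Prime 5) := ⟨by norm_num⟩
  obtain ⟨e, he⟩ := exists_prime_orderOf_dvd_card' 5 hd
  obtain ⟨n, hn, hne⟩ := e.2
  have ho : orderOf (q n) = 5 := by rw [hne, orderOf_coe, he]
  have hbot := hs.five_fix (n := n) (by have h' := pow_orderOf_eq_one (q n); rwa [ho] at h')
    (fun e1 => by rw [e1, orderOf_one] at ho; omega)
  have hmem : a ∈ A ⊓ centralizer ({(n : G)} : Set G) := Subgroup.mem_inf.mpr
    ⟨ha, mem_centralizer_singleton_iff.mpr
      (mem_centralizer_singleton_iff.mp (mem_subgroupOf.mp hn)).symm⟩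
  rw [hbot, Subgroup.mem_bot] at hmem
  exact ha1 hmem

theorem cover_outside : ∃ s : G, ∀ g ∈ (R : Subgroup G), g ∉ A → orderOf g = 2 → IsConj s g := by
  by_cases h : ∃ s, s ∈ (R : Subgroup G) ∧ s ∉ A ∧ orderOf s = 2
  · obtain ⟨s, hs', hsA, hs2⟩ := h
    exact ⟨s, fun g hg hgA hg2 => hs.conj_outside hs' hsA hs2 hg hgA hg2⟩
  · exact ⟨1, fun g hg hgA hg2 => absurd ⟨g, hg, hgA, hg2⟩ h⟩

/-- A fixed point of `R` has a stabilizer of order 12. -/
theorem stab12 (hcl : ∀ u v : G, ∃ g : G, orderOf g = 2 ∧ ¬ IsConj g u ∧ ¬ IsConj g v)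
    {a : G} (ha : a ∈ A) (ha1 : a ≠ 1) (hfix : ∀ t ∈ (R : Subgroup G), t * a = a * t) :
    Nat.card (stabOf q a) = 12 := by
  have h4 : 4 ∣ Nat.card (stabOf q a) := by
    rw [← hs.card_range]
    refine card_dvd_of_le fun e he => ?_
    obtain ⟨t, ht, rfl⟩ := hs.mem_range.mp he
    exact (hs.mem_stab ha).mpr (mul_inv_eq_iff_eq_mul.mpr (hfix t ht))
  have h5 := hs.not_five_stab ha ha1
  have h60 := hs.ncard_orbN ha
  have hd : Nat.card (stabOf q a) ∣ 60 := Dvd.intro_left _ h60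
  have hne4 : Nat.card (stabOf q a) ≠ 4 := by
    intro e
    rw [e] at h60
    have heq : orbN A a = (A : Set G) \ {1} :=
      Set.eq_of_subset_of_ncard_le (hs.orbN_subset ha ha1) (by rw [hs.ncard_nonone]; omega)
    obtain ⟨s, hcov⟩ := hs.cover_outside
    obtain ⟨g, hg, hga, hgs⟩ := hcl a s
    obtain ⟨g', hg', hgc, hgo⟩ := Involution.exists_isConj_mem_sylow R hg
    by_cases hA' : g' ∈ A
    · have : g' ∈ orbN A a := by
        rw [heq]; exact ⟨hA', Involution.ne_one_of_orderOf hgo⟩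
      exact hga (hgc.trans (isConj_of_orbN this).symm)
    · exact hgs (hgc.trans (hcov g' hg' hA' hgo).symm)
  have hle := Nat.le_of_dvd (by norm_num) hd
  obtain ⟨k, hk⟩ := h4
  rw [hk] at hd h5 hne4 hle ⊢
  have hk15 : k ≤ 15 := by omega
  interval_cases k <;> first | omega | norm_num at hd h5

end Sixteen

namespace Pointed

variable {z : G} (hp : Pointed A q R z)

include hp

theorem range_le : (q.comp (inclusion hp.sixteen.RN)).range ≤ stabOf q z := by
  intro e he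
  obtain ⟨t, ht, rfl⟩ := hp.sixteen.mem_range.mp he
  exact (hp.sixteen.mem_stab hp.zA).mpr (mul_inv_eq_iff_eq_mul.mpr (hp.zfix t ht))

theorem stab_normal {a : G} (ha : a ∈ A) (ha12 : Nat.card (stabOf q a) = 12)
    (hle : (q.comp (inclusion hp.sixteen.RN)).range ≤ stabOf q a) {e w : A5}
    (he : e ∈ stabOf q a) (hw : w ∈ (q.comp (inclusion hp.sixteen.RN)).range) :
    e * w * e⁻¹ ∈ (q.comp (inclusion hp.sixteen.RN)).range := by
  set W := (q.comp (inclusion hp.sixteen.RN)).range with hW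
  let f : W × W → stabOf q a := fun p => ⟨(p.1 : A5) * (e * p.2 * e⁻¹),
    mul_mem (hle p.1.2) (mul_mem (mul_mem he (hle p.2.2)) (inv_mem he))⟩
  obtain ⟨⟨x, y⟩, ⟨x', y'⟩, hxy, hne⟩ : ∃ p p' : W × W, f p = f p' ∧ p ≠ p' := by
    by_contra hno
    push Not at hno
    have := Nat.card_le_card_of_injective f fun p p' hpp => hno p p' hpp
    rw [Nat.card_prod, hp.sixteen.card_range, ha12] at this
    omega
  have h1 : (x' : A5)⁻¹ * x = e * ((y' : A5) * (y : A5)⁻¹) * e⁻¹ := by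
    have h' : (x : A5) * (e * y * e⁻¹) = x' * (e * y' * e⁻¹) := congrArg Subtype.val hxy
    calc (x' : A5)⁻¹ * x = (x' : A5)⁻¹ * (x * (e * y * e⁻¹)) * (e * y * e⁻¹)⁻¹ := by group
      _ = _ := by rw [h']; group
  set v := (x' : A5)⁻¹ * x with hv
  have hvW : v ∈ W := mul_mem (inv_mem x'.2) x.2
  have hv1 : v ≠ 1 := by
    intro e1
    rw [e1] at h1
    have h2 : (y' : A5) * (y : A5)⁻¹ = 1 := conj_eq_one_iff.mp h1.symm
    exact hne (Prod.ext (Subtype.ext (inv_mul_eq_one.mp e1).symm)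
      (Subtype.ext (mul_inv_eq_one.mp h2).symm))
  obtain ⟨t, ht, hte⟩ := hp.sixteen.mem_range.mp hvW
  have htA : t ∉ A := fun h => hv1 (by rw [← hte]; exact hp.sixteen.q_of_A h)
  refine hp.sixteen.range_eq ht htA ?_
  rw [hte, h1]
  set u := (y' : A5) * (y : A5)⁻¹ with hu
  have hwu := hp.sixteen.range_comm hw (mul_mem y'.2 (inv_mem y.2))
  calc e * w * e⁻¹ * (e * u * e⁻¹) = e * (w * u) * e⁻¹ := by group
    _ = e * (u * w) * e⁻¹ := by rw [hwu]
    _ = e * u * e⁻¹ * (e * w * e⁻¹) := by group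

theorem stab12 : Nat.card (stabOf q z) = 12 :=
  hp.sixteen.stab12 hp.classes hp.zA hp.z1 hp.zfix

theorem invol_stab {e : A5} (he : e ∈ stabOf q z) (he2 : e * e = 1) :
    e ∈ (q.comp (inclusion hp.sixteen.RN)).range := by
  haveI : Fact (Nat.Prime 2) := ⟨Nat.prime_two⟩
  have hn : ∀ w ∈ (q.comp (inclusion hp.sixteen.RN)).range,
      e * w * e⁻¹ ∈ (q.comp (inclusion hp.sixteen.RN)).range := fun w hw =>
    hp.stab_normal hp.zA hp.stab12 hp.range_le he hw
  set W := (q.comp (inclusion hp.sixteen.RN)).range with hW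
  have hi : ∀ w : A5, e * (e * w * e⁻¹) * e⁻¹ = w := fun w => by
    rw [show e * (e * w * e⁻¹) * e⁻¹ = e * e * w * (e * e)⁻¹ by group, he2]; group
  let f : W ≃ W :=
    { toFun := fun w => ⟨e * w * e⁻¹, hn w w.2⟩
      invFun := fun w => ⟨e * w * e⁻¹, hn w w.2⟩
      left_inv := fun w => Subtype.ext (hi w)
      right_inv := fun w => Subtype.ext (hi w) }
  have h := card_fixed_modEq f 2 fun w => Subtype.ext (hi w)
  rw [hp.sixteen.card_range] at h
  obtain ⟨⟨⟨w, hw⟩, hfw⟩, hw1⟩ : ∃ w : {w : W // f w = w}, (w.1 : A5) ≠ 1 := by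
    by_contra hall
    push Not at hall
    have h1 : Nat.card {w : W // f w = w} = 1 := by
      refine Nat.card_eq_one_iff_unique.mpr ⟨⟨fun a b => Subtype.ext (Subtype.ext ?_)⟩, ⟨⟨1, ?_⟩⟩⟩
      · rw [hall a, hall b]
      · exact Subtype.ext (show e * 1 * e⁻¹ = 1 by group)
    rw [h1] at h
    simp [Nat.ModEq] at h
  obtain ⟨t, ht, rfl⟩ := hp.sixteen.mem_range.mp hw
  exact hp.sixteen.range_eq ht (fun hA' => hw1 (hp.sixteen.q_of_A hA'))
    (mul_inv_eq_iff_eq_mul.mp (congrArg Subtype.val hfw))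

theorem fixR {a : G} (ha : a ∈ A) (ha1 : a ≠ 1) (hfix : ∀ t ∈ (R : Subgroup G), t * a = a * t) :
    a = z := by
  by_contra hne
  have hs := hp.sixteen
  haveI : Fact (Nat.Prime 2) := ⟨Nat.prime_two⟩
  set W := (q.comp (inclusion hs.RN)).range with hW
  have hWa : W ≤ stabOf q a := by
    intro e he
    obtain ⟨t, ht, rfl⟩ := hs.mem_range.mp he
    exact (hs.mem_stab ha).mpr (mul_inv_eq_iff_eq_mul.mpr (hfix t ht))
  have h12a := hs.stab12 hp.classes ha ha1 hfix
  -- both stabilizers are the normalizer of `W`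
  set K := normalizer (W : Set A5) with hK
  have hzK : stabOf q z ≤ K := fun e he => mem_normalizer_of_maps fun w hw =>
    hp.stab_normal hp.zA hp.stab12 hp.range_le he hw
  have haK : stabOf q a ≤ K := fun e he => mem_normalizer_of_maps fun w hw =>
    hp.stab_normal ha h12a hWa he hw
  have hK12 : Nat.card K = 12 := by
    have h1 : 12 ∣ Nat.card K := hp.stab12 ▸ card_dvd_of_le hzK
    have h2 : Nat.card K ∣ 60 := a5_card ▸ Subgroup.card_subgroup_dvd_card K
    have h3 : Nat.card K ≠ 60 := by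
      intro e
      have htop : K = ⊤ := Subgroup.eq_top_of_card_eq K (by rw [e, a5_card])
      haveI : W.Normal := normalizer_eq_top_iff.mp htop
      haveI : IsSimpleGroup A5 := alternatingGroup.isSimpleGroup_five
      rcases (inferInstance : W.Normal).eq_bot_or_eq_top with e' | e'
      · have := hs.card_range
        rw [← hW, e', Subgroup.card_bot] at this
        omega
      · have := hs.card_range
        rw [← hW, e', Subgroup.card_top, a5_card] at this
        omega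
    obtain ⟨k, hk⟩ := h1
    have := Nat.le_of_dvd (by norm_num) h2
    rw [hk] at h2 h3 this ⊢
    have hk5 : k ≤ 5 := by omega
    interval_cases k <;> first | omega | norm_num at h2
  have heq : stabOf q z = stabOf q a :=
    (eq_of_le_of_card_ge hzK (by rw [hp.stab12, hK12])).trans
      (eq_of_le_of_card_ge haK (by rw [h12a, hK12])).symm
  haveI : Fact (Nat.Prime 3) := ⟨by norm_num⟩
  obtain ⟨e, he⟩ := exists_prime_orderOf_dvd_card' 3
    (show 3 ∣ Nat.card (stabOf q z) by rw [hp.stab12]; norm_num)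
  have he3 : (e : A5) ^ 3 = 1 := by
    rw [← he, ← orderOf_coe]; exact pow_orderOf_eq_one _
  have he1 : (e : A5) ≠ 1 := fun h' => by
    rw [← orderOf_coe, h', orderOf_one] at he; omega
  obtain ⟨x, hx, hxe⟩ := e.2
  have hxz : (x : G) * z = z * x := mem_centralizer_singleton_iff.mp (mem_subgroupOf.mp hx)
  have hxa : (x : G) * a = a * x := by
    refine mul_inv_eq_iff_eq_mul.mp ((hs.mem_stab ha).mp ?_)
    show q x ∈ stabOf q a
    rw [← heq, hxe]
    exact e.2
  set C := A ⊓ centralizer ({(x : G)} : Set G) with hC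
  have hzC : z ∈ C := Subgroup.mem_inf.mpr ⟨hp.zA, mem_centralizer_singleton_iff.mpr hxz.symm⟩
  have haC : a ∈ C := Subgroup.mem_inf.mpr ⟨ha, mem_centralizer_singleton_iff.mpr hxa.symm⟩
  have hC4 : Nat.card C = 4 := by
    rcases hs.three_fix (n := x) (by rw [hxe]; exact he3) (by rw [hxe]; exact he1) with h | h
    · rw [← hC] at h
      have : C = ⊥ := eq_bot_of_card_eq _ h
      rw [this, Subgroup.mem_bot] at hzC
      exact absurd hzC hp.z1
    · exact h
  obtain ⟨w, hw2, hw1, hwinv⟩ := a5_inverted e he3 he1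
  obtain ⟨n, rfl⟩ := hs.surj w
  have hwz : q n ∉ stabOf q z := by
    intro hmem
    have hwW := hp.invol_stab hmem hw2
    have h1 := hp.stab_normal hp.zA hp.stab12 hp.range_le e.2 hwW
    have h2 : (e : A5) * q n * (e : A5)⁻¹ * q n = (e : A5) ^ 2 := by
      calc (e : A5) * q n * (e : A5)⁻¹ * q n
          = (e : A5) * (q n * ((q n * e * q n) * q n)) := by rw [hwinv]; group
        _ = (e : A5) * (q n * q n) * e * (q n * q n) := by group
        _ = (e : A5) ^ 2 := by rw [hw2, mul_one, mul_one, sq]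
    have h3 := hs.range_sq (h2 ▸ mul_mem h1 hwW)
    refine he1 ?_
    calc (e : A5) = (e : A5) ^ 2 * (e : A5) ^ 2 * ((e : A5) ^ 3)⁻¹ := by group
      _ = 1 := by rw [h3, he3, inv_one, one_mul]
  have hCn : ∀ c ∈ C, (n : G) * c * (n : G)⁻¹ ∈ C := by
    intro c hc
    obtain ⟨hcA, hcx⟩ := Subgroup.mem_inf.mp hc
    refine Subgroup.mem_inf.mpr ⟨hs.conjA n hcA, mem_centralizer_singleton_iff.mpr ?_⟩
    have hxc := mem_centralizer_singleton_iff.mp hcx
    have h1 := hs.act_eq (m := x * n) (n := n * x⁻¹) (by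
      rw [map_mul, map_mul, map_inv, hxe, ← hwinv]
      calc (e : A5) * q n = q n * q n * ((e : A5) * q n) := by rw [hw2, one_mul]
        _ = q n * (q n * e * q n) := by group) hcA
    simp only [Subgroup.coe_mul, Subgroup.coe_inv] at h1
    have h2 : (x : G) * ((n : G) * c * (n : G)⁻¹) * (x : G)⁻¹ = (n : G) * c * (n : G)⁻¹ := by
      calc (x : G) * ((n : G) * c * (n : G)⁻¹) * (x : G)⁻¹
          = (x : G) * n * c * ((x : G) * n)⁻¹ := by group
        _ = (n : G) * (x : G)⁻¹ * c * ((n : G) * (x : G)⁻¹)⁻¹ := h1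
        _ = (n : G) * ((x : G)⁻¹ * (c * x)) * (n : G)⁻¹ := by group
        _ = _ := by rw [hxc]; group
    exact (mul_inv_eq_iff_eq_mul.mp h2).symm
  have hninv : ∀ c ∈ C, (n : G) * ((n : G) * c * (n : G)⁻¹) * (n : G)⁻¹ = c := by
    intro c hc
    have h1 := hs.act_eq (m := n * n) (n := 1) (by rw [map_mul, map_one, hw2])
      (Subgroup.mem_inf.mp hc).1
    simp only [Subgroup.coe_mul, Subgroup.coe_one, one_mul, inv_one, mul_one] at h1
    exact (show (n : G) * ((n : G) * c * (n : G)⁻¹) * (n : G)⁻¹ =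
      (n : G) * n * c * ((n : G) * n)⁻¹ by group).trans h1
  let f : C ≃ C :=
    { toFun := fun c => ⟨(n : G) * c * (n : G)⁻¹, hCn c c.2⟩
      invFun := fun c => ⟨(n : G) * c * (n : G)⁻¹, hCn c c.2⟩
      left_inv := fun c => Subtype.ext (hninv c c.2)
      right_inv := fun c => Subtype.ext (hninv c c.2) }
  have h := card_fixed_modEq f 2 fun c => Subtype.ext (hninv c c.2)
  rw [hC4] at h
  obtain ⟨⟨⟨c, hc⟩, hfc⟩, hc1⟩ : ∃ c : {c : C // f c = c}, (c.1 : G) ≠ 1 := by
    by_contra hall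
    push Not at hall
    have h1 : Nat.card {c : C // f c = c} = 1 := by
      refine Nat.card_eq_one_iff_unique.mpr ⟨⟨fun a b => Subtype.ext (Subtype.ext ?_)⟩, ⟨⟨1, ?_⟩⟩⟩
      · rw [hall a, hall b]
      · exact Subtype.ext (show (n : G) * 1 * (n : G)⁻¹ = 1 by group)
    rw [h1] at h
    simp [Nat.ModEq] at h
  have hnfix : (n : G) * c * (n : G)⁻¹ = c := congrArg Subtype.val hfc
  have hcA := (Subgroup.mem_inf.mp hc).1
  rcases four_elems hC4 hzC haC hp.z1 ha1 (Ne.symm hne) (hs.sqA hp.zA) hc with e' | e' | e' | e'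
  · exact hc1 e'
  · subst e'; exact hwz ((hs.mem_stab hcA).mpr hnfix)
  · subst e'; exact hwz (heq ▸ (hs.mem_stab hcA).mpr hnfix)
  · subst e'
    have hfix' : ∀ t ∈ (R : Subgroup G), t * (z * a) = z * a * t := fun t ht => by
      rw [← mul_assoc, hp.zfix t ht, mul_assoc, hfix t ht, ← mul_assoc]
    have h12c := hs.stab12 hp.classes hcA hc1 hfix'
    have hWc : W ≤ stabOf q (z * a) := by
      intro e he
      obtain ⟨t, ht, rfl⟩ := hs.mem_range.mp he
      exact (hs.mem_stab hcA).mpr (mul_inv_eq_iff_eq_mul.mpr (hfix' t ht))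
    have hcK : stabOf q (z * a) ≤ K := fun e he => mem_normalizer_of_maps fun w hw =>
      hp.stab_normal hcA h12c hWc he hw
    refine hwz ?_
    rw [eq_of_le_of_card_ge hzK (by rw [hp.stab12, hK12]),
      ← eq_of_le_of_card_ge hcK (by rw [h12c, hK12])]
    exact (hs.mem_stab hcA).mpr hnfix

/-- A point of the short orbit fixed by an element outside `A` is `z`. -/
theorem regular {d : G} (hd : d ∈ orbN A z) {t : G} (ht : t ∈ (R : Subgroup G)) (htA : t ∉ A)
    (hfix : t * d = d * t) : d = z := by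
  have hs := hp.sixteen
  obtain ⟨hdA, hd1⟩ := hs.orbN_subset hp.zA hp.z1 hd
  refine hp.fixR hdA hd1 fun r hr => hs.fixed_of_range_le hdA ?_ hr
  obtain ⟨n, hn, rfl⟩ := hd
  set nn : ↥(normalizer (A : Set G)) := ⟨n, hn⟩ with hnn
  have hconv : ∀ m : ↥(normalizer (A : Set G)),
      (m : G) * (n * z * n⁻¹) * (m : G)⁻¹ = n * z * n⁻¹ ↔ q (nn⁻¹ * m * nn) ∈ stabOf q z := by
    intro m
    refine Iff.trans ?_ (hs.mem_stab hp.zA).symm
    simp only [Subgroup.coe_mul, Subgroup.coe_inv, hnn]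
    constructor
    · intro e
      calc n⁻¹ * (m : G) * n * z * (n⁻¹ * (m : G) * n)⁻¹
          = n⁻¹ * ((m : G) * (n * z * n⁻¹) * (m : G)⁻¹) * n := by group
        _ = z := by rw [e]; group
    · intro e
      calc (m : G) * (n * z * n⁻¹) * (m : G)⁻¹
          = n * (n⁻¹ * (m : G) * n * z * (n⁻¹ * (m : G) * n)⁻¹) * n⁻¹ := by group
        _ = n * z * n⁻¹ := by rw [e]
  set tn : ↥(normalizer (A : Set G)) := ⟨t, hs.RN ht⟩ with htn
  have hw' : q (nn⁻¹ * tn * nn) ∈ stabOf q z := (hconv tn).mp (mul_inv_eq_iff_eq_mul.mpr hfix)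
  have hsq : q (nn⁻¹ * tn * nn) * q (nn⁻¹ * tn * nn) = 1 := by
    rw [map_mul, map_mul, map_inv, show (q nn)⁻¹ * q tn * q nn * ((q nn)⁻¹ * q tn * q nn) =
      (q nn)⁻¹ * (q tn * q tn) * q nn by group, hs.q_sq ht]
    group
  have hne : q (nn⁻¹ * tn * nn) ≠ 1 := by
    rw [map_mul, map_mul, map_inv]
    intro e
    refine htA (hs.qR_one ht ?_)
    calc q tn = q nn * ((q nn)⁻¹ * q tn * q nn) * (q nn)⁻¹ := by group
      _ = 1 := by rw [e]; group
  obtain ⟨t', ht', hte⟩ := hs.mem_range.mp (hp.invol_stab hw' hsq)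
  intro u hu
  obtain ⟨r', hr', rfl⟩ := hs.mem_range.mp hu
  refine (hs.mem_stab hdA).mpr ((hconv _).mpr (hp.range_le (hs.range_eq ht'
    (fun e => hne (hte ▸ hs.q_of_A e)) ?_)))
  have hc := hs.range_comm (hs.mem_range.mpr ⟨t, ht, rfl⟩) (hs.mem_range.mpr ⟨r', hr', rfl⟩)
  rw [hte, map_mul, map_mul, map_mul, map_mul, map_inv]
  set u' := q ⟨r', hs.RN hr'⟩
  calc (q nn)⁻¹ * u' * q nn * ((q nn)⁻¹ * q tn * q nn) = (q nn)⁻¹ * (u' * q tn) * q nn := by group
    _ = (q nn)⁻¹ * (q tn * u') * q nn := by rw [← hc]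
    _ = _ := by group

theorem ncard_short : (orbN A z).ncard = 5 := by
  have h := hp.sixteen.ncard_orbN hp.zA
  rw [hp.stab12] at h
  omega

theorem trans_short {d d' : G} (hd : d ∈ orbN A z) (hdz : d ≠ z) (hd' : d' ∈ orbN A z)
    (hd'z : d' ≠ z) : ∃ t ∈ (R : Subgroup G), t * d * t⁻¹ = d' := by
  have hs := hp.sixteen
  obtain ⟨hdA, -⟩ := hs.orbN_subset hp.zA hp.z1 hd
  have h1 := card_conj_mul (R : Subgroup G) (hs.AR hdA)
  have h2 : (R : Subgroup G) ⊓ centralizer ({d} : Set G) = A := by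
    refine le_antisymm (fun t ht => ?_) (le_inf hs.AR fun v hv =>
      mem_centralizer_singleton_iff.mpr (hs.commA hv hdA))
    obtain ⟨htR, htd⟩ := Subgroup.mem_inf.mp ht
    by_contra htA
    exact hdz (hp.regular hd htR htA (mem_centralizer_singleton_iff.mp htd))
  rw [h2, hs.card_A, hs.card_R] at h1
  set T : Set G := {i | ∃ y ∈ (R : Subgroup G), y * d * y⁻¹ = i} with hT
  have hsub : T ⊆ orbN A z \ {z} := by
    rintro _ ⟨y, hy, rfl⟩
    refine ⟨orbN_conj hd (hs.RN hy), fun e => hdz ?_⟩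
    calc d = y⁻¹ * (y * d * y⁻¹) * y := by group
      _ = y⁻¹ * (z * y) := by rw [Set.mem_singleton_iff.mp e, mul_assoc]
      _ = z := by rw [← hp.zfix y hy, inv_mul_cancel_left]
  have hTc : T.ncard = 4 := by
    rw [← Nat.card_coe_set_eq]
    show Nat.card {i : G // ∃ y ∈ (R : Subgroup G), y * d * y⁻¹ = i} = 4
    omega
  have heq : T = orbN A z \ {z} := Set.eq_of_subset_of_ncard_le hsub (by
    rw [Set.ncard_diff_singleton_of_mem (mem_orbN_self z), hp.ncard_short, hTc])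
  have : d' ∈ T := by rw [heq]; exact ⟨hd', hd'z⟩
  exact this

theorem z_mul_short {d : G} (hd : d ∈ orbN A z) (hdz : d ≠ z) : z * d ∉ orbN A z := by
  intro hzd
  have hs := hp.sixteen
  have key : ∀ d' ∈ orbN A z, d' ≠ z → z * d' ∈ orbN A z := by
    intro d' hd' hd'z
    obtain ⟨t, ht, rfl⟩ := hp.trans_short hd hdz hd' hd'z
    rw [show z * (t * d * t⁻¹) = t * (z * d) * t⁻¹ by
      rw [← mul_assoc, ← mul_assoc, ← mul_assoc, hp.zfix t ht]]
    exact orbN_conj hzd (hs.RN ht)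
  have mem : ∀ x ∈ orbN A z, x ∈ A := fun x hx => (hs.orbN_subset hp.zA hp.z1 hx).1
  have hmul : ∀ x ∈ orbN A z, ∀ y ∈ orbN A z, x ≠ y → x * y ∈ orbN A z := by
    rintro _ ⟨n, hn, rfl⟩ y hy hxy
    have h1 := key (n⁻¹ * y * n) (by simpa using orbN_conj hy (inv_mem hn)) (fun e => hxy (by
      rw [← e]; group))
    have h2 := orbN_conj h1 hn
    rwa [show n * (z * (n⁻¹ * y * n)) * n⁻¹ = n * z * n⁻¹ * y by group] at h2
  let K : Subgroup G :=
    { carrier := insert 1 (orbN A z)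
      one_mem' := Set.mem_insert _ _
      mul_mem' := by
        rintro x y (rfl | hx) (rfl | hy)
        · rw [one_mul]; exact Set.mem_insert _ _
        · rw [one_mul]; exact Or.inr hy
        · rw [mul_one]; exact Or.inr hx
        · by_cases e : x = y
          · subst e; rw [hs.sqA (mem x hx)]; exact Set.mem_insert _ _
          · exact Or.inr (hmul x hx y hy e)
      inv_mem' := by
        rintro x (rfl | hx)
        · rw [inv_one]; exact Set.mem_insert _ _
        · rw [hs.invA (mem x hx)]; exact Or.inr hx }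
  have hK : Nat.card K = 6 := by
    show Nat.card ((K : Set G) : Type _) = 6
    rw [Nat.card_coe_set_eq]
    show (insert 1 (orbN A z)).ncard = 6
    rw [Set.ncard_insert_of_notMem (fun e => (hs.orbN_subset hp.zA hp.z1 e).2 rfl), hp.ncard_short]
  have hKA : K ≤ A := by
    rintro x (rfl | hx)
    · exact one_mem A
    · exact mem x hx
  have := card_dvd_of_le hKA
  rw [hK, hs.card_A] at this
  norm_num at this

theorem long_orbit {a : G} (ha : a ∈ A) (ha1 : a ≠ 1) (haz : a ∉ orbN A z) :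
    orbN A a = ((A : Set G) \ {1}) \ orbN A z ∧ Nat.card (stabOf q a) = 6 := by
  have hs := hp.sixteen
  have h4 : ¬ 4 ∣ Nat.card (stabOf q a) := by
    intro hd
    haveI : Fact (Nat.Prime 2) := ⟨Nat.prime_two⟩
    set S' := stabOf q a with hS'
    obtain ⟨U, hU⟩ := Sylow.exists_subgroup_card_pow_prime 2 (G := S') (n := 2)
      (by rw [show (2 : ℕ) ^ 2 = 4 from rfl]; exact hd)
    have hW : IsPGroup 2 (q.comp (inclusion hs.RN)).range := IsPGroup.of_card (n := 2) hs.card_range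
    have hU2 : IsPGroup 2 (U.map S'.subtype) :=
      IsPGroup.of_card (n := 2) (by rw [card_map_of_injective S'.subtype_injective, hU])
    obtain ⟨P1, hP1⟩ := hW.exists_le_sylow
    obtain ⟨P2, hP2⟩ := hU2.exists_le_sylow
    have hP14 : Nat.card (P1 : Subgroup A5) = 4 := by
      have h1 : 4 ∣ Nat.card (P1 : Subgroup A5) := hs.card_range ▸ card_dvd_of_le hP1
      obtain ⟨k, hk⟩ := IsPGroup.iff_card.mp P1.isPGroup'
      have h2 : 2 ^ k ∣ 60 := hk ▸ a5_card ▸ Subgroup.card_subgroup_dvd_card _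
      have hk3 : k < 3 := by
        by_contra hc
        exact absurd ((Nat.pow_dvd_pow 2 (not_lt.mp hc)).trans h2) (by norm_num)
      rw [hk] at h1 ⊢
      interval_cases k <;> simp_all
    obtain ⟨g', hg'⟩ := MulAction.exists_smul_eq A5 P2 P1
    obtain ⟨g, rfl⟩ := hs.surj g'
    have hP24 : Nat.card (P2 : Subgroup A5) = 4 := by
      rw [← hP14]; exact Nat.card_congr (P2.equiv P1).toEquiv
    have hUeq : (P2 : Subgroup A5) = U.map S'.subtype :=
      (eq_of_le_of_card_ge hP2 (by rw [hP24, card_map_of_injective S'.subtype_injective, hU]; rfl)).symm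
    have hga : (g : G) * a * (g : G)⁻¹ ∈ A := hs.conjA g ha
    refine haz (orbN_symm ⟨(g : G), g.2, hp.fixR hga (fun e => ha1 (conj_eq_one_iff.mp e))
      fun t ht => hs.fixed_of_range_le hga ?_ ht⟩)
    intro w hw
    have hw1 : w ∈ (P1 : Subgroup A5) := hP1 hw
    rw [← hg'] at hw1
    obtain ⟨u, hu, rfl⟩ := hw1
    have hu' : u ∈ S' := map_subtype_le _ (hUeq ▸ hu)
    obtain ⟨m, hm, rfl⟩ := hu'
    refine ⟨g * m * g⁻¹, mem_subgroupOf.mpr (mem_centralizer_singleton_iff.mpr ?_), ?_⟩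
    · simp only [Subgroup.coe_mul, Subgroup.coe_inv]
      have := mem_centralizer_singleton_iff.mp (mem_subgroupOf.mp hm)
      calc (g : G) * m * (g : G)⁻¹ * ((g : G) * a * (g : G)⁻¹)
          = (g : G) * ((m : G) * a) * (g : G)⁻¹ := by group
        _ = (g : G) * (a * (m : G)) * (g : G)⁻¹ := by rw [this]
        _ = _ := by group
    · rw [map_mul, map_mul, map_inv]; rfl
  have h5 := hs.not_five_stab ha ha1
  have h60 := hs.ncard_orbN ha
  have hsub : orbN A a ⊆ ((A : Set G) \ {1}) \ orbN A z := fun i hi =>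
    ⟨hs.orbN_subset ha ha1 hi, fun e => haz (orbN_trans e (orbN_symm hi))⟩
  have h10 : (((A : Set G) \ {1}) \ orbN A z).ncard = 10 := by
    rw [Set.ncard_diff (hs.orbN_subset hp.zA hp.z1), hs.ncard_nonone, hp.ncard_short]
  have hle := Set.ncard_le_ncard hsub
  rw [h10] at hle
  have hd : Nat.card (stabOf q a) ∣ 60 := Dvd.intro_left _ h60
  have hge : 6 ≤ Nat.card (stabOf q a) := by
    by_contra hlt
    have := Nat.mul_le_mul hle (show Nat.card (stabOf q a) ≤ 5 by omega)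
    rw [h60] at this
    omega
  have h6 : Nat.card (stabOf q a) = 6 := by
    have hle60 := Nat.le_of_dvd (by norm_num) hd
    set k := Nat.card (stabOf q a)
    interval_cases k <;> first | omega | norm_num at hd h4 h5
  refine ⟨Set.eq_of_subset_of_ncard_le hsub ?_, h6⟩
  rw [h6] at h60
  rw [h10]
  omega

end Pointed

end Cfsg.Agent.StrClosed41
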