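import Cfsg.Agent.StrClosed41.Local

/-!
# The retraction of a 2-nilpotent subgroup onto a Sylow 2-subgroup
-/

set_option autoImplicit false

namespace Cfsg.Agent.StrClosed41

open Subgroup

variable {G : Type*} [Group G] [Finite G]

theorem exists_retract {C T : Subgroup G} (hC : Cfsg.HasNormalPComplement 2 C)
    (hT : IsPGroup 2 T) (hTC : T ≤ C)
    (hmax : ∀ R : Subgroup G, IsPGroup 2 R → R ≤ C → T ≤ R → R ≤ T) :
    ∃ ρ : C →* G, (∀ g, ρ g ∈ T) ∧ (∀ g : C, (g : G) * (ρ g)⁻¹ ∈ oddPart C) ∧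
      ∀ g : C, (g : G) ∈ T → ρ g = (g : G) := by
  choose u hu t ht he using fun g : C => exists_mul_oddPart hC hT hTC hmax g.2
  have hg : ∀ g : C, (g : G) * (t g)⁻¹ ∈ oddPart C := fun g => by
    rw [he g, mul_inv_cancel_right]; exact hu g
  have huniq : ∀ (g : C) (r : G), r ∈ T → (g : G) * r⁻¹ ∈ oddPart C → t g = r := by
    intro g r hr h
    refine mul_inv_eq_one.mp (eq_one_of_two_oddPart hC hT (mul_mem (ht g) (inv_mem hr)) ?_)
    rw [show t g * r⁻¹ = ((g : G) * (t g)⁻¹)⁻¹ * ((g : G) * r⁻¹) by group]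
    exact mul_mem (inv_mem (hg g)) h
  refine ⟨MonoidHom.mk' t fun g h => huniq _ _ (mul_mem (ht g) (ht h)) ?_, ht, hg,
    fun g hgT => huniq g g hgT (by rw [mul_inv_cancel]; exact one_mem _)⟩
  rw [Subgroup.coe_mul, show (g : G) * h * (t g * t h)⁻¹ =
    (g : G) * ((h : G) * (t h)⁻¹) * (g : G)⁻¹ * ((g : G) * (t g)⁻¹) by group]
  exact mul_mem (conj_mem_oddPart hC (le_normalizer g.2) (hg h)) (hg g)

/-- What the retraction does to involutions. -/
theorem retract_involution {C T : Subgroup G} (hC : Cfsg.HasNormalPComplement 2 C) (hTC : T ≤ C)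
    (ρ : C →* G) (hρT : ∀ g, ρ g ∈ T) (hρ : ∀ g : C, (g : G) * (ρ g)⁻¹ ∈ oddPart C)
    {i : C} (hi : orderOf (i : G) = 2) :
    orderOf (ρ i) = 2 ∧ ∃ k ∈ C, k * (ρ i) * k⁻¹ = (i : G) := by
  haveI : Fact (Nat.Prime 2) := ⟨Nat.prime_two⟩
  have h1 : (ρ i) ^ 2 = 1 := by
    rw [← map_pow, show i ^ 2 = 1 from Subtype.ext (by
      rw [Subgroup.coe_pow, Subgroup.coe_one, ← hi]; exact pow_orderOf_eq_one _), map_one]
  have hne : ρ i ≠ 1 := by
    intro h
    have h2 := hρ i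
    rw [h, inv_one, mul_one] at h2
    have h3 := ((mem_oddPart hC).mp h2).2
    rw [hi] at h3
    exact absurd h3 (by decide)
  have hord : orderOf (ρ i) = 2 := orderOf_eq_prime h1 hne
  refine ⟨hord, ?_⟩
  obtain ⟨k, hk, hki⟩ := exists_conj_of_mul_mem (odd_oddPart hC) hi hord
    (by rw [← Involution.inv_of_orderOf hord]; exact hρ i)
  refine ⟨k⁻¹, inv_mem (oddPart_le C hk), ?_⟩
  rw [← hki]
  group

/-- A central involution of the complement that the retraction finds in `⟨d⟩` lies in `⟨d⟩`. -/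
theorem mem_zpowers_of_retract {C : Subgroup G} (hC : Cfsg.HasNormalPComplement 2 C)
    (ρ : C →* G) (hρ : ∀ g : C, (g : G) * (ρ g)⁻¹ ∈ oddPart C) {z d : C}
    (hz : orderOf (z : G) = 2) (hzd : Commute (z : G) d) (hρz : ρ z = z) {k : ℤ}
    (h : ρ d ^ k = z) : (z : G) ∈ zpowers (d : G) := by
  refine mem_zpowers_of_congr (odd_oddPart hC) hz hzd (k := k) ?_
  have h2 := hρ (z * d ^ k)
  rw [map_mul, map_zpow, hρz, h, Involution.mul_self_of_orderOf hz, inv_one, mul_one,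
    Subgroup.coe_mul, SubgroupClass.coe_zpow] at h2
  exact h2

end Cfsg.Agent.StrClosed41
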