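import Cfsg.Agent.StrClosed41.Retract

/-!
# The centralizer of a central involution modulo that involution

`A` is elementary of order 8, strongly closed in a Sylow 2-subgroup `S` of order 32, with a
central four-group `V ≤ A` and two classes `V#`, `A ∖ V`.
-/

set_option autoImplicit false

namespace Cfsg.Agent.StrClosed41

open Subgroup

variable {G : Type*} [Group G] [Finite G]

/-- The configuration of `C(z)/⟨z⟩` in the three-class case. -/
structure Setting (A V : Subgroup G) (S : Sylow 2 G) (s c : G) : Prop where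
  closed : Cfsg.IsStronglyClosed A (S : Subgroup G)
  elem : Cfsg.IsElementaryAbelian 2 A
  card_S : Nat.card (S : Subgroup G) = 32
  card_A : Nat.card A = 8
  VA : V ≤ A
  card_V : Nat.card V = 4
  vcentral : ∀ t ∈ (S : Subgroup G), ∀ v ∈ V, t * v = v * t
  vnc : ∀ v ∈ V, v ≠ 1 → ∀ a ∈ A, a ∉ V → ¬ IsConj v a
  centS : ∀ a ∈ A, a ∉ V → ∀ t ∈ (S : Subgroup G), t * a = a * t → t ∈ A
  orb : ∀ a ∈ A, a ∉ V → ∀ a' ∈ A, a' ∉ V → ∃ t ∈ (S : Subgroup G), t * a * t⁻¹ = a'
  fus : ∀ a ∈ A, a ∉ V → ∀ v ∈ V, v ≠ 1 → ∀ v' ∈ V, v' ≠ 1 →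
    ∃ g ∈ centralizer ({a} : Set G), g * v * g⁻¹ = v'
  nil : ∀ v ∈ V, v ≠ 1 → Cfsg.HasNormalPComplement 2 ↥(centralizer ({v} : Set G))
  sS : s ∈ (S : Subgroup G)
  sA : s ∉ A
  s2 : orderOf s = 2
  comm : ∀ a ∈ A, a ∉ V → s * a * s = a * c
  cV : c ∈ V
  c1 : c ≠ 1
  snc : ∀ v ∈ V, v ≠ 1 → v ≠ c → ¬ IsConj s (s * v)

variable {A V : Subgroup G} {S : Sylow 2 G} {s c : G}

namespace Setting

variable (h : Setting A V S s c)

include h

theorem AS : A ≤ (S : Subgroup G) := h.closed.1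

theorem two_A : IsPGroup 2 A := S.isPGroup'.to_le h.AS

theorem commA {x y : G} (hx : x ∈ A) (hy : y ∈ A) : x * y = y * x :=
  congrArg Subtype.val (h.elem.1.is_comm.comm ⟨x, hx⟩ ⟨y, hy⟩)

theorem sqA {x : G} (hx : x ∈ A) : x * x = 1 := by simpa [sq] using h.elem.2 x hx

theorem invA {x : G} (hx : x ∈ A) : x⁻¹ = x := inv_eq_of_mul_eq_one_right (h.sqA hx)

theorem ordA {x : G} (hx : x ∈ A) (hx1 : x ≠ 1) : orderOf x = 2 := by
  haveI : Fact (Nat.Prime 2) := ⟨Nat.prime_two⟩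
  exact orderOf_eq_prime (h.elem.2 x hx) hx1

theorem ne_one {a : G} (ha : a ∉ V) : a ≠ 1 := fun e => ha (e ▸ one_mem V)

theorem exists_out : ∃ a ∈ A, a ∉ V := by
  by_contra hc
  push Not at hc
  have := Nat.card_le_card_of_injective _ (inclusion_injective (show A ≤ V from hc))
  rw [h.card_A, h.card_V] at this
  omega

theorem index_two : (V.subgroupOf A).index = 2 := by
  have h1 := relIndex_mul_relIndex (⊥ : Subgroup G) V A bot_le h.VA
  rw [relIndex_bot_left, relIndex_bot_left, h.card_A, h.card_V] at h1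
  show V.relIndex A = 2
  omega

theorem mul_mem_V {a a' : G} (ha : a ∈ A) (haV : a ∉ V) (ha' : a' ∈ A) (haV' : a' ∉ V) :
    a * a' ∈ V :=
  (mul_mem_iff_of_index_two h.index_two (a := (⟨a, ha⟩ : A)) (b := ⟨a', ha'⟩)).mpr
    ⟨fun e => absurd e haV, fun e => absurd e haV'⟩

theorem mul_notMem {a v : G} (haV : a ∉ V) (hv : v ∈ V) : a * v ∉ V := fun e =>
  haV (by simpa using mul_mem e (inv_mem hv))

theorem mul_mem_out {a v : G} (ha : a ∈ A) (hv : v ∈ V) : a * v ∈ A := mul_mem ha (h.VA hv)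

theorem sv {v : G} (hv : v ∈ V) : s * v = v * s := h.vcentral s h.sS v hv

theorem S_le_cent {v : G} (hv : v ∈ V) : (S : Subgroup G) ≤ centralizer ({v} : Set G) :=
  fun t ht => mem_centralizer_singleton_iff.mpr (h.vcentral t ht v hv)

theorem A_le_cent {a : G} (ha : a ∈ A) : A ≤ centralizer ({a} : Set G) :=
  fun _ hx => mem_centralizer_singleton_iff.mpr (h.commA hx ha)

theorem maxS {R : Subgroup G} (hR : IsPGroup 2 R) (hSR : (S : Subgroup G) ≤ R) :
    R ≤ (S : Subgroup G) := (S.is_maximal' hR hSR).le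

theorem not_conj_s (g : G) : g * s * g⁻¹ ∉ A := fun hg => by
  have h1 := h.closed.2 _ hg g⁻¹
  rw [show g⁻¹ * (g * s * g⁻¹) * g⁻¹⁻¹ = s by group] at h1
  exact h.sA (h1 h.sS)

theorem s_not_conj {x : G} (hx : x ∈ A) : ¬ IsConj s x := fun hc => by
  obtain ⟨g, hg⟩ := isConj_iff.mp hc
  exact h.not_conj_s g (hg ▸ hx)

theorem normalizes {t : G} (ht : t ∈ (S : Subgroup G)) : t ∈ normalizer (A : Set G) :=
  le_normalizer_of_two h.closed S.isPGroup' h.AS ht

theorem conj_out {t a : G} (ht : t ∈ (S : Subgroup G)) (ha : a ∈ A) (haV : a ∉ V) :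
    t * a * t⁻¹ ∈ A ∧ t * a * t⁻¹ ∉ V := by
  refine ⟨(mem_normalizer_iff.mp (h.normalizes ht) a).mp ha, fun e => haV ?_⟩
  have : a = t * a * t⁻¹ := by
    calc a = t⁻¹ * ((t * a * t⁻¹) * t) := by group
      _ = t⁻¹ * (t * (t * a * t⁻¹)) := by rw [h.vcentral t ht _ e]
      _ = t * a * t⁻¹ := by group
  rwa [this]

/-- Only `A` lies above `A` in `C(a)` for `a ∈ A ∖ V`. -/
theorem maxA {a : G} (ha : a ∈ A) (haV : a ∉ V) {R : Subgroup G} (hR : IsPGroup 2 R)
    (hRC : R ≤ centralizer ({a} : Set G)) (hAR : A ≤ R) : R ≤ A := by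
  haveI : Fact (Nat.Prime 2) := ⟨Nat.prime_two⟩
  obtain ⟨T, hT⟩ := hR.exists_le_sylow
  obtain ⟨g, hg⟩ := MulAction.exists_smul_eq G T S
  have hmem : ∀ {y : G}, y ∈ R → g * y * g⁻¹ ∈ (S : Subgroup G) := fun hy => by
    rw [← hg]; exact ⟨_, hT hy, rfl⟩
  have hgN : g ∈ normalizer (A : Set G) :=
    mem_normalizer_of_maps fun y hy => h.closed.2 y hy g (hmem (hAR hy))
  intro y hy
  refine (mem_normalizer_iff.mp hgN y).mpr (h.centS (g * a * g⁻¹)
    ((mem_normalizer_iff.mp hgN a).mp ha) ?_ _ (hmem hy) ?_)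
  · intro e
    exact h.vnc _ e (fun e' => h.ne_one haV (conj_eq_one_iff.mp e')) a ha haV
      (isConj_iff.mpr ⟨g⁻¹, by group⟩)
  · rw [show g * y * g⁻¹ * (g * a * g⁻¹) = g * (y * a) * g⁻¹ by group,
      mem_centralizer_singleton_iff.mp (hRC hy)]
    group

theorem centralizer_two {x : G} (hx : x ∈ centralizer (A : Set G))
    (hx2 : IsPGroup 2 (zpowers x)) : x ∈ A := by
  obtain ⟨a, ha, haV⟩ := h.exists_out
  have hxN : zpowers x ≤ normalizer (A : Set G) :=
    zpowers_le.mpr (centralizer_le_normalizer _ hx)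
  refine h.maxA ha haV (hx2.to_sup_of_normal_right' h.two_A hxN)
    (sup_le ?_ (h.A_le_cent ha)) le_sup_right (mem_sup_left (mem_zpowers x))
  exact zpowers_le.mpr (mem_centralizer_singleton_iff.mpr (mem_centralizer_iff.mp hx a ha).symm)

/-- An involution centralizing `a ∈ A ∖ V` is conjugate in `C(a)` into `A`. -/
theorem conj_into_A {a : G} (ha : a ∈ A) (haV : a ∉ V) {i : G}
    (hi : orderOf i = 2) (hia : i * a = a * i) :
    ∃ g ∈ centralizer ({a} : Set G), g * i * g⁻¹ ∈ A := by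
  have h2 : IsPGroup 2 (zpowers i) := IsPGroup.of_card (n := 1) (by rw [Nat.card_zpowers, hi]; rfl)
  obtain ⟨R, hR, hRC, hAR, g, hg, hgR⟩ := exists_conj_mem_two (centralizer ({a} : Set G)) A
    (zpowers i) h.two_A h2 (h.A_le_cent ha)
    (zpowers_le.mpr (mem_centralizer_singleton_iff.mpr hia))
  exact ⟨g, hg, h.maxA ha haV hR hRC hAR (hgR i (mem_zpowers i))⟩

/-- An involution centralizing `v ∈ V#` is conjugate in `C(v)` into `S`. -/
theorem conj_into_S {v : G} (hv : v ∈ V) {i : G} (hi : orderOf i = 2) (hiv : i * v = v * i) :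
    ∃ g ∈ centralizer ({v} : Set G), g * i * g⁻¹ ∈ (S : Subgroup G) := by
  have h2 : IsPGroup 2 (zpowers i) := IsPGroup.of_card (n := 1) (by rw [Nat.card_zpowers, hi]; rfl)
  obtain ⟨R, hR, -, hSR, g, hg, hgR⟩ := exists_conj_mem_two (centralizer ({v} : Set G)) S
    (zpowers i) S.isPGroup' h2 (h.S_le_cent hv)
    (zpowers_le.mpr (mem_centralizer_singleton_iff.mpr hiv))
  exact ⟨g, hg, h.maxS hR hSR (hgR i (mem_zpowers i))⟩

/-- Membership in `A` of a conjugate, seen in `S`. -/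
theorem mem_A_of_isConj {x y : G} (hy : y ∈ (S : Subgroup G)) (hxy : IsConj x y) (hx : x ∈ A) :
    y ∈ A := by
  obtain ⟨g, rfl⟩ := isConj_iff.mp hxy
  exact h.closed.2 x hx g hy

theorem mem_V_of_isConj {v y : G} (hy : y ∈ (S : Subgroup G)) (hv : v ∈ V) (hv1 : v ≠ 1)
    (hvy : IsConj v y) : y ∈ V := by
  by_contra e
  exact h.vnc v hv hv1 y (h.mem_A_of_isConj hy hvy (h.VA hv)) e hvy

theorem mem_out_of_isConj {a y : G} (hy : y ∈ (S : Subgroup G)) (ha : a ∈ A) (haV : a ∉ V)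
    (hay : IsConj a y) : y ∈ A ∧ y ∉ V := by
  refine ⟨h.mem_A_of_isConj hy hay ha, fun e => ?_⟩
  refine h.vnc y e (fun e1 => h.ne_one haV ?_) a ha haV hay.symm
  obtain ⟨g, hg⟩ := isConj_iff.mp hay
  rw [e1] at hg
  exact conj_eq_one_iff.mp hg

theorem isConj_fus {v v' : G} (hv : v ∈ V) (hv1 : v ≠ 1) (hv' : v' ∈ V) (hv'1 : v' ≠ 1) :
    IsConj v v' := by
  obtain ⟨a, ha, haV⟩ := h.exists_out
  obtain ⟨g, -, hg⟩ := h.fus a ha haV v hv hv1 v' hv' hv'1
  exact isConj_iff.mpr ⟨g, hg⟩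

theorem isConj_orb {a a' : G} (ha : a ∈ A) (haV : a ∉ V) (ha' : a' ∈ A) (haV' : a' ∉ V) :
    IsConj a a' := by
  obtain ⟨t, -, ht⟩ := h.orb a ha haV a' ha' haV'
  exact isConj_iff.mpr ⟨t, ht⟩

theorem exists_third : ∃ v ∈ V, v ≠ 1 ∧ v ≠ c := by
  by_contra hc
  push Not at hc
  have hle : V ≤ zpowers c := fun v hv => by
    rcases eq_or_ne v 1 with rfl | h1
    · exact one_mem _
    · rw [hc v hv h1]; exact mem_zpowers c
  have := Subgroup.card_le_of_le hle
  rw [h.card_V, Nat.card_zpowers, h.ordA (h.VA h.cV) h.c1] at this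
  omega

theorem V_eq {c2 : G} (hc2 : c2 ∈ V) (h21 : c2 ≠ 1) (h2c : c2 ≠ c) {v : G} (hv : v ∈ V) :
    v = 1 ∨ v = c ∨ v = c2 ∨ v = c * c2 := by
  classical
  haveI := Fintype.ofFinite V
  by_contra hc
  push Not at hc
  obtain ⟨n1, n2, n3, n4⟩ := hc
  have hcc : c * c2 ≠ 1 := fun e => h2c (by
    have := eq_inv_of_mul_eq_one_right e
    rwa [h.invA (h.VA h.cV)] at this)
  have hsub : ({1, c, c2, c * c2, v} : Finset G) ⊆ (Finset.univ : Finset V).map
      ⟨Subtype.val, Subtype.val_injective⟩ := by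
    intro y hy
    simp only [Finset.mem_insert, Finset.mem_singleton] at hy
    rcases hy with rfl | rfl | rfl | rfl | rfl <;>
      simp [h.cV, hc2, hv, mul_mem h.cV hc2]
  have := Finset.card_le_card hsub
  rw [Finset.card_map, Finset.card_univ, ← Nat.card_eq_fintype_card, h.card_V] at this
  rw [Finset.card_insert_of_notMem, Finset.card_insert_of_notMem, Finset.card_insert_of_notMem,
    Finset.card_pair n4.symm] at this
  · omega
  · simp only [Finset.mem_insert, Finset.mem_singleton]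
    push Not
    exact ⟨fun e => h.c1 (mul_eq_right.mp e.symm), n3.symm⟩
  · simp only [Finset.mem_insert, Finset.mem_singleton]
    push Not
    exact ⟨h2c.symm, fun e => h21 (mul_eq_left.mp e.symm), n2.symm⟩
  · simp only [Finset.mem_insert, Finset.mem_singleton]
    push Not
    exact ⟨h.c1.symm, h21.symm, hcc.symm, n1.symm⟩

/-- An involution of `S` inducing the same commutator as `s` and conjugate to it is `s` or `sc`. -/
theorem eq_s_or {s1 a : G} (hs1 : s1 ∈ (S : Subgroup G)) (hs12 : s1 * s1 = 1) (ha : a ∈ A)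
    (haV : a ∉ V) (he : s1 * a * s1 = a * c) (hc : IsConj s s1) : s1 = s ∨ s1 = s * c := by
  have hss : s * s = 1 := Involution.mul_self_of_orderOf h.s2
  have hsi : s⁻¹ = s := Involution.inv_of_orderOf h.s2
  have hm : s * s1 ∈ A := by
    refine h.centS a ha haV _ (mul_mem h.sS hs1) ?_
    have h1 : s1 * a = a * c * s1 := by
      rw [← he, mul_assoc, hs12, mul_one]
    have h2 : s * (a * c) * s = a := by
      rw [show s * (a * c) * s = s * a * (c * s) by group, ← h.sv h.cV,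
        show s * a * (s * c) = s * a * s * c by group, h.comm a ha haV, mul_assoc,
        h.sqA (h.VA h.cV), mul_one]
    calc s * s1 * a = s * (a * c) * s1 := by rw [mul_assoc, h1, ← mul_assoc]
      _ = s * (a * c) * (s * s) * s1 := by rw [hss, mul_one]
      _ = (s * (a * c) * s) * (s * s1) := by group
      _ = a * (s * s1) := by rw [h2]
  set v := s * s1 with hv
  have hs1v : s1 = s * v := by rw [hv, ← mul_assoc, hss, one_mul]
  have hvV : v ∈ V := by
    by_contra e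
    have h1 : s * v * s = v := by
      have : s * v * (s * v) = 1 := by rw [← hs1v, hs12]
      calc s * v * s = s * v * (s * v) * v⁻¹ := by group
        _ = v := by rw [this, one_mul, h.invA hm]
    rw [h.comm v hm e] at h1
    exact h.c1 (mul_eq_left.mp h1)
  rcases eq_or_ne v 1 with e | e
  · left; rw [hs1v, e, mul_one]
  rcases eq_or_ne v c with e' | e'
  · right; rw [hs1v, e']
  exact absurd (hs1v ▸ hc) (h.snc v hvV e e')

end Setting

end Cfsg.Agent.StrClosed41
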