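import Cfsg.Agent.StrClosed41.Orbit16

/-!
# The shape of the three-class configuration around `A ≅ 2⁴`

The second orbit representative `b`, an element `x` of order three modulo `C(A)` fixing `z` and
`b`, the hyperplane `V₀ = [A, R]` of `A`, and strong closure of `A` in `R`.
-/

set_option autoImplicit false

namespace Cfsg.Agent.StrClosed41

open Subgroup

local notation "A5" => (alternatingGroup (Fin 5))

variable {G : Type*} [Group G] [Finite G] {A : Subgroup G}
  {q : ↥(normalizer (A : Set G)) →* A5} {R : Sylow 2 G} {z : G}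

/-- The elements of `A` moved by every element of `R` at most by `z`. -/
def Moved (A : Subgroup G) (R : Sylow 2 G) (z v : G) : Prop :=
  v ∈ A ∧ ∀ t ∈ (R : Subgroup G), t * v * t⁻¹ = v ∨ t * v * t⁻¹ = z * v

namespace Pointed

variable (hp : Pointed A q R z)

include hp

theorem moved_one : Moved A R z 1 := ⟨one_mem A, fun t _ => Or.inl (by group)⟩

theorem moved_z : Moved A R z z :=
  ⟨hp.zA, fun t ht => Or.inl (by rw [hp.zfix t ht, mul_inv_cancel_right])⟩

theorem moved_mul {v w : G} (hv : Moved A R z v) (hw : Moved A R z w) : Moved A R z (v * w) := by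
  refine ⟨mul_mem hv.1 hw.1, fun t ht => ?_⟩
  have e : t * (v * w) * t⁻¹ = t * v * t⁻¹ * (t * w * t⁻¹) := by group
  rw [e]
  rcases hv.2 t ht with h1 | h1 <;> rcases hw.2 t ht with h2 | h2 <;> rw [h1, h2]
  · exact Or.inl rfl
  · exact Or.inr (by rw [← mul_assoc, hp.sixteen.commA hv.1 hp.zA, mul_assoc])
  · exact Or.inr (mul_assoc _ _ _)
  · exact Or.inl (by
      rw [hp.sixteen.commA hp.zA hv.1, mul_assoc, ← mul_assoc z z, hp.sixteen.sqA hp.zA, one_mul])

/-- The hyperplane `V₀`. -/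
def V0 : Subgroup G where
  carrier := {v | Moved A R z v}
  one_mem' := hp.moved_one
  mul_mem' := hp.moved_mul
  inv_mem' := fun {v} hv => by
    show Moved A R z v⁻¹
    rw [hp.sixteen.invA hv.1]; exact hv

theorem mem_V0 {v : G} : v ∈ hp.V0 ↔ Moved A R z v := Iff.rfl

theorem V0_le : hp.V0 ≤ A := fun _ hv => hv.1

theorem fix_mem_V0 {t : G} (ht : t ∈ (R : Subgroup G)) (htA : t ∉ A) {v : G} (hv : v ∈ A)
    (hvt : t * v = v * t) : v ∈ hp.V0 := by
  have hs := hp.sixteen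
  set C := A ⊓ centralizer ({t} : Set G) with hC
  have hC4 : Nat.card C = 4 := hs.card_fix_t ht htA
  have hzC : z ∈ C := Subgroup.mem_inf.mpr
    ⟨hp.zA, mem_centralizer_singleton_iff.mpr (hp.zfix t ht).symm⟩
  have hvC : v ∈ C := Subgroup.mem_inf.mpr ⟨hv, mem_centralizer_singleton_iff.mpr hvt.symm⟩
  rcases Classical.em (v = 1 ∨ v = z) with h | h
  · rcases h with rfl | rfl
    · exact hp.moved_one
    · exact hp.moved_z
  push Not at h
  obtain ⟨hv1, hvz⟩ := h
  refine ⟨hv, fun u hu => ?_⟩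
  have huA := hs.conjA ⟨u, hs.RN hu⟩ hv
  have huC : u * v * u⁻¹ ∈ C := by
    refine Subgroup.mem_inf.mpr ⟨huA, mem_centralizer_singleton_iff.mpr ?_⟩
    have h1 := hs.act_eq (m := (⟨t, hs.RN ht⟩ : ↥(normalizer (A : Set G))) * ⟨u, hs.RN hu⟩)
      (n := (⟨u, hs.RN hu⟩ : ↥(normalizer (A : Set G))) * ⟨t, hs.RN ht⟩) (by
        rw [map_mul, map_mul]
        exact hs.range_comm (hs.mem_range.mpr ⟨t, ht, rfl⟩) (hs.mem_range.mpr ⟨u, hu, rfl⟩)) hv
    simp only [Subgroup.coe_mul] at h1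
    have h2 : t * (u * v * u⁻¹) * t⁻¹ = u * v * u⁻¹ := by
      calc t * (u * v * u⁻¹) * t⁻¹ = t * u * v * (t * u)⁻¹ := by group
        _ = u * t * v * (u * t)⁻¹ := h1
        _ = u * (t * v * t⁻¹) * u⁻¹ := by group
        _ = u * v * u⁻¹ := by rw [hvt, mul_inv_cancel_right]
    exact (mul_inv_eq_iff_eq_mul.mp h2).symm
  rcases four_elems hC4 hzC hvC hp.z1 hv1 (Ne.symm hvz) (hs.sqA hp.zA) huC with e | e | e | e
  · exact absurd (conj_eq_one_iff.mp e) hv1
  · exfalso
    refine hvz ?_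
    calc v = u⁻¹ * (u * v * u⁻¹) * u := by group
      _ = u⁻¹ * (z * u) := by rw [e, mul_assoc]
      _ = z := by rw [← hp.zfix u hu, inv_mul_cancel_left]
  · exact Or.inl e
  · exact Or.inr e

theorem fixed_eq {a : G} (ha : a ∈ A) (hfix : ∀ t ∈ (R : Subgroup G), t * a * t⁻¹ = a) :
    a = 1 ∨ a = z := by
  rcases eq_or_ne a 1 with e | e
  · exact Or.inl e
  · exact Or.inr (hp.fixR ha e fun t ht => mul_inv_eq_iff_eq_mul.mp (hfix t ht))

theorem not_short_V0 {d : G} (hd : d ∈ orbN A z) (hdV : d ∈ hp.V0) : d = z := by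
  by_contra hdz
  rcases hp.fixed_eq hdV.1 (fun t ht => (hdV.2 t ht).resolve_right fun e =>
    hp.z_mul_short hd hdz (e ▸ orbN_conj hd (hp.sixteen.RN ht))) with e | e
  · exact (hp.sixteen.orbN_subset hp.zA hp.z1 hd).2 e
  · exact hdz e

theorem exists_two_fixed {v : G} (hv : v ∈ hp.V0) :
    ∃ t, t ∈ (R : Subgroup G) ∧ t ∉ A ∧ t * v = v * t := by
  have hs := hp.sixteen
  obtain ⟨t, ht, htA⟩ := hs.exists_outside
  obtain ⟨u, hu, huA, hne⟩ := hs.exists_other ht
  rcases hv.2 t ht with e | e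
  · exact ⟨t, ht, htA, mul_inv_eq_iff_eq_mul.mp e⟩
  rcases hv.2 u hu with e' | e'
  · exact ⟨u, hu, huA, mul_inv_eq_iff_eq_mul.mp e'⟩
  refine ⟨t * u, mul_mem ht hu, fun h => hne ?_, mul_inv_eq_iff_eq_mul.mp ?_⟩
  · have h1 : q (⟨t, hs.RN ht⟩ * ⟨u, hs.RN hu⟩) = 1 := hs.q_of_A h
    rw [map_mul] at h1
    exact (eq_inv_of_mul_eq_one_right h1).trans (inv_eq_of_mul_eq_one_right (hs.q_sq ht))
  · calc t * u * v * (t * u)⁻¹ = t * (u * v * u⁻¹) * t⁻¹ := by group
      _ = t * z * t⁻¹ * (t * v * t⁻¹) := by rw [e']; group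
      _ = z * (z * v) := by rw [e, hp.zfix t ht, mul_inv_cancel_right]
      _ = v := by rw [← mul_assoc, hs.sqA hp.zA, one_mul]

theorem exists_V0_elem {t : G} (ht : t ∈ (R : Subgroup G)) (htA : t ∉ A) :
    ∃ e ∈ hp.V0, e ≠ 1 ∧ e ≠ z ∧ t * e = e * t := by
  classical
  set C := A ⊓ centralizer ({t} : Set G) with hC
  haveI := Fintype.ofFinite C
  by_contra h
  push Not at h
  have hsub : (Finset.univ : Finset C).map ⟨Subtype.val, Subtype.val_injective⟩ ⊆
      ({1, z} : Finset G) := by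
    intro e he
    obtain ⟨⟨y, hy⟩, -, rfl⟩ := Finset.mem_map.mp he
    obtain ⟨hyA, hyt⟩ := Subgroup.mem_inf.mp hy
    have hyt' := (mem_centralizer_singleton_iff.mp hyt).symm
    by_contra hne
    simp only [Function.Embedding.coeFn_mk, Finset.mem_insert, Finset.mem_singleton] at hne
    push Not at hne
    exact h y (hp.fix_mem_V0 ht htA hyA hyt') hne.1 hne.2 hyt'
  have := (Finset.card_le_card hsub).trans Finset.card_le_two
  rw [Finset.card_map, Finset.card_univ, ← Nat.card_eq_fintype_card,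
    hp.sixteen.card_fix_t ht htA] at this
  omega

theorem exists_b_x : ∃ b x : G, b ∈ A ∧ b ≠ 1 ∧ b ∉ orbN A z ∧ z * b ∈ orbN A z ∧ b ∉ hp.V0 ∧
    ∃ hx : x ∈ normalizer (A : Set G), q ⟨x, hx⟩ ^ 3 = 1 ∧ q ⟨x, hx⟩ ≠ 1 ∧
      x * z = z * x ∧ x * b = b * x := by
  have hs := hp.sixteen
  haveI : Fact (Nat.Prime 3) := ⟨by norm_num⟩
  obtain ⟨e, he⟩ := exists_prime_orderOf_dvd_card' 3
    (show 3 ∣ Nat.card (stabOf q z) by rw [hp.stab12]; norm_num)
  have he3 : (e : A5) ^ 3 = 1 := by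
    rw [← he, ← orderOf_coe]; exact pow_orderOf_eq_one _
  have he1 : (e : A5) ≠ 1 := fun h' => by
    rw [← orderOf_coe, h', orderOf_one] at he; omega
  obtain ⟨⟨x, hxN⟩, hx, hxe⟩ := e.2
  have hxz : x * z = z * x := mem_centralizer_singleton_iff.mp (mem_subgroupOf.mp hx)
  set C := A ⊓ centralizer ({x} : Set G) with hC
  have hzC : z ∈ C := Subgroup.mem_inf.mpr ⟨hp.zA, mem_centralizer_singleton_iff.mpr hxz.symm⟩
  have hC4 : Nat.card C = 4 := by
    rcases hs.three_fix (n := ⟨x, hxN⟩) (by rw [hxe]; exact he3) (by rw [hxe]; exact he1) with h | h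
    · have : C = ⊥ := eq_bot_of_card_eq _ h
      rw [this, Subgroup.mem_bot] at hzC
      exact absurd hzC hp.z1
    · exact h
  -- some point of the short orbit other than `z` is fixed by `x`
  obtain ⟨d, hd, hdz, hdx⟩ : ∃ d ∈ orbN A z, d ≠ z ∧ x * d * x⁻¹ = d := by
    set D : Set G := orbN A z \ {z} with hD
    have hDc : D.ncard = 4 := by
      rw [hD, Set.ncard_diff_singleton_of_mem (mem_orbN_self z), hp.ncard_short]
    have hxzc : x * z * x⁻¹ = z := by rw [hxz, mul_inv_cancel_right]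
    have hfwd : ∀ i ∈ D, x * i * x⁻¹ ∈ D := fun i hi => ⟨orbN_conj hi.1 hxN, fun e' => hi.2 (by
      refine Set.mem_singleton_iff.mpr ?_
      calc i = x⁻¹ * (x * i * x⁻¹) * x := by group
        _ = x⁻¹ * (z * x) := by rw [Set.mem_singleton_iff.mp e', mul_assoc]
        _ = z := by rw [← hxz, inv_mul_cancel_left])⟩
    have hbwd : ∀ i ∈ D, x⁻¹ * i * x ∈ D := fun i hi =>
      ⟨by simpa using orbN_conj hi.1 (inv_mem hxN), fun e' => hi.2 (by
      refine Set.mem_singleton_iff.mpr ?_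
      calc i = x * (x⁻¹ * i * x) * x⁻¹ := by group
        _ = z := by rw [Set.mem_singleton_iff.mp e', hxzc])⟩
    let f : D ≃ D :=
      { toFun := fun i => ⟨x * i * x⁻¹, hfwd i i.2⟩
        invFun := fun i => ⟨x⁻¹ * i * x, hbwd i i.2⟩
        left_inv := fun i => Subtype.ext (by show x⁻¹ * (x * i.1 * x⁻¹) * x = i.1; group)
        right_inv := fun i => Subtype.ext (by show x * (x⁻¹ * i.1 * x) * x⁻¹ = i.1; group) }
    have hit : ∀ (k : ℕ) (i : D), (((f : D → D)^[k] i : D) : G) = x ^ k * i * (x ^ k)⁻¹ := by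
      intro k
      induction k with
      | zero => intro i; simp
      | succ k ih =>
        intro i
        rw [Function.iterate_succ_apply', pow_succ']
        show x * _ * x⁻¹ = _
        rw [ih]
        group
    have h := card_fixed_modEq f 3 fun i => Subtype.ext (by
      rw [hit]
      have := hs.act_eq (m := ⟨x, hxN⟩ ^ 3) (n := 1) (by rw [map_pow, hxe, he3, map_one])
        (hs.orbN_subset hp.zA hp.z1 i.2.1).1
      simpa using this)
    rw [Nat.card_coe_set_eq, hDc] at h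
    obtain ⟨⟨⟨i, hi⟩, hfi⟩⟩ : Nonempty {i : D // f i = i} := by
      by_contra hemp
      rw [not_nonempty_iff] at hemp
      rw [Nat.card_of_isEmpty] at h
      simp [Nat.ModEq] at h
    exact ⟨i, hi.1, hi.2, congrArg Subtype.val hfi⟩
  obtain ⟨hdA, hd1⟩ := hs.orbN_subset hp.zA hp.z1 hd
  have hzdd : z * (z * d) = d := by rw [← mul_assoc, hs.sqA hp.zA, one_mul]
  refine ⟨z * d, x, mul_mem hp.zA hdA, ?_, hp.z_mul_short hd hdz, by rw [hzdd]; exact hd, ?_, hxN,
    by rw [hxe]; exact he3, by rw [hxe]; exact he1, hxz, ?_⟩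
  · intro e'
    exact hdz (by rw [← hzdd, e', mul_one])
  · intro hV
    exact hdz (hp.not_short_V0 hd (hzdd ▸ mul_mem (hp.moved_z : z ∈ hp.V0) hV))
  · rw [← mul_assoc, hxz, mul_assoc, mul_inv_eq_iff_eq_mul.mp hdx, ← mul_assoc]

theorem card_V0 {b : G} (hb : b ∈ A) (hbV : b ∉ hp.V0) : Nat.card hp.V0 = 8 := by
  classical
  have hs := hp.sixteen
  obtain ⟨t, ht, htA⟩ := hs.exists_outside
  obtain ⟨u, hu, huA, hne⟩ := hs.exists_other ht
  obtain ⟨e, he, he1, hez, het⟩ := hp.exists_V0_elem ht htA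
  obtain ⟨e', he', he'1, he'z, he'u⟩ := hp.exists_V0_elem hu huA
  have hee : e ≠ e' := fun h => by
    subst h
    rcases hp.fixed_eq he.1 fun r hr => mul_inv_eq_iff_eq_mul.mpr (hs.fixed_of_range_le he.1
      (hs.range_le_stab he.1 ht htA hu huA hne (mul_inv_eq_iff_eq_mul.mpr het)
        (mul_inv_eq_iff_eq_mul.mpr he'u)) hr) with h | h
    · exact he1 h
    · exact hez h
  have hd : Nat.card hp.V0 ∣ 2 ^ 4 := by
    have := card_dvd_of_le hp.V0_le
    rwa [hs.card_A] at this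
  have hne16 : Nat.card hp.V0 ≠ 16 := fun h =>
    hbV ((eq_of_le_of_card_ge hp.V0_le (by rw [hs.card_A, h])).symm ▸ hb)
  have h5 : 4 < Nat.card hp.V0 := by
    by_contra hle
    obtain ⟨k, hk, hke⟩ := (Nat.dvd_prime_pow Nat.prime_two).mp hd
    haveI := Fintype.ofFinite hp.V0
    have hsub : ({1, z, e, e'} : Finset G) ⊆ (Finset.univ : Finset hp.V0).map
        ⟨Subtype.val, Subtype.val_injective⟩ := by
      intro y hy
      simp only [Finset.mem_insert, Finset.mem_singleton] at hy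
      rcases hy with h | h | h | h <;> rw [h]
      · simp [one_mem]
      · simp [show z ∈ hp.V0 from hp.moved_z]
      · simp [he]
      · simp [he']
    have h4 : ({1, z, e, e'} : Finset G).card = 4 := by
      simp [hp.z1.symm, he1.symm, he'1.symm, hez.symm, he'z.symm, hee]
    have h5' := Finset.card_le_card hsub
    rw [Finset.card_map, Finset.card_univ, ← Nat.card_eq_fintype_card, h4] at h5'
    have hc4 : Nat.card hp.V0 = 4 := by omega
    rcases four_elems hc4 (show z ∈ hp.V0 from hp.moved_z) he hp.z1 he1 hez.symm (hs.sqA hp.zA) he'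
      with h | h | h | h
    · exact he'1 h
    · exact he'z h
    · exact hee h.symm
    · refine hez ?_
      have hfix : ∀ r ∈ (R : Subgroup G), r * e * r⁻¹ = e := fun r hr =>
        mul_inv_eq_iff_eq_mul.mpr (hs.fixed_of_range_le he.1
          (hs.range_le_stab he.1 ht htA hu huA hne (mul_inv_eq_iff_eq_mul.mpr het) (by
            have h2 : u * (z * e) = z * e * u := h ▸ he'u
            rw [← mul_assoc, hp.zfix u hu, mul_assoc, mul_assoc] at h2
            exact mul_inv_eq_iff_eq_mul.mpr (mul_left_cancel h2))) hr)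
      exact ((hp.fixed_eq he.1 hfix).resolve_left he1)
  obtain ⟨k, hk, hke⟩ := (Nat.dvd_prime_pow Nat.prime_two).mp hd
  rw [hke] at h5 hne16 ⊢
  interval_cases k <;> first | rfl | omega | norm_num at h5 hne16 ⊢

theorem outside_fix {a : G} (ha : a ∈ A) (haV : a ∉ hp.V0) {t : G} (ht : t ∈ (R : Subgroup G))
    (h : t * a = a * t) : t ∈ A := by
  by_contra htA
  exact haV (hp.fix_mem_V0 ht htA ha h)

/-- Outside `V₀` exactly one of `a`, `z a` is in the short orbit. -/
theorem outside_short {b : G} (hb : b ∈ A) (hbV : b ∉ hp.V0) {a : G} (ha : a ∈ A)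
    (haV : a ∉ hp.V0) : a ∈ orbN A z ∨ z * a ∈ orbN A z := by
  have hs := hp.sixteen
  set D : Set G := orbN A z \ {z} with hD
  set E : Set G := (fun d => z * d) '' D with hE
  have hDc : D.ncard = 4 := by
    rw [hD, Set.ncard_diff_singleton_of_mem (mem_orbN_self z), hp.ncard_short]
  have hEc : E.ncard = 4 := by
    rw [hE, Set.ncard_image_of_injective _ (mul_right_injective z), hDc]
  have hdisj : Disjoint D E := by
    rw [Set.disjoint_left]
    rintro _ hd ⟨d', hd', rfl⟩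
    exact hp.z_mul_short hd'.1 hd'.2 hd.1
  have hsub : D ∪ E ⊆ (A : Set G) \ (hp.V0 : Set G) := by
    rintro i (hi | ⟨d, hd, rfl⟩)
    · exact ⟨(hs.orbN_subset hp.zA hp.z1 hi.1).1, fun h => hi.2 (hp.not_short_V0 hi.1 h)⟩
    · refine ⟨mul_mem hp.zA (hs.orbN_subset hp.zA hp.z1 hd.1).1, fun h => hd.2 ?_⟩
      refine hp.not_short_V0 hd.1 ?_
      have := mul_mem (hp.moved_z : z ∈ hp.V0) h
      rwa [← mul_assoc, hs.sqA hp.zA, one_mul] at this
  have hA16 : ((A : Set G) \ (hp.V0 : Set G)).ncard = 8 := by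
    rw [Set.ncard_diff (show (hp.V0 : Set G) ⊆ A from hp.V0_le), ← Nat.card_coe_set_eq,
      ← Nat.card_coe_set_eq]
    show Nat.card A - Nat.card hp.V0 = 8
    rw [hs.card_A, hp.card_V0 hb hbV]
  have heq := Set.eq_of_subset_of_ncard_le hsub
    (by rw [hA16, Set.ncard_union_eq hdisj, hDc, hEc])
  have : a ∈ D ∪ E := by rw [heq]; exact ⟨ha, haV⟩
  rcases this with h | ⟨d, hd, rfl⟩
  · exact Or.inl h.1
  · exact Or.inr (by rw [← mul_assoc, hs.sqA hp.zA, one_mul]; exact hd.1)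

theorem range_normal {n : ↥(normalizer (A : Set G))} (hn : (n : G) * z = z * n) {t : G}
    (ht : t ∈ (R : Subgroup G)) :
    ∃ u, ∃ hu : u ∈ (R : Subgroup G),
      q (n * ⟨t, hp.sixteen.RN ht⟩ * n⁻¹) = q ⟨u, hp.sixteen.RN hu⟩ := by
  have h := hp.stab_normal hp.zA hp.stab12 hp.range_le
    ((hp.sixteen.mem_stab hp.zA).mpr (mul_inv_eq_iff_eq_mul.mpr hn))
    (hp.sixteen.mem_range.mpr ⟨t, ht, rfl⟩)
  obtain ⟨u, hu, e⟩ := hp.sixteen.mem_range.mp h
  exact ⟨u, hu, by rw [map_mul, map_mul, map_inv]; exact e.symm⟩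

theorem conj_V0 {n : ↥(normalizer (A : Set G))} (hn : (n : G) * z = z * n) {v : G}
    (hv : v ∈ hp.V0) : (n : G) * v * (n : G)⁻¹ ∈ hp.V0 := by
  have hs := hp.sixteen
  refine ⟨hs.conjA n hv.1, fun t ht => ?_⟩
  obtain ⟨u, hu, he⟩ := hp.range_normal (n := n⁻¹)
    (by rw [Subgroup.coe_inv]
        exact ((show Commute (n : G) z from hn).inv_left).eq) ht
  rw [inv_inv] at he
  have h1 := hs.act_eq he hv.1
  simp only [Subgroup.coe_mul, Subgroup.coe_inv] at h1
  have h2 : t * ((n : G) * v * (n : G)⁻¹) * t⁻¹ = (n : G) * (u * v * u⁻¹) * (n : G)⁻¹ := by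
    rw [← h1]; group
  rw [h2]
  rcases hv.2 u hu with e | e <;> rw [e]
  · exact Or.inl rfl
  · right
    rw [← mul_assoc, hn]; group

/-- An element of order three over `stab z` fixes nothing in `V₀` but `1` and `z`. -/
theorem three_free {n : ↥(normalizer (A : Set G))} (hn : (n : G) * z = z * n) (h3 : q n ^ 3 = 1)
    (h1 : q n ≠ 1) {v : G} (hv : v ∈ hp.V0) (hfix : (n : G) * v = v * n) : v = 1 ∨ v = z := by
  have hs := hp.sixteen
  obtain ⟨t, ht, htA, htv⟩ := hp.exists_two_fixed hv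
  obtain ⟨u, hu, he⟩ := hp.range_normal hn ht
  have huA : u ∉ A := fun h => htA (hs.qR_one ht (by
    have h' := hs.q_of_A (n := ⟨u, hs.RN hu⟩) h
    rw [← he, map_mul, map_mul, map_inv] at h'
    exact conj_eq_one_iff.mp h'))
  have hne : q ⟨u, hs.RN hu⟩ ≠ q ⟨t, hs.RN ht⟩ := by
    intro e
    rw [← he, map_mul, map_mul, map_inv] at e
    have h2 := a5_sq_of_commute _ (hs.q_sq ht) (fun e' => htA (hs.qR_one ht e')) (q n)
      (mul_inv_eq_iff_eq_mul.mp e)
    rw [pow_succ, sq, h2, one_mul] at h3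
    exact h1 h3
  have h2 : u * v * u⁻¹ = v := by
    have h' := hs.act_eq he hv.1
    simp only [Subgroup.coe_mul, Subgroup.coe_inv] at h'
    rw [← h']
    calc (n : G) * t * (n : G)⁻¹ * v * ((n : G) * t * (n : G)⁻¹)⁻¹
        = (n : G) * (t * ((n : G)⁻¹ * (v * n)) * t⁻¹) * (n : G)⁻¹ := by group
      _ = v := by rw [← hfix, inv_mul_cancel_left, htv, mul_inv_cancel_right, hfix,
            mul_inv_cancel_right]
  exact hp.fixed_eq hv.1 fun r hr => mul_inv_eq_iff_eq_mul.mpr (hs.fixed_of_range_le hv.1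
    (hs.range_le_stab hv.1 ht htA hu huA hne (mul_inv_eq_iff_eq_mul.mpr htv) h2) hr)

theorem odd_fix_central {n : ↥(normalizer (A : Set G))} (hn : (n : G) * z = z * n) {v : G}
    (hv : v ∈ hp.V0) (hv1 : v ≠ 1) (hvz : v ≠ z) (hfix : (n : G) * v = v * n)
    (ho : Odd (orderOf (n : G))) : (n : G) ∈ centralizer (A : Set G) := by
  have hs := hp.sixteen
  refine (hs.ker n).mp ?_
  by_contra h1
  have hodd : Odd (orderOf (q n)) := by
    refine ho.of_dvd_nat ?_
    rw [Subgroup.orderOf_coe]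
    exact orderOf_map_dvd q n
  have hd : orderOf (q n) ∣ 12 := by
    rw [← hp.stab12]
    exact (stabOf q z).orderOf_dvd_natCard ((hs.mem_stab hp.zA).mpr (mul_inv_eq_iff_eq_mul.mpr hn))
  have h3 : orderOf (q n) ∣ 3 := by
    have hc : (orderOf (q n)).Coprime 4 :=
      (Nat.coprime_two_right.mpr hodd).pow_right 2
    exact hc.dvd_of_dvd_mul_left (show orderOf (q n) ∣ 4 * 3 from hd)
  rcases hp.three_free hn (orderOf_dvd_iff_pow_eq_one.mp h3) h1 hv hfix with e | e
  · exact hv1 e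
  · exact hvz e

/-- Every element of `A#` is conjugate in `N(A)` to `z` or to `b`. -/
theorem two_orbits {b : G} (hb : b ∈ A) (hb1 : b ≠ 1) (hbz : b ∉ orbN A z) {a : G} (ha : a ∈ A)
    (ha1 : a ≠ 1) : a ∈ orbN A z ∨ a ∈ orbN A b := by
  by_cases haz : a ∈ orbN A z
  · exact Or.inl haz
  · right
    rw [(hp.long_orbit hb hb1 hbz).1]
    exact ⟨⟨ha, ha1⟩, haz⟩

/-- Three classes: `z`, `b` and the involutions outside `A`. -/
theorem classes3 {b : G} (hb : b ∈ A) (hb1 : b ≠ 1) (hbz : b ∉ orbN A z) :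
    ¬ IsConj z b ∧ (∃ s, s ∈ (R : Subgroup G) ∧ s ∉ A ∧ orderOf s = 2) ∧
      Cfsg.IsStronglyClosed A (R : Subgroup G) := by
  have hs := hp.sixteen
  obtain ⟨s, hcov⟩ := hs.cover_outside
  have hall : ∀ g : G, orderOf g = 2 → IsConj g z ∨ IsConj g b ∨
      (IsConj g s ∧ ∃ s', s' ∈ (R : Subgroup G) ∧ s' ∉ A ∧ orderOf s' = 2) := by
    intro g hg
    obtain ⟨g', hg', hgc, hgo⟩ := Involution.exists_isConj_mem_sylow R hg
    by_cases hA' : g' ∈ A
    · rcases hp.two_orbits hb hb1 hbz hA' (Involution.ne_one_of_orderOf hgo) with h | h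
      · exact Or.inl (hgc.trans (isConj_of_orbN h).symm)
      · exact Or.inr (Or.inl (hgc.trans (isConj_of_orbN h).symm))
    · exact Or.inr (Or.inr ⟨hgc.trans (hcov g' hg' hA' hgo).symm, g', hg', hA', hgo⟩)
  refine ⟨fun hzb => ?_, ?_, hs.AR, ?_⟩
  · obtain ⟨g, hg, hgz, hgs⟩ := hp.classes z s
    rcases hall g hg with h | h | h
    · exact hgz h
    · exact hgz (h.trans hzb.symm)
    · exact hgs h.1
  · obtain ⟨g, hg, hgz, hgb⟩ := hp.classes z b
    rcases hall g hg with h | h | h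
    · exact absurd h hgz
    · exact absurd h hgb
    · exact h.2
  · intro a ha g hg
    by_contra hgA
    have ha1 : a ≠ 1 := by
      rintro rfl
      exact hgA (by rw [mul_one, mul_inv_cancel]; exact one_mem A)
    have hg2 : orderOf (g * a * g⁻¹) = 2 := by
      rw [← MulAut.conj_apply, MulEquiv.orderOf_eq]; exact hs.ordA ha ha1
    have hsa : IsConj s a := (hcov _ hg hgA hg2).trans (isConj_iff.mpr ⟨g⁻¹, by group⟩)
    obtain ⟨w, hw, hwz, hwb⟩ := hp.classes z b
    rcases hall w hw with h | h | h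
    · exact hwz h
    · exact hwb h
    · rcases hp.two_orbits hb hb1 hbz ha ha1 with h' | h'
      · exact hwz ((h.1.trans hsa).trans (isConj_of_orbN h').symm)
      · exact hwb ((h.1.trans hsa).trans (isConj_of_orbN h').symm)

theorem centralizer_two {y : G} (hy : y ∈ centralizer (A : Set G))
    (h2 : IsPGroup 2 (zpowers y)) : y ∈ A := by
  have hyN : y ∈ normalizer (A : Set G) := centralizer_le_normalizer _ hy
  exact hp.sixteen.mem_A_of_q (n := ⟨y, hyN⟩) ((hp.sixteen.ker _).mpr hy) h2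

end Pointed

end Cfsg.Agent.StrClosed41
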